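import Mathlib

/-!
# (L1*), Klein four Sylow 2-subgroups: the two arithmetic endings

* `eq_fifteen`: `∑ 1/z_j ≤ 8/15 ≤ ∏ (f_i + 1) / ∏ f_i`.
* `hadamard`: three `±1`-vectors with the same support of four elements.
-/

set_option autoImplicit false

namespace Cfsg.Agent.Classification.TypeZIV.FourArith

/-! ### (A) -/

theorem three_pos {a b c : ℚ} (ha : 5 ≤ a) (hb : 5 ≤ b) (hc : 5 ≤ c) :
    1 / a + 1 / b + 1 / c - 1 / (a + b + c) ≤ 8 / 15 := by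
  have key : ∀ x s : ℚ, 5 ≤ x → x ≤ s → 1 / x ≤ 1 / 5 - (x - 5) / (15 * s) := by
    intro x s hx hs
    have h1 : (x - 5) / (15 * s) ≤ (x - 5) / (5 * x) := by
      apply div_le_div_of_nonneg_left (by linarith) (by linarith) (by linarith)
    have h2 : (x - 5) / (5 * x) = 1 / 5 - 1 / x := by
      field_simp
    linarith
  set s := a + b + c with hs
  have h1 := key a s ha (by linarith)
  have h2 := key b s hb (by linarith)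
  have h3 := key c s hc (by linarith)
  have hs15 : 15 ≤ s := by linarith
  have h4 : (a - 5) / (15 * s) + (b - 5) / (15 * s) + (c - 5) / (15 * s) + 1 / s = 1 / 15 := by
    have : a + b + c = s := hs.symm
    field_simp
    linarith
  linarith

theorem inv_le_of_pos {x : ℚ} (hx : 5 ≤ x) : 1 / x ≤ 1 / 5 := by
  apply one_div_le_one_div_of_le (by norm_num) hx

theorem inv_le_of_neg {x : ℚ} (hx : x < 0) : 1 / x ≤ 0 := by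
  rw [one_div]; exact inv_nonpos.2 hx.le

/-- `z ≡ 1 mod 4`, `z ≠ 1` -/
theorem cases_z {z : ℤ} (h : (4 : ℤ) ∣ z - 1) (h1 : z ≠ 1) : (5 : ℚ) ≤ z ∨ (z : ℚ) < 0 := by
  have : 5 ≤ z ∨ z < 0 := by omega
  rcases this with h | h
  · left; exact_mod_cast h
  · right; exact_mod_cast h

theorem sum_inv_le {z₁ z₂ z₃ z₄ : ℤ} (h₁ : (4 : ℤ) ∣ z₁ - 1) (h₂ : (4 : ℤ) ∣ z₂ - 1)
    (h₃ : (4 : ℤ) ∣ z₃ - 1) (h₄ : (4 : ℤ) ∣ z₄ - 1) (n₁ : z₁ ≠ 1) (n₂ : z₂ ≠ 1) (n₃ : z₃ ≠ 1)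
    (n₄ : z₄ ≠ 1) (hs : z₁ + z₂ + z₃ + z₄ = 0) :
    1 / (z₁ : ℚ) + 1 / (z₂ : ℚ) + 1 / (z₃ : ℚ) + 1 / (z₄ : ℚ) ≤ 8 / 15 := by
  have hs' : (z₁ : ℚ) + z₂ + z₃ + z₄ = 0 := by exact_mod_cast hs
  have c := @inv_le_of_pos
  have d := @inv_le_of_neg
  rcases cases_z h₁ n₁ with p₁ | p₁ <;> rcases cases_z h₂ n₂ with p₂ | p₂ <;>
    rcases cases_z h₃ n₃ with p₃ | p₃ <;> rcases cases_z h₄ n₄ with p₄ | p₄
  · linarith
  · have e : (z₄ : ℚ) = -(z₁ + z₂ + z₃) := by linarith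
    have := three_pos p₁ p₂ p₃
    rw [e, one_div_neg_eq_neg_one_div]
    linarith
  · have e : (z₃ : ℚ) = -(z₁ + z₂ + z₄) := by linarith
    have := three_pos p₁ p₂ p₄
    rw [e, one_div_neg_eq_neg_one_div]
    linarith
  · linarith [c p₁, c p₂, d p₃, d p₄]
  · have e : (z₂ : ℚ) = -(z₁ + z₃ + z₄) := by linarith
    have := three_pos p₁ p₃ p₄
    rw [e, one_div_neg_eq_neg_one_div]
    linarith
  · linarith [c p₁, d p₂, c p₃, d p₄]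
  · linarith [c p₁, d p₂, d p₃, c p₄]
  · linarith [c p₁, d p₂, d p₃, d p₄]
  · have e : (z₁ : ℚ) = -(z₂ + z₃ + z₄) := by linarith
    have := three_pos p₂ p₃ p₄
    rw [e, one_div_neg_eq_neg_one_div]
    linarith
  · linarith [d p₁, c p₂, c p₃, d p₄]
  · linarith [d p₁, c p₂, d p₃, c p₄]
  · linarith [d p₁, c p₂, d p₃, d p₄]
  · linarith [d p₁, d p₂, c p₃, c p₄]
  · linarith [d p₁, d p₂, c p₃, d p₄]
  · linarith [d p₁, d p₂, d p₃, c p₄]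
  · linarith [d p₁, d p₂, d p₃, d p₄]

/-- one negative factor -/
theorem ratio_one {p q : ℤ} (hp : 1 ≤ p) (hq : 1 ≤ q) :
    (8 : ℤ) * (p * q * (p + q + 1)) ≤ 15 * ((p + 1) * (q + 1) * (p + q)) := by
  obtain ⟨a, rfl⟩ : ∃ a, p = 1 + a := ⟨p - 1, by ring⟩
  obtain ⟨b, rfl⟩ : ∃ b, q = 1 + b := ⟨q - 1, by ring⟩
  have ha : 0 ≤ a := by linarith
  have hb : 0 ≤ b := by linarith
  have hab := mul_nonneg ha hb
  have h1 := mul_nonneg hab ha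
  have h2 := mul_nonneg hab hb
  have h3 := mul_nonneg ha ha
  have h4 := mul_nonneg hb hb
  nlinarith

/-- two negative factors -/
theorem ratio_two {m n : ℤ} (hm : 3 ≤ m) (hn : 3 ≤ n) :
    (8 : ℤ) * ((m + n - 1) * m * n) ≤ 15 * ((m + n) * (m - 1) * (n - 1)) := by
  obtain ⟨a, rfl⟩ : ∃ a, m = 3 + a := ⟨m - 3, by ring⟩
  obtain ⟨b, rfl⟩ : ∃ b, n = 3 + b := ⟨n - 3, by ring⟩
  have ha : 0 ≤ a := by linarith
  have hb : 0 ≤ b := by linarith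
  have hab := mul_nonneg ha hb
  have h1 := mul_nonneg hab ha
  have h2 := mul_nonneg hab hb
  have h3 := mul_nonneg ha ha
  have h4 := mul_nonneg hb hb
  nlinarith

/-- `N ∏ (f_i + 1) = Q ∏ f_i` implies `8 N ≤ 15 Q`. -/
theorem le_of_ratio {f₁ f₂ f₃ N Q : ℤ} (h₁ : (4 : ℤ) ∣ f₁ - 1) (h₂ : (4 : ℤ) ∣ f₂ - 1)
    (h₃ : (4 : ℤ) ∣ f₃ - 1) (hs : 1 + f₁ + f₂ + f₃ = 0) (hN : 0 ≤ N)
    (h : N * ((f₁ + 1) * (f₂ + 1) * (f₃ + 1)) = Q * (f₁ * f₂ * f₃)) : 8 * N ≤ 15 * Q := by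
  -- the general step: `F = ∏ f_i`, `E = ∏ (f_i + 1)`
  have stepneg : ∀ F E : ℤ, F < 0 → 15 * E ≤ 8 * F → N * E = Q * F → 8 * N ≤ 15 * Q := by
    intro F E hF hE hNE
    by_contra hcon
    push Not at hcon
    have h5 : (15 * Q) * F > (8 * N) * F := by nlinarith
    have h6 : N * (15 * E) ≤ N * (8 * F) := mul_le_mul_of_nonneg_left hE hN
    nlinarith
  have steppos : ∀ F E : ℤ, 0 < F → 8 * F ≤ 15 * E → N * E = Q * F → 8 * N ≤ 15 * Q := by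
    intro F E hF hE hNE
    by_contra hcon
    push Not at hcon
    have h5 : (15 * Q) * F < (8 * N) * F := by nlinarith
    have h6 : N * (8 * F) ≤ N * (15 * E) := mul_le_mul_of_nonneg_left hE hN
    nlinarith
  have c : ∀ f : ℤ, (4 : ℤ) ∣ f - 1 → 1 ≤ f ∨ f ≤ -3 := by intro f hf; omega
  -- the two kinds
  have one : ∀ p q : ℤ, 1 ≤ p → 1 ≤ q → N * ((p + 1) * (q + 1) * (-(p + q + 1) + 1)) =
      Q * (p * q * (-(p + q + 1))) → 8 * N ≤ 15 * Q := by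
    intro p q hp hq hNE
    refine stepneg _ _ ?_ ?_ hNE
    · have : 0 < p * q * (p + q + 1) := by positivity
      linarith [this, show p * q * (-(p + q + 1)) = -(p * q * (p + q + 1)) by ring]
    · have := ratio_one hp hq
      linarith [this, show p * q * (-(p + q + 1)) = -(p * q * (p + q + 1)) by ring,
        show (p + 1) * (q + 1) * (-(p + q + 1) + 1) = -((p + 1) * (q + 1) * (p + q)) by ring]
  have two : ∀ m n : ℤ, 3 ≤ m → 3 ≤ n → N * ((m + n - 1 + 1) * (-m + 1) * (-n + 1)) =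
      Q * ((m + n - 1) * (-m) * (-n)) → 8 * N ≤ 15 * Q := by
    intro m n hm hn hNE
    refine steppos _ _ ?_ ?_ hNE
    · have h7 : 0 < m + n - 1 := by linarith
      have : 0 < (m + n - 1) * m * n := by positivity
      linarith [this, show (m + n - 1) * (-m) * (-n) = (m + n - 1) * m * n by ring]
    · have := ratio_two hm hn
      linarith [this, show (m + n - 1) * (-m) * (-n) = (m + n - 1) * m * n by ring,
        show (m + n - 1 + 1) * (-m + 1) * (-n + 1) = (m + n) * (m - 1) * (n - 1) by ring]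
  rcases c f₁ h₁ with p₁ | p₁ <;> rcases c f₂ h₂ with p₂ | p₂ <;> rcases c f₃ h₃ with p₃ | p₃
  · omega
  · obtain rfl : f₃ = -(f₁ + f₂ + 1) := by linarith
    exact one f₁ f₂ p₁ p₂ h
  · obtain rfl : f₂ = -(f₁ + f₃ + 1) := by linarith
    exact one f₁ f₃ p₁ p₃ (by linarith [h, show (f₁ + 1) * (-(f₁ + f₃ + 1) + 1) * (f₃ + 1) = (f₁ + 1) * (f₃ + 1) * (-(f₁ + f₃ + 1) + 1) by ring])
  · obtain ⟨m, rfl⟩ : ∃ m, f₂ = -m := ⟨-f₂, by ring⟩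
    obtain ⟨n, rfl⟩ : ∃ n, f₃ = -n := ⟨-f₃, by ring⟩
    obtain rfl : f₁ = m + n - 1 := by linarith
    exact two m n (by linarith) (by linarith) h
  · obtain rfl : f₁ = -(f₂ + f₃ + 1) := by linarith
    refine one f₂ f₃ p₂ p₃ ?_
    have e1 : (f₂ + 1) * (f₃ + 1) * (-(f₂ + f₃ + 1) + 1) =
      (-(f₂ + f₃ + 1) + 1) * (f₂ + 1) * (f₃ + 1) := by ring
    have e2 : f₂ * f₃ * (-(f₂ + f₃ + 1)) = -(f₂ + f₃ + 1) * f₂ * f₃ := by ring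
    rw [e1, e2]; exact h
  · obtain ⟨m, rfl⟩ : ∃ m, f₁ = -m := ⟨-f₁, by ring⟩
    obtain ⟨n, rfl⟩ : ∃ n, f₃ = -n := ⟨-f₃, by ring⟩
    obtain rfl : f₂ = m + n - 1 := by linarith
    refine two m n (by linarith) (by linarith) ?_
    have e1 : (m + n - 1 + 1) * (-m + 1) * (-n + 1) = (-m + 1) * (m + n - 1 + 1) * (-n + 1) := by
      ring
    have e2 : (m + n - 1) * (-m) * (-n) = (-m) * (m + n - 1) * (-n) := by ring
    rw [e1, e2]; exact h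
  · obtain ⟨m, rfl⟩ : ∃ m, f₁ = -m := ⟨-f₁, by ring⟩
    obtain ⟨n, rfl⟩ : ∃ n, f₂ = -n := ⟨-f₂, by ring⟩
    obtain rfl : f₃ = m + n - 1 := by linarith
    refine two m n (by linarith) (by linarith) ?_
    have e1 : (m + n - 1 + 1) * (-m + 1) * (-n + 1) = (-m + 1) * (-n + 1) * (m + n - 1 + 1) := by
      ring
    have e2 : (m + n - 1) * (-m) * (-n) = (-m) * (-n) * (m + n - 1) := by ring
    rw [e1, e2]; exact h
  · omega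

/-- **(A)** `N = 15 k₀ k₁`. -/
theorem eq_fifteen {f₁ f₂ f₃ z₁ z₂ z₃ z₄ : ℤ} {N k₀ k₁ : ℕ} (hf₁ : (4 : ℤ) ∣ f₁ - 1)
    (hf₂ : (4 : ℤ) ∣ f₂ - 1) (hf₃ : (4 : ℤ) ∣ f₃ - 1) (hfs : 1 + f₁ + f₂ + f₃ = 0)
    (hf : (N : ℤ) * ((f₁ + 1) * (f₂ + 1) * (f₃ + 1)) =
      (8 * (k₀ : ℤ) * (k₁ : ℤ)) * (f₁ * f₂ * f₃))
    (h₁ : (4 : ℤ) ∣ z₁ - 1) (h₂ : (4 : ℤ) ∣ z₂ - 1) (h₃ : (4 : ℤ) ∣ z₃ - 1) (h₄ : (4 : ℤ) ∣ z₄ - 1)
    (n₁ : z₁ ≠ 1) (n₂ : z₂ ≠ 1) (n₃ : z₃ ≠ 1) (n₄ : z₄ ≠ 1) (hs : z₁ + z₂ + z₃ + z₄ = 0)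
    (hz : (N : ℚ) * (1 / (z₁ : ℚ) + 1 / (z₂ : ℚ) + 1 / (z₃ : ℚ) + 1 / (z₄ : ℚ)) = 8 * k₀ * k₁) :
    N = 15 * k₀ * k₁ := by
  have h5 := le_of_ratio hf₁ hf₂ hf₃ hfs (by positivity) hf
  have h6 := sum_inv_le h₁ h₂ h₃ h₄ n₁ n₂ n₃ n₄ hs
  have h7 : (8 * k₀ * k₁ : ℚ) ≤ N * (8 / 15) := by
    rw [← hz]
    exact mul_le_mul_of_nonneg_left h6 (by positivity)
  have h8 : (15 * k₀ * k₁ : ℚ) ≤ N := by linarith
  have h9 : 15 * k₀ * k₁ ≤ N := by exact_mod_cast h8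
  have h10 : (N : ℤ) ≤ 15 * k₀ * k₁ := by linarith
  have h11 : N ≤ 15 * k₀ * k₁ := by exact_mod_cast h10
  exact le_antisymm h11 h9

/-- **(A)** for a set `s` of four indices. -/
theorem eq_fifteen_finset {ι : Type*} {s : Finset ι} (hcard : s.card = 4) {z : ι → ℤ}
    {f₁ f₂ f₃ : ℤ} {N k₀ k₁ : ℕ} (hf₁ : (4 : ℤ) ∣ f₁ - 1)
    (hf₂ : (4 : ℤ) ∣ f₂ - 1) (hf₃ : (4 : ℤ) ∣ f₃ - 1) (hfs : 1 + f₁ + f₂ + f₃ = 0)
    (hf : (N : ℤ) * ((f₁ + 1) * (f₂ + 1) * (f₃ + 1)) =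
      (8 * (k₀ : ℤ) * (k₁ : ℤ)) * (f₁ * f₂ * f₃))
    (h : ∀ i ∈ s, (4 : ℤ) ∣ z i - 1) (h1 : ∀ i ∈ s, z i ≠ 1) (hs : ∑ i ∈ s, z i = 0)
    (hz : (N : ℚ) * (∑ i ∈ s, 1 / (z i : ℚ)) = 8 * k₀ * k₁) : N = 15 * k₀ * k₁ := by
  classical
  obtain ⟨a, b, c, d, hab, hac, had, hbc, hbd, hcd, rfl⟩ := Finset.card_eq_four.1 hcard
  have ha : a ∈ ({a, b, c, d} : Finset ι) := by simp
  have hb : b ∈ ({a, b, c, d} : Finset ι) := by simp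
  have hc : c ∈ ({a, b, c, d} : Finset ι) := by simp
  have hd : d ∈ ({a, b, c, d} : Finset ι) := by simp
  have e : ∀ {R : Type} [AddCommMonoid R] (g : ι → R),
      ∑ i ∈ ({a, b, c, d} : Finset ι), g i = g a + g b + g c + g d := by
    intro R _ g
    rw [Finset.sum_insert (by simp [hab, hac, had]), Finset.sum_insert (by simp [hbc, hbd]),
      Finset.sum_insert (by simp [hcd]), Finset.sum_singleton]
    simp only [add_assoc]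
  rw [e] at hs hz
  exact eq_fifteen hf₁ hf₂ hf₃ hfs hf (h a ha) (h b hb) (h c hc) (h d hd) (h1 a ha) (h1 b hb)
    (h1 c hc) (h1 d hd) hs hz

/-! ### (B) -/

/-- Four points: `a`, `b` are `±1`, `∑ a = ∑ b = ∑ ab = 0` and `D` is orthogonal to `1, a, b`. -/
theorem four_points {a₁ a₂ a₃ a₄ b₁ b₂ b₃ b₄ D₁ D₂ D₃ D₄ : ℤ}
    (ha₁ : a₁ = 1 ∨ a₁ = -1) (ha₂ : a₂ = 1 ∨ a₂ = -1) (ha₃ : a₃ = 1 ∨ a₃ = -1)
    (ha₄ : a₄ = 1 ∨ a₄ = -1) (hb₁ : b₁ = 1 ∨ b₁ = -1) (hb₂ : b₂ = 1 ∨ b₂ = -1)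
    (hb₃ : b₃ = 1 ∨ b₃ = -1) (hb₄ : b₄ = 1 ∨ b₄ = -1) (hsa : a₁ + a₂ + a₃ + a₄ = 0)
    (hsb : b₁ + b₂ + b₃ + b₄ = 0) (hsab : a₁ * b₁ + a₂ * b₂ + a₃ * b₃ + a₄ * b₄ = 0)
    (hD : D₁ + D₂ + D₃ + D₄ = 0) (hDa : a₁ * D₁ + a₂ * D₂ + a₃ * D₃ + a₄ * D₄ = 0)
    (hDb : b₁ * D₁ + b₂ * D₂ + b₃ * D₃ + b₄ * D₄ = 0) :
    a₁ * b₁ * D₁ = a₂ * b₂ * D₂ ∧ a₁ * b₁ * D₁ = a₃ * b₃ * D₃ ∧ a₁ * b₁ * D₁ = a₄ * b₄ * D₄ := by
  rcases ha₁ with rfl | rfl <;> rcases ha₂ with rfl | rfl <;> rcases ha₃ with rfl | rfl <;>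
    rcases ha₄ with rfl | rfl <;> first
    | (exfalso; omega)
    | (rcases hb₁ with rfl | rfl <;> rcases hb₂ with rfl | rfl <;> rcases hb₃ with rfl | rfl <;>
        rcases hb₄ with rfl | rfl <;> first
        | (exfalso; omega)
        | omega)

/-- the sums of `w i` over the common support -/
theorem sum_eq_support {X : Type*} [Fintype X] {R : Type*} [AddCommMonoid R] [DecidableEq X]
    {s : Finset X} {g : X → R} (h : ∀ x, x ∉ s → g x = 0) : ∑ x, g x = ∑ x ∈ s, g x :=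
  (Finset.sum_subset (Finset.subset_univ s) (fun x _ hx => h x hx)).symm

/-- **(B)** three pairwise orthogonal `±1`-vectors `w₀, w₁, w₂` with the same support of four elements,
orthogonal to the positive vector `d`: then `d` and `w₀ w₁ w₂` are constant on the support. -/
theorem hadamard {X : Type*} [Fintype X] {w₀ w₁ w₂ d : X → ℤ} (hd : ∀ x, 0 < d x)
    (hw₀ : ∀ x, w₀ x = 0 ∨ w₀ x = 1 ∨ w₀ x = -1) (hw₁ : ∀ x, w₁ x = 0 ∨ w₁ x = 1 ∨ w₁ x = -1)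
    (hw₂ : ∀ x, w₂ x = 0 ∨ w₂ x = 1 ∨ w₂ x = -1) (hs₁ : ∀ x, w₁ x = 0 ↔ w₀ x = 0)
    (hs₂ : ∀ x, w₂ x = 0 ↔ w₀ x = 0) (hn : ∑ x, w₀ x * w₀ x = 4)
    (h01 : ∑ x, w₀ x * w₁ x = 0) (h02 : ∑ x, w₀ x * w₂ x = 0) (h12 : ∑ x, w₁ x * w₂ x = 0)
    (hd0 : ∑ x, w₀ x * d x = 0) (hd1 : ∑ x, w₁ x * d x = 0) (hd2 : ∑ x, w₂ x * d x = 0) :
    ∃ e D : ℤ, (e = 1 ∨ e = -1) ∧ 0 < D ∧ (∀ x, w₀ x ≠ 0 → d x = D) ∧
      (∀ x, w₀ x ≠ 0 → w₀ x * w₁ x * w₂ x = e) ∧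
      ∑ x, (w₀ x : ℚ) * ((w₀ x : ℚ) + w₁ x + w₂ x) ^ 2 / (d x : ℚ) = 8 * e / D := by
  classical
  set s : Finset X := Finset.univ.filter (fun x => w₀ x ≠ 0) with hs
  have hmem : ∀ x, x ∈ s ↔ w₀ x ≠ 0 := fun x => by simp [hs]
  have h0 : ∀ x, x ∉ s → w₀ x = 0 := fun x hx => by
    by_contra h; exact hx ((hmem x).2 h)
  have h1 : ∀ x, x ∉ s → w₁ x = 0 := fun x hx => (hs₁ x).2 (h0 x hx)
  have h2 : ∀ x, x ∉ s → w₂ x = 0 := fun x hx => (hs₂ x).2 (h0 x hx)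
  have q₀ : ∀ x ∈ s, w₀ x = 1 ∨ w₀ x = -1 := fun x hx =>
    (hw₀ x).resolve_left ((hmem x).1 hx)
  have q₁ : ∀ x ∈ s, w₁ x = 1 ∨ w₁ x = -1 := fun x hx =>
    (hw₁ x).resolve_left (fun h => (hmem x).1 hx ((hs₁ x).1 h))
  have q₂ : ∀ x ∈ s, w₂ x = 1 ∨ w₂ x = -1 := fun x hx =>
    (hw₂ x).resolve_left (fun h => (hmem x).1 hx ((hs₂ x).1 h))
  have hcard : s.card = 4 := by
    rw [sum_eq_support (s := s) (fun x hx => by rw [h0 x hx, mul_zero])] at hn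
    have : ∑ x ∈ s, w₀ x * w₀ x = ∑ x ∈ s, (1 : ℤ) := by
      apply Finset.sum_congr rfl
      intro x hx
      rcases q₀ x hx with h | h <;> rw [h] <;> norm_num
    rw [this, Finset.sum_const, nsmul_eq_mul, mul_one] at hn
    exact_mod_cast hn
  obtain ⟨x₁, x₂, x₃, x₄, n12, n13, n14, n23, n24, n34, hsE⟩ := Finset.card_eq_four.1 hcard
  have e : ∀ {R : Type} [AddCommMonoid R] (g : X → R),
      ∑ i ∈ s, g i = g x₁ + g x₂ + g x₃ + g x₄ := by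
    intro R _ g
    rw [hsE, Finset.sum_insert (by simp [n12, n13, n14]), Finset.sum_insert (by simp [n23, n24]),
      Finset.sum_insert (by simp [n34]), Finset.sum_singleton]
    simp only [add_assoc]
  have m₁ : x₁ ∈ s := by rw [hsE]; simp
  have m₂ : x₂ ∈ s := by rw [hsE]; simp
  have m₃ : x₃ ∈ s := by rw [hsE]; simp
  have m₄ : x₄ ∈ s := by rw [hsE]; simp
  rw [sum_eq_support (s := s) (fun x hx => by rw [h0 x hx, zero_mul]), e] at h01 h02 hd0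
  rw [sum_eq_support (s := s) (fun x hx => by rw [h1 x hx, zero_mul]), e] at h12 hd1
  rw [sum_eq_support (s := s) (fun x hx => by rw [h2 x hx, zero_mul]), e] at hd2
  have sq : ∀ x ∈ s, w₀ x * w₀ x = 1 := fun x hx => by
    rcases q₀ x hx with h | h <;> rw [h] <;> norm_num
  have sq1 : ∀ x ∈ s, w₁ x * w₁ x = 1 := fun x hx => by
    rcases q₁ x hx with h | h <;> rw [h] <;> norm_num
  have sq2 : ∀ x ∈ s, w₂ x * w₂ x = 1 := fun x hx => by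
    rcases q₂ x hx with h | h <;> rw [h] <;> norm_num
  have pm : ∀ {u v : ℤ}, (u = 1 ∨ u = -1) → (v = 1 ∨ v = -1) → (u * v = 1 ∨ u * v = -1) := by
    rintro u v (rfl | rfl) (rfl | rfl) <;> norm_num
  have hab : ∀ x ∈ s, (w₀ x * w₁ x) * (w₀ x * w₂ x) = w₁ x * w₂ x := fun x hx => by
    calc (w₀ x * w₁ x) * (w₀ x * w₂ x) = (w₀ x * w₀ x) * (w₁ x * w₂ x) := by ring
      _ = _ := by rw [sq x hx, one_mul]
  have ha : ∀ x ∈ s, (w₀ x * w₁ x) * (w₀ x * d x) = w₁ x * d x := fun x hx => by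
    calc (w₀ x * w₁ x) * (w₀ x * d x) = (w₀ x * w₀ x) * (w₁ x * d x) := by ring
      _ = _ := by rw [sq x hx, one_mul]
  have hb : ∀ x ∈ s, (w₀ x * w₂ x) * (w₀ x * d x) = w₂ x * d x := fun x hx => by
    calc (w₀ x * w₂ x) * (w₀ x * d x) = (w₀ x * w₀ x) * (w₂ x * d x) := by ring
      _ = _ := by rw [sq x hx, one_mul]
  obtain ⟨k2, k3, k4⟩ := four_points (D₁ := w₀ x₁ * d x₁) (D₂ := w₀ x₂ * d x₂)
    (D₃ := w₀ x₃ * d x₃) (D₄ := w₀ x₄ * d x₄)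
    (pm (q₀ x₁ m₁) (q₁ x₁ m₁)) (pm (q₀ x₂ m₂) (q₁ x₂ m₂)) (pm (q₀ x₃ m₃) (q₁ x₃ m₃))
    (pm (q₀ x₄ m₄) (q₁ x₄ m₄)) (pm (q₀ x₁ m₁) (q₂ x₁ m₁)) (pm (q₀ x₂ m₂) (q₂ x₂ m₂))
    (pm (q₀ x₃ m₃) (q₂ x₃ m₃)) (pm (q₀ x₄ m₄) (q₂ x₄ m₄)) h01 h02
    (by rw [hab x₁ m₁, hab x₂ m₂, hab x₃ m₃, hab x₄ m₄]; exact h12) hd0
    (by rw [ha x₁ m₁, ha x₂ m₂, ha x₃ m₃, ha x₄ m₄]; exact hd1)
    (by rw [hb x₁ m₁, hb x₂ m₂, hb x₃ m₃, hb x₄ m₄]; exact hd2)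
  -- `w₀ w₁ w₂ d` is constant
  have E : ∀ x ∈ s, (w₀ x * w₁ x) * (w₀ x * w₂ x) * (w₀ x * d x) =
      (w₀ x * w₁ x * w₂ x) * d x := fun x hx => by
    calc (w₀ x * w₁ x) * (w₀ x * w₂ x) * (w₀ x * d x) =
        (w₀ x * w₀ x) * ((w₀ x * w₁ x * w₂ x) * d x) := by ring
      _ = _ := by rw [sq x hx, one_mul]
  have hu : ∀ x ∈ s, w₀ x * w₁ x * w₂ x = 1 ∨ w₀ x * w₁ x * w₂ x = -1 := fun x hx =>
    pm (pm (q₀ x hx) (q₁ x hx)) (q₂ x hx)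
  have const : ∀ x ∈ s, (w₀ x * w₁ x * w₂ x) * d x = (w₀ x₁ * w₁ x₁ * w₂ x₁) * d x₁ := by
    intro x hx
    rw [hsE] at hx
    simp only [Finset.mem_insert, Finset.mem_singleton] at hx
    rcases hx with rfl | rfl | rfl | rfl
    · rfl
    · rw [← E _ m₂, ← E _ m₁]; exact k2.symm
    · rw [← E _ m₃, ← E _ m₁]; exact k3.symm
    · rw [← E _ m₄, ← E _ m₁]; exact k4.symm
  have main : ∀ x ∈ s, d x = d x₁ ∧ w₀ x * w₁ x * w₂ x = w₀ x₁ * w₁ x₁ * w₂ x₁ := by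
    intro x hx
    have h3 := const x hx
    have p1 := hd x
    have p2 := hd x₁
    rcases hu x hx with h4 | h4 <;> rcases hu x₁ m₁ with h5 | h5 <;> rw [h4, h5] at h3 ⊢ <;>
      constructor <;> first | rfl | linarith
  refine ⟨w₀ x₁ * w₁ x₁ * w₂ x₁, d x₁, hu x₁ m₁, hd x₁, fun x hx => (main x ((hmem x).2 hx)).1,
    fun x hx => (main x ((hmem x).2 hx)).2, ?_⟩
  set ee : ℤ := w₀ x₁ * w₁ x₁ * w₂ x₁ with hee
  set D : ℤ := d x₁ with hD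
  have hDne : (D : ℚ) ≠ 0 := by
    have := hd x₁
    exact_mod_cast this.ne'
  -- each term
  have term : ∀ x ∈ s, (w₀ x : ℚ) * ((w₀ x : ℚ) + w₁ x + w₂ x) ^ 2 / (d x : ℚ) =
      ((3 * w₀ x + 2 * ee * (1 + w₀ x * w₁ x + w₀ x * w₂ x) : ℤ) : ℚ) / D := by
    intro x hx
    rw [(main x hx).1]
    congr 1
    have h6 : w₀ x * w₁ x = ee * w₂ x := by
      rw [← (main x hx).2]
      calc w₀ x * w₁ x = w₀ x * w₁ x * (w₂ x * w₂ x) := by rw [sq2 x hx, mul_one]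
        _ = _ := by ring
    have h7 : w₀ x * w₂ x = ee * w₁ x := by
      rw [← (main x hx).2]
      calc w₀ x * w₂ x = w₀ x * w₂ x * (w₁ x * w₁ x) := by rw [sq1 x hx, mul_one]
        _ = _ := by ring
    have h8 : w₁ x * w₂ x = ee * w₀ x := by
      rw [← (main x hx).2]
      calc w₁ x * w₂ x = w₁ x * w₂ x * (w₀ x * w₀ x) := by rw [sq x hx, mul_one]
        _ = _ := by ring
    have h9 : w₀ x * (w₀ x + w₁ x + w₂ x) ^ 2 =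
        3 * w₀ x + 2 * ee * (1 + w₀ x * w₁ x + w₀ x * w₂ x) := by
      calc w₀ x * (w₀ x + w₁ x + w₂ x) ^ 2 = w₀ x * (w₀ x * w₀ x + w₁ x * w₁ x + w₂ x * w₂ x) +
          2 * w₀ x * (w₀ x * w₁ x + w₀ x * w₂ x + w₁ x * w₂ x) := by ring
        _ = 3 * w₀ x + 2 * ee * (w₀ x * w₀ x + w₀ x * w₁ x + w₀ x * w₂ x) := by
          rw [sq x hx, sq1 x hx, sq2 x hx, h6, h7, h8]
          have h6' : w₀ x * (ee * w₂ x) = ee * (w₀ x * w₂ x) := by ring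
          have h7' : w₀ x * (ee * w₁ x) = ee * (w₀ x * w₁ x) := by ring
          have h8' : w₀ x * (ee * w₀ x) = ee * (w₀ x * w₀ x) := by ring
          rw [show 2 * w₀ x * (ee * w₂ x + ee * w₁ x + ee * w₀ x) =
            2 * ee * (w₀ x * w₂ x + w₀ x * w₁ x + w₀ x * w₀ x) by ring, h6, h7, sq x hx]
          ring
        _ = _ := by rw [sq x hx]
    exact_mod_cast h9
  rw [sum_eq_support (s := s) (fun x hx => by rw [h0 x hx]; simp), Finset.sum_congr rfl term,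
    ← Finset.sum_div]
  congr 1
  have h10 : ∑ x ∈ s, (3 * w₀ x + 2 * ee * (1 + w₀ x * w₁ x + w₀ x * w₂ x)) = 8 * ee := by
    rw [e]
    have h11 : w₀ x₁ + w₀ x₂ + w₀ x₃ + w₀ x₄ = 0 := by
      have p := (hd x₁)
      rw [(main x₂ m₂).1, (main x₃ m₃).1, (main x₄ m₄).1] at hd0
      have : (w₀ x₁ + w₀ x₂ + w₀ x₃ + w₀ x₄) * d x₁ = 0 := by linarith
      rcases mul_eq_zero.1 this with h | h
      · exact h
      · exact absurd h p.ne'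
    calc _ = 3 * (w₀ x₁ + w₀ x₂ + w₀ x₃ + w₀ x₄) + 2 * ee * (4 +
          (w₀ x₁ * w₁ x₁ + w₀ x₂ * w₁ x₂ + w₀ x₃ * w₁ x₃ + w₀ x₄ * w₁ x₄) +
          (w₀ x₁ * w₂ x₁ + w₀ x₂ * w₂ x₂ + w₀ x₃ * w₂ x₃ + w₀ x₄ * w₂ x₄)) := by ring
      _ = _ := by rw [h11, h01, h02]; ring
  exact_mod_cast h10

end Cfsg.Agent.Classification.TypeZIV.FourArith
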