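import Mathlib
import Cfsg.Prelude.Def_Characters
import Cfsg.Agent.Characters.Core
import Cfsg.Agent.Classification.BGDefs
import Cfsg.Agent.Classification.BGBasic

/-!
# (L1*): common definitions

`t` an involution of the finite group `G`, `π : C(t) →* DihedralGroup n` surjective with odd
kernel `K = π.ker`, `σ` a section of `π`, `F0` a normal subgroup of `K` inverted by `σ (sr 0)`,
`K = F0 C_K(σ (sr 0))`, and the rotations `σ (r j)` centralise `K`.
-/

set_option autoImplicit false
set_option linter.unusedSectionVars false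

namespace Cfsg.Agent.Classification.TypeZIV.Defs

open DihedralGroup Cfsg Cfsg.Agent.Characters Cfsg.Agent.Classification.BGDefs
open scoped ComplexConjugate

/-- `z` is twice an algebraic integer. -/
def E2 (z : ℂ) : Prop := ∃ w : ℂ, IsIntegral ℤ w ∧ z = 2 * w

section Irr

variable {G : Type*} [Group G]

/-- The degree of an irreducible character. -/
noncomputable def deg (χ : IrrCharacter G) : ℕ := (Core.isIrr_apply_one χ.2).choose

theorem deg_pos (χ : IrrCharacter G) : 0 < deg χ := (Core.isIrr_apply_one χ.2).choose_spec.1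

theorem apply_one (χ : IrrCharacter G) : (χ : G → ℂ) 1 = (deg χ : ℂ) :=
  (Core.isIrr_apply_one χ.2).choose_spec.2

end Irr

section

variable {G : Type*} [Group G] {t : G} {n : ℕ}
  (π : (Subgroup.centralizer ({t} : Set G)) →* DihedralGroup n)
  (σ : DihedralGroup n →* (Subgroup.centralizer ({t} : Set G)))

/-- The inclusion of `π.ker` in `G`. -/
def inc : π.ker →* G := (Subgroup.centralizer ({t} : Set G)).subtype.comp π.ker.subtype

/-- The section as a homomorphism to `G`. -/
def sec : DihedralGroup n →* G := (Subgroup.centralizer ({t} : Set G)).subtype.comp σ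

/-- The action of the dihedral group on `π.ker` by conjugation. -/
def act : DihedralGroup n →* MulAut π.ker := MulAut.conjNormal.comp σ

/-- The automorphism of `π.ker` given by conjugation with `σ (sr 0)`. -/
def tau : MulAut π.ker := act π σ (sr 0)

theorem act_coe (d : DihedralGroup n) (y : π.ker) :
    ((act π σ d y : π.ker) : Subgroup.centralizer ({t} : Set G)) = σ d * y * (σ d)⁻¹ := rfl

theorem inc_apply (y : π.ker) :
    inc π y = ((y : Subgroup.centralizer ({t} : Set G)) : G) := rfl

theorem sec_apply (d : DihedralGroup n) : sec σ d = ((σ d : _) : G) := rfl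

theorem inc_injective : Function.Injective (inc π) := fun _ _ h =>
  Subtype.ext (Subtype.ext h)

theorem inc_act (d : DihedralGroup n) (y : π.ker) :
    inc π (act π σ d y) = sec σ d * inc π y * (sec σ d)⁻¹ := rfl

/-- The hypotheses of (L1*). -/
structure Setup (F0 : Subgroup π.ker) : Prop where
  /-- the Bender–Glauberman hypothesis -/
  hyp : BGHyp t n π
  /-- `σ` is a section -/
  sec : ∀ d, π (σ d) = d
  /-- the rotations centralise the kernel -/
  rot : ∀ j, act π σ (r j) = 1
  normal : F0.Normal
  inv : ∀ f ∈ F0, tau π σ f = f⁻¹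
  gen : ∀ k : π.ker, ∃ f ∈ F0, ∃ c, tau π σ c = c ∧ k = f * c

/-- The function on `C(t)` with value `(1 - e(kj)) ζ(y) + (1 - e(-kj)) ζ(τ y)` at
`y * σ (r j)`, `y ∈ π.ker`, and `0` at the elements mapping to reflections. -/
noncomputable def tw [NeZero n] (k : ZMod n) (ζ : π.ker → ℂ)
    (x : Subgroup.centralizer ({t} : Set G)) : ℂ :=
  match π x with
  | r j => (1 - e n (k * j)) * extendByZero π.ker ζ (x * (σ (r j))⁻¹) +
      (1 - e n (-(k * j))) *
        extendByZero π.ker ζ (σ (sr 0) * (x * (σ (r j))⁻¹) * (σ (sr 0))⁻¹)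
  | sr _ => 0

/-- The coefficients of `ζ` in the function `y ↦ χ (σ (r j) y)` on `π.ker`. -/
noncomputable def Dc [Fintype π.ker] (χ : G → ℂ) (ζ : π.ker → ℂ) (j : ZMod n) : ℂ :=
  classInner (fun y : π.ker => χ (Defs.sec σ (r j) * inc π y)) ζ

/-- The inner product of the induced function of `tw k ζ` with `χ`, an integer. -/
noncomputable def vec [Fintype G] [NeZero n] (k : ZMod n) (ζ : π.ker → ℂ) (χ : G → ℂ) : ℤ :=
  round (classInner (indFun (Subgroup.centralizer ({t} : Set G)) (tw π σ k ζ)) χ).re

end

end Cfsg.Agent.Classification.TypeZIV.Defs
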