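import Mathlib
import Cfsg.Agent.Classification.TypeZIV.Twist
import Cfsg.Agent.Classification.BGValues

/-!
# (L1*): fusion in the fixed points of the Sylow 2-subgroup

* `sec_half`: `t = σ (r (n / 2))`;
* `exists_sylow_range`: the range of the section is a Sylow 2-subgroup of `G`;
* `fix_iff`: the fixed points of `tau` are those of the whole dihedral group;
* `eq_of_isConj`: for `4 ≤ n`, elements of `C_K(S)` conjugate in `G` are conjugate in `K`;
* `sum_mul`: sums over `K = F0 C_K(S)`.
-/

set_option autoImplicit false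
set_option linter.unusedSectionVars false
set_option maxHeartbeats 400000

namespace Cfsg.Agent.Classification.TypeZIV.Fusion

open DihedralGroup Cfsg Cfsg.Agent.Characters Cfsg.Agent.Classification.BGDefs
  Cfsg.Agent.Classification.BGBasic Cfsg.Agent.Classification.TypeZIV.Defs
  Cfsg.Agent.Classification.TypeZIV.Twist

variable {G : Type*} [Group G] {t : G} {n : ℕ} [NeZero n]
  {π : (Subgroup.centralizer ({t} : Set G)) →* DihedralGroup n}
  {σ : DihedralGroup n →* (Subgroup.centralizer ({t} : Set G))} {F0 : Subgroup π.ker}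

theorem sigma_injective (hs : Setup π σ F0) : Function.Injective σ := by
  intro a b h
  rw [← hs.sec a, ← hs.sec b, h]

theorem sec_injective (hs : Setup π σ F0) : Function.Injective (Defs.sec σ) := by
  intro a b h
  exact sigma_injective hs (Subtype.ext h)

theorem sigma_half (hs : Setup π σ F0) : σ (r ((n / 2 : ℕ) : ZMod n)) = tt t := by
  have h2 := two_dvd hs.hyp
  have h1 : orderOf (σ (r ((n / 2 : ℕ) : ZMod n))) = 2 := by
    apply orderOf_eq_prime
    · rw [sq, ← map_mul, r_mul_r, half_add_half h2, ← DihedralGroup.one_def, map_one]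
    · intro h3
      have h4 : (r ((n / 2 : ℕ) : ZMod n) : DihedralGroup n) = 1 := by
        rw [← hs.sec (r _), h3, map_one]
      rw [DihedralGroup.one_def] at h4
      exact half_ne_zero h2 (r.inj h4)
  rcases eq_tt_or_sr hs.hyp h1 with h3 | ⟨j, h3⟩
  · exact h3
  · rw [hs.sec] at h3
    cases h3

theorem sec_half (hs : Setup π σ F0) : Defs.sec σ (r ((n / 2 : ℕ) : ZMod n)) = t :=
  congrArg Subtype.val (sigma_half hs)

/-- The fixed points of `tau` are the fixed points of the whole dihedral group. -/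
theorem fix_iff (hs : Setup π σ F0) (y : π.ker) :
    (∀ d, act π σ d y = y) ↔ tau π σ y = y := by
  constructor
  · intro h
    exact h (sr 0)
  · intro h d
    match d with
    | r j => exact act_r hs j y
    | sr j => rw [act_sr hs, h]

/-- A fixed point commutes with the image of the section. -/
theorem commute_of_fix (hs : Setup π σ F0) {y : π.ker} (hy : tau π σ y = y)
    (d : DihedralGroup n) : Commute (Defs.sec σ d) (inc π y) := by
  have h1 := (fix_iff hs y).2 hy d
  have h2 := inc_act π σ d y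
  rw [h1] at h2
  show Defs.sec σ d * inc π y = inc π y * Defs.sec σ d
  nth_rewrite 2 [h2]
  group

theorem commute_t (y : π.ker) : Commute t (inc π y) := by
  have := (y : Subgroup.centralizer ({t} : Set G)).2
  rw [Subgroup.mem_centralizer_singleton_iff] at this
  exact this.symm

/-- The order of the fixed Sylow subgroup. -/
theorem card_range (hs : Setup π σ F0) : Nat.card (Defs.sec σ).range = 2 * n := by
  rw [← Nat.card_congr (MonoidHom.ofInjective (sec_injective hs)).toEquiv,
    DihedralGroup.nat_card]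

theorem isPGroup_range (hs : Setup π σ F0) : IsPGroup 2 (Defs.sec σ).range := by
  obtain ⟨m, hm, hn⟩ := hs.hyp.pow
  refine IsPGroup.of_card (n := m + 1) ?_
  rw [card_range hs, hn, pow_succ']

theorem isPGroup_dihedral (h : BGHyp t n π) : IsPGroup 2 (DihedralGroup n) := by
  obtain ⟨m, hm, hn⟩ := h.pow
  refine IsPGroup.of_card (n := m + 1) ?_
  rw [DihedralGroup.nat_card, hn, pow_succ']

/-- The range of the section is a Sylow 2-subgroup of `G`. -/
theorem exists_sylow_range [Finite G] (hs : Setup π σ F0) :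
    ∃ P : Sylow 2 G, (P : Subgroup G) = (Defs.sec σ).range := by
  have : Fact (Nat.Prime 2) := ⟨Nat.prime_two⟩
  obtain ⟨P, hP⟩ := (isPGroup_range hs).exists_le_sylow
  refine ⟨P, ?_⟩
  -- an involution in the centre of `P`
  have hPcard : Nat.card P = 2 ^ (Nat.card G).factorization 2 := P.card_eq_multiplicity
  have hPnt : Nontrivial P := by
    have h1 : Nat.card (Defs.sec σ).range ≤ Nat.card P :=
      Nat.card_mono (Set.toFinite _) hP
    rw [card_range hs] at h1
    have hn := Nat.pos_of_ne_zero (NeZero.ne n)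
    exact (Finite.one_lt_card_iff_nontrivial).1 (by omega)
  have hcnt : Nontrivial (Subgroup.center P) := IsPGroup.center_nontrivial P.2
  obtain ⟨z, hz⟩ : ∃ z : Subgroup.center P, orderOf z = 2 := by
    apply exists_prime_orderOf_dvd_card' 2
    have h1 : IsPGroup 2 (Subgroup.center P) := P.2.to_subgroup _
    obtain ⟨k, hk⟩ := (IsPGroup.iff_card).1 h1
    have hk0 : k ≠ 0 := by
      rintro rfl
      rw [pow_zero] at hk
      exact absurd hk (Finite.one_lt_card_iff_nontrivial.2 hcnt).ne'
    rw [hk]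
    exact dvd_pow_self 2 hk0
  have hz2 : orderOf (((z : P) : G)) = 2 := by
    rw [Subgroup.orderOf_coe, Subgroup.orderOf_coe, hz]
  obtain ⟨c, hc⟩ := isConj_iff.1 (hs.hyp.one_class _ hz2)
  -- `c⁻¹ P c ≤ C(t)`
  have h1 : (P : Subgroup G).map (MulAut.conj c⁻¹).toMonoidHom ≤
      Subgroup.centralizer ({t} : Set G) := by
    rintro _ ⟨x, hx, rfl⟩
    rw [Subgroup.mem_centralizer_singleton_iff]
    have h2 : (((z : P) : G)) * x = x * (((z : P) : G)) := by
      have := Subgroup.mem_center_iff.1 z.2 ⟨x, hx⟩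
      exact (congrArg Subtype.val this).symm
    rw [← hc] at h2
    show c⁻¹ * x * c⁻¹⁻¹ * t = t * (c⁻¹ * x * c⁻¹⁻¹)
    rw [inv_inv]
    calc c⁻¹ * x * c * t = c⁻¹ * (x * (c * t * c⁻¹)) * c := by group
      _ = c⁻¹ * (c * t * c⁻¹ * x) * c := by rw [h2]
      _ = t * (c⁻¹ * x * c) := by group
  have h3 : Nat.card P ∣ Nat.card (Subgroup.centralizer ({t} : Set G)) := by
    have h4 := Subgroup.card_dvd_of_le h1
    rwa [Subgroup.card_map_of_injective (MulAut.conj c⁻¹).injective] at h4
  rw [BGValues.card_centralizer hs.hyp] at h3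
  have h5 : Nat.card P ∣ 2 * n := by
    refine Nat.Coprime.dvd_of_dvd_mul_left ?_ h3
    rw [hPcard]
    exact Nat.Coprime.pow_left _ (Nat.coprime_two_left.2 hs.hyp.odd_ker)
  have h6 : Nat.card P ≤ 2 * n := Nat.le_of_dvd
    (by have := Nat.pos_of_ne_zero (NeZero.ne n); omega) h5
  exact (Subgroup.eq_of_le_of_card_ge hP (by rw [card_range hs]; exact h6)).symm

theorem mem_centralizer_sylow (hs : Setup π σ F0) {P : Sylow 2 G}
    (hP : (P : Subgroup G) = (Defs.sec σ).range) {y : π.ker} (hy : tau π σ y = y) :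
    inc π y ∈ Subgroup.centralizer ((P : Subgroup G) : Set G) := by
  rw [Subgroup.mem_centralizer_iff]
  intro g hg
  have hg' : g ∈ (P : Subgroup G) := hg
  rw [hP] at hg'
  obtain ⟨d, rfl⟩ := hg'
  exact (commute_of_fix hs hy d).eq

/-- Fusion in `C_K(S)` is controlled by the normalizer of the Sylow subgroup. -/
theorem exists_normalizer [Finite G] (hs : Setup π σ F0) {P : Sylow 2 G}
    (hP : (P : Subgroup G) = (Defs.sec σ).range) {y y' : π.ker} (hy : tau π σ y = y)
    (hy' : tau π σ y' = y') (hc : IsConj (inc π y) (inc π y')) :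
    ∃ m ∈ Subgroup.normalizer ((P : Subgroup G) : Set G),
      inc π y' = m * inc π y * m⁻¹ := by
  have : Fact (Nat.Prime 2) := ⟨Nat.prime_two⟩
  obtain ⟨c, hc⟩ := isConj_iff.1 hc
  obtain ⟨m, hm, hm'⟩ := P.conj_eq_normalizer_conj_of_mem_centralizer (inc π y) c⁻¹
    (mem_centralizer_sylow hs hP hy) (by
      rw [inv_inv, hc]
      exact mem_centralizer_sylow hs hP hy')
  rw [inv_inv, hc] at hm'
  exact ⟨m⁻¹, inv_mem hm, by rw [hm', inv_inv]⟩

/-- For `4 ≤ n`, the normalizer of the Sylow subgroup centralizes `t`. -/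
theorem normalizer_le (hs : Setup π σ F0) (hn : 4 ≤ n) {P : Sylow 2 G}
    (hP : (P : Subgroup G) = (Defs.sec σ).range) {m : G}
    (hm : m ∈ Subgroup.normalizer ((P : Subgroup G) : Set G)) :
    m ∈ Subgroup.centralizer ({t} : Set G) := by
  have h2 := two_dvd hs.hyp
  have hmem : ∀ d, m * Defs.sec σ d * m⁻¹ ∈ (Defs.sec σ).range := by
    intro d
    have h1 : Defs.sec σ d ∈ (P : Subgroup G) := by rw [hP]; exact ⟨d, rfl⟩
    have h3 := (Subgroup.mem_normalizer_iff.1 hm (Defs.sec σ d)).1 h1
    rwa [hP] at h3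
  have hmem' : ∀ d, m⁻¹ * Defs.sec σ d * m ∈ (Defs.sec σ).range := by
    intro d
    have h1 : Defs.sec σ d ∈ (P : Subgroup G) := by rw [hP]; exact ⟨d, rfl⟩
    have h3 := (Subgroup.mem_normalizer_iff.1 (inv_mem hm) (Defs.sec σ d)).1 h1
    rw [inv_inv] at h3
    rwa [hP] at h3
  obtain ⟨d, hd⟩ := hmem (r ((n / 2 : ℕ) : ZMod n))
  rw [sec_half hs] at hd
  -- `sec d = m t m⁻¹` commutes with the image of the section
  have hcomm : ∀ d', d * d' = d' * d := by
    intro d'
    apply sec_injective hs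
    rw [map_mul, map_mul, hd]
    obtain ⟨e', he'⟩ := hmem' d'
    have h3 : Defs.sec σ d' = m * Defs.sec σ e' * m⁻¹ := by rw [he']; group
    have h4 : t * Defs.sec σ e' = Defs.sec σ e' * t := by
      have := (σ e').2
      rw [Subgroup.mem_centralizer_singleton_iff] at this
      exact this.symm
    rw [h3]
    calc m * t * m⁻¹ * (m * Defs.sec σ e' * m⁻¹) = m * (t * Defs.sec σ e') * m⁻¹ := by group
      _ = m * Defs.sec σ e' * m⁻¹ * (m * t * m⁻¹) := by rw [h4]; group
  have hd1 : d ≠ 1 := by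
    rintro rfl
    rw [map_one] at hd
    apply t_ne_one hs.hyp
    have : m * t * m⁻¹ = 1 := hd.symm
    rw [mul_inv_eq_one] at this
    exact mul_left_cancel (this.trans (mul_one m).symm)
  have hdd : d * d = 1 := by
    apply sec_injective hs
    rw [map_mul, hd, map_one]
    calc m * t * m⁻¹ * (m * t * m⁻¹) = m * (t * t) * m⁻¹ := by group
      _ = 1 := by rw [t_mul_t hs.hyp]; group
  have hdr : d = r ((n / 2 : ℕ) : ZMod n) := by
    match hdd' : d with
    | r j =>
      rw [r_mul_r, DihedralGroup.one_def] at hdd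
      rcases eq_zero_or_half (r.inj hdd) with h3 | h3
      · exfalso
        apply hd1
        rw [h3, ← DihedralGroup.one_def]
      · rw [h3]
    | sr j =>
      exfalso
      have h3 := hcomm (r 1)
      rw [sr_mul_r, r_mul_sr] at h3
      have h4 := sr.inj h3
      have h5 : ((2 : ℕ) : ZMod n) = 0 := by
        push_cast
        linear_combination h4
      rw [ZMod.natCast_eq_zero_iff] at h5
      have := Nat.le_of_dvd (by norm_num) h5
      omega
  rw [hdr, sec_half hs] at hd
  rw [Subgroup.mem_centralizer_singleton_iff]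
  rw [eq_mul_inv_iff_mul_eq] at hd
  exact hd.symm

/-- For `4 ≤ n`, fusion in `C_K(S)` preserves the class functions of `K`. -/
theorem eq_of_isConj [Finite G] (hs : Setup π σ F0) (hn : 4 ≤ n) {y y' : π.ker}
    (hy : tau π σ y = y) (hy' : tau π σ y' = y') (hc : IsConj (inc π y) (inc π y'))
    {ζ : π.ker → ℂ} (hζ : IsClassFunction π.ker ζ) : ζ y' = ζ y := by
  obtain ⟨P, hP⟩ := exists_sylow_range hs
  obtain ⟨m, hm, hm'⟩ := exists_normalizer hs hP hy hy' hc
  have h1 := normalizer_le hs hn hP hm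
  obtain ⟨z, hz⟩ := exists_eq hs (⟨m, h1⟩ : Subgroup.centralizer ({t} : Set G))
  set d := π (⟨m, h1⟩ : Subgroup.centralizer ({t} : Set G)) with hd
  have h2 : m = inc π z * Defs.sec σ d := congrArg Subtype.val hz
  have h3 : y' = z * y * z⁻¹ := by
    apply inc_injective
    rw [hm', h2, map_mul, map_mul, map_inv]
    have h4 := (commute_of_fix hs hy d).eq
    calc inc π z * Defs.sec σ d * inc π y * (inc π z * Defs.sec σ d)⁻¹
        = inc π z * (Defs.sec σ d * inc π y) * (Defs.sec σ d)⁻¹ * (inc π z)⁻¹ := by group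
      _ = inc π z * inc π y * (inc π z)⁻¹ := by rw [h4]; group
  rw [h3, hζ]

section Sums

variable [Fintype π.ker]

open scoped Classical in
/-- The fixed points of `tau`. -/
noncomputable def Fix (π : (Subgroup.centralizer ({t} : Set G)) →* DihedralGroup n)
    (σ : DihedralGroup n →* (Subgroup.centralizer ({t} : Set G))) [Fintype π.ker] :
    Finset π.ker := Finset.univ.filter fun y => tau π σ y = y

theorem mem_Fix {y : π.ker} : y ∈ Fix π σ ↔ tau π σ y = y := by
  simp [Fix]

theorem eq_one_of_mem (hs : Setup π σ F0) {y : π.ker} (hy : y ∈ F0)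
    (hfix : tau π σ y = y) : y = 1 := by
  have h1 := hs.inv y hy
  rw [hfix] at h1
  have h2 : y * y = 1 := by
    nth_rewrite 1 [h1]
    exact inv_mul_cancel y
  exact Subtype.ext (eq_one_of_ker hs.hyp y.2 (congrArg Subtype.val h2))

/-- Sums over `K = F0 C_K(S)`. -/
theorem sum_mul (hs : Setup π σ F0) (g : π.ker → ℂ)
    (hg : ∀ f ∈ F0, ∀ y, g (f * y) = g y) :
    ∑ y : π.ker, g y = (Nat.card F0 : ℂ) * ∑ y ∈ Fix π σ, g y := by
  classical
  let _ : Fintype F0 := Fintype.ofFinite _
  have h1 : ∑ y : π.ker, g y = ∑ p ∈ (Finset.univ : Finset F0) ×ˢ Fix π σ,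
      g ((p.1 : π.ker) * p.2) := by
    symm
    refine Finset.sum_bij (fun p _ => (p.1 : π.ker) * p.2) (fun _ _ => Finset.mem_univ _) ?_ ?_
      (fun _ _ => rfl)
    · rintro ⟨f, c⟩ h ⟨f', c'⟩ h' heq
      rw [Finset.mem_product, mem_Fix] at h h'
      have hc : tau π σ c = c := h.2
      have hc' : tau π σ c' = c' := h'.2
      have heq' : (f : π.ker) * c = f' * c' := heq
      have h3 : ((f' : π.ker))⁻¹ * f = c' * c⁻¹ := by
        have h4 : ((f' : π.ker))⁻¹ * (f * c) * c⁻¹ = ((f' : π.ker))⁻¹ * (f' * c') * c⁻¹ := by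
          rw [heq']
        calc ((f' : π.ker))⁻¹ * f = ((f' : π.ker))⁻¹ * (f * c) * c⁻¹ := by group
          _ = ((f' : π.ker))⁻¹ * (f' * c') * c⁻¹ := h4
          _ = c' * c⁻¹ := by group
      have h5 : c' * c⁻¹ = 1 := by
        apply eq_one_of_mem hs
        · rw [← h3]
          exact mul_mem (inv_mem f'.2) f.2
        · rw [map_mul, map_inv, hc, hc']
      have h6 : c' = c := by rwa [mul_inv_eq_one] at h5
      have h7 : (f : π.ker) = f' := by
        rw [h6] at heq'
        exact mul_right_cancel heq'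
      rw [Prod.mk.injEq]
      exact ⟨Subtype.ext h7, h6.symm⟩
    · intro y _
      obtain ⟨f, hf, c, hc, hy⟩ := hs.gen y
      exact ⟨(⟨f, hf⟩, c), Finset.mem_product.2 ⟨Finset.mem_univ _, mem_Fix.2 hc⟩, hy.symm⟩
  rw [h1, Finset.sum_product]
  have h2 : ∀ f : F0, ∑ c ∈ Fix π σ, g ((f : π.ker) * c) = ∑ c ∈ Fix π σ, g c :=
    fun f => Finset.sum_congr rfl fun c _ => hg f f.2 c
  rw [Finset.sum_congr rfl (fun f _ => h2 f), Finset.sum_const, Finset.card_univ,
    nsmul_eq_mul, ← Nat.card_eq_fintype_card]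

end Sums

end Cfsg.Agent.Classification.TypeZIV.Fusion
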