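import Mathlib
import Cfsg.Agent.Characters.Core
import Cfsg.Agent.Characters.Central
import Cfsg.Agent.Characters.CentralCharacter
import Cfsg.Agent.Characters.GaloisBasic
import Cfsg.Agent.HKS.ModPSpec
import Cfsg.Agent.Classification.TypeZIV.Defs

/-!
# (L1*): parity

* `E2 z`: `z` is twice an algebraic integer; closure properties, `odd_cancel`, `not_E2`.
* `T1`: a 2-group acting on a finite set, `F` an invariant function with integral values: the sum
  of `F` over the set is congruent modulo `2` to the sum over the fixed points.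
* `sep`: the separation congruence for two invariant characters of `K`.
* `par_fix`: the coefficient of an invariant character, modulo `2`.
-/

set_option autoImplicit false

namespace Cfsg.Agent.Classification.TypeZIV.Parity

open Cfsg Cfsg.Agent.Characters Cfsg.Agent.Classification.TypeZIV.Defs
open scoped ComplexConjugate

section E2

theorem E2_def (z : ℂ) : E2 z ↔ ∃ w : ℂ, IsIntegral ℤ w ∧ z = 2 * w := Iff.rfl

theorem E2_zero : E2 0 := ⟨0, isIntegral_zero, by simp⟩

theorem E2_two_mul {z : ℂ} (h : IsIntegral ℤ z) : E2 (2 * z) := ⟨z, h, rfl⟩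

theorem E2_add {a b : ℂ} (ha : E2 a) (hb : E2 b) : E2 (a + b) := by
  obtain ⟨x, hx, rfl⟩ := ha
  obtain ⟨y, hy, rfl⟩ := hb
  exact ⟨x + y, hx.add hy, by ring⟩

theorem E2_neg {a : ℂ} (ha : E2 a) : E2 (-a) := by
  obtain ⟨x, hx, rfl⟩ := ha
  exact ⟨-x, hx.neg, by ring⟩

theorem E2_sub {a b : ℂ} (ha : E2 a) (hb : E2 b) : E2 (a - b) := by
  obtain ⟨x, hx, rfl⟩ := ha
  obtain ⟨y, hy, rfl⟩ := hb
  exact ⟨x - y, hx.sub hy, by ring⟩

theorem E2_mul_left {a b : ℂ} (ha : IsIntegral ℤ a) (hb : E2 b) : E2 (a * b) := by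
  obtain ⟨y, hy, rfl⟩ := hb
  exact ⟨a * y, ha.mul hy, by ring⟩

theorem E2_mul_right {a b : ℂ} (ha : E2 a) (hb : IsIntegral ℤ b) : E2 (a * b) := by
  obtain ⟨y, hy, rfl⟩ := ha
  exact ⟨y * b, hy.mul hb, by ring⟩

theorem E2_sum {ι : Type*} (s : Finset ι) (f : ι → ℂ) (h : ∀ i ∈ s, E2 (f i)) :
    E2 (∑ i ∈ s, f i) := by
  classical
  induction s using Finset.induction_on with
  | empty => rw [Finset.sum_empty]; exact E2_zero
  | insert a s ha ih =>
    rw [Finset.sum_insert ha]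
    exact E2_add (h a (Finset.mem_insert_self _ _))
      (ih fun i hi => h i (Finset.mem_insert_of_mem hi))

theorem E2_even {N : ℤ} (h : Even N) : E2 (N : ℂ) := by
  obtain ⟨k, rfl⟩ := h
  refine ⟨k, isIntegral_algebraMap (R := ℤ) (A := ℂ) (x := k), ?_⟩
  push_cast
  ring

theorem E2_isIntegral {z : ℂ} (h : E2 z) : IsIntegral ℤ z := by
  obtain ⟨w, hw, rfl⟩ := h
  exact ((isIntegral_algebraMap (R := ℤ) (A := ℂ) (x := 2)).mul hw : _)

theorem isIntegral_intCast (N : ℤ) : IsIntegral ℤ (N : ℂ) :=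
  isIntegral_algebraMap (R := ℤ) (A := ℂ) (x := N)

theorem isIntegral_natCast (N : ℕ) : IsIntegral ℤ (N : ℂ) := by
  exact_mod_cast isIntegral_intCast (N : ℤ)

theorem odd_cancel {N : ℤ} (hN : Odd N) {z : ℂ} (hz : IsIntegral ℤ z) (h : E2 ((N : ℂ) * z)) :
    E2 z := by
  obtain ⟨k, rfl⟩ := hN
  have h1 : z = ((2 * k + 1 : ℤ) : ℂ) * z - 2 * (k * z) := by push_cast; ring
  rw [h1]
  exact E2_sub h (E2_two_mul ((isIntegral_intCast k).mul hz))

theorem even_of_E2 {N : ℤ} (h : E2 (N : ℂ)) : Even N := by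
  obtain ⟨w, hw, hNw⟩ := h
  have h1 : w = algebraMap ℚ ℂ ((N : ℚ) / 2) := by
    rw [map_div₀, map_intCast, hNw, map_ofNat]
    ring
  rw [h1, isIntegral_algebraMap_iff (algebraMap ℚ ℂ).injective] at hw
  obtain ⟨m, hm⟩ := IsIntegrallyClosed.isIntegral_iff.1 hw
  refine ⟨m, ?_⟩
  rw [eq_div_iff (by norm_num), eq_intCast] at hm
  have h2 : m * 2 = N := by exact_mod_cast hm
  omega

theorem not_E2 {N : ℤ} (hN : Odd N) : ¬ E2 (N : ℂ) := fun h =>
  Int.not_even_iff_odd.2 hN (even_of_E2 h)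

end E2

section T1

variable {P Ω : Type*} [Group P] [Fintype Ω]

/-- The number of fixed points of a 2-group, modulo two. -/
theorem even_card_sub (hP : IsPGroup 2 P) (α : P →* Equiv.Perm Ω) (s : Ω → Prop)
    [DecidablePred s] (hs : ∀ g x, s x → s (α g x)) [DecidablePred fun x => ∀ g, α g x = x] :
    Even (((Finset.univ.filter s).card : ℤ) -
      (((Finset.univ.filter fun x => ∀ g, α g x = x).filter s).card : ℤ)) := by
  have : Fact (Nat.Prime 2) := ⟨Nat.prime_two⟩
  let _ : MulAction P {x // s x} :=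
    { smul := fun g x => ⟨α g x, hs g x x.2⟩
      one_smul := fun x => Subtype.ext (by
        change α 1 x = x
        rw [map_one]; rfl)
      mul_smul := fun g h x => Subtype.ext (by
        change α (g * h) x = α g (α h x)
        rw [map_mul]; rfl) }
  have h1 := hP.card_modEq_card_fixedPoints {x // s x}
  have h2 : Nat.card {x // s x} = (Finset.univ.filter s).card := by
    rw [Nat.card_eq_fintype_card, Fintype.card_subtype]
  have h3 : Nat.card (MulAction.fixedPoints P {x // s x}) =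
      ((Finset.univ.filter fun x => ∀ g, α g x = x).filter s).card := by
    let E : MulAction.fixedPoints P {x // s x} ≃
        {x // x ∈ (Finset.univ.filter fun x => ∀ g, α g x = x).filter s} :=
      { toFun := fun x => ⟨x.1.1, by
          rw [Finset.mem_filter, Finset.mem_filter]
          exact ⟨⟨Finset.mem_univ _, fun g => congrArg Subtype.val (x.2 g)⟩, x.1.2⟩⟩
        invFun := fun x => ⟨⟨x.1, (Finset.mem_filter.1 x.2).2⟩, fun g => Subtype.ext
          ((Finset.mem_filter.1 (Finset.mem_filter.1 x.2).1).2 g)⟩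
        left_inv := fun x => rfl
        right_inv := fun x => rfl }
    rw [Nat.card_congr E, Nat.card_eq_fintype_card, Fintype.card_coe]
  rw [h2, h3] at h1
  rw [Int.even_sub]
  have h4 := h1
  rw [Nat.ModEq] at h4
  rw [Int.even_coe_nat, Int.even_coe_nat, Nat.even_iff, Nat.even_iff, h4]

/-- **T1**: sums over a set and over the fixed points of a 2-group are congruent modulo two. -/
theorem T1 (hP : IsPGroup 2 P) (α : P →* Equiv.Perm Ω) (F : Ω → ℂ) (hint : ∀ x, IsIntegral ℤ (F x))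
    (hF : ∀ g x, F (α g x) = F x) [DecidablePred fun x => ∀ g, α g x = x] :
    E2 (∑ x, F x - ∑ x ∈ Finset.univ.filter (fun x => ∀ g, α g x = x), F x) := by
  classical
  have key : ∀ A : Finset Ω, ∑ x ∈ A, F x =
      ∑ z ∈ Finset.univ.image F, z * ((A.filter fun x => F x = z).card : ℂ) := by
    intro A
    rw [← Finset.sum_fiberwise_of_maps_to (s := A) (t := Finset.univ.image F) (g := F)
      (fun x _ => Finset.mem_image_of_mem F (Finset.mem_univ x))]
    refine Finset.sum_congr rfl fun z _ => ?_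
    rw [Finset.sum_congr rfl (g := fun _ => z) (fun x hx => (Finset.mem_filter.1 hx).2),
      Finset.sum_const, nsmul_eq_mul, mul_comm]
  rw [key Finset.univ, key (Finset.univ.filter fun x => ∀ g, α g x = x), ← Finset.sum_sub_distrib]
  refine E2_sum _ _ fun z hz => ?_
  obtain ⟨x, -, rfl⟩ := Finset.mem_image.1 hz
  rw [← mul_sub]
  refine E2_mul_left (hint x) ?_
  have h := E2_even (even_card_sub hP α (fun y => F y = F x) (fun g y hy => by rw [hF, hy]))
  push_cast at h
  exact h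

end T1

section Omega

variable {G : Type*} [Group G] [Fintype G] {V : Type*} [AddCommGroup V] [Module ℂ V]
  [FiniteDimensional ℂ V]

/-- The central character at an integral valued class function is integral. -/
theorem isIntegral_omega (ρ : Representation ℂ G V) [ρ.IsIrreducible] (Ψ : G → ℂ)
    (hint : ∀ x, IsIntegral ℤ (Ψ x)) (hΨ : IsClassFunction G Ψ) :
    IsIntegral ℤ ((∑ x, Ψ x * ρ.character x) / ρ.character 1) := by
  classical
  have h1 : (∑ x, Ψ x * ρ.character x) / ρ.character 1 = ∑ z ∈ Finset.univ.image Ψ,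
      z * ((∑ x, (((if Ψ x = z then 1 else 0 : ℤ)) : ℂ) * ρ.character x) /
        (Module.finrank ℂ V : ℂ)) := by
    rw [Representation.char_one, ← Finset.sum_fiberwise_of_maps_to (s := Finset.univ)
      (t := Finset.univ.image Ψ) (g := Ψ)
      (fun x _ => Finset.mem_image_of_mem Ψ (Finset.mem_univ x)), Finset.sum_div]
    refine Finset.sum_congr rfl fun z _ => ?_
    rw [← mul_div_assoc, Finset.mul_sum]
    congr 1
    rw [Finset.sum_filter]
    refine Finset.sum_congr rfl fun x _ => ?_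
    split_ifs with h
    · rw [h]; push_cast; ring
    · push_cast; ring
  rw [h1]
  refine IsIntegral.sum _ fun z hz => ?_
  obtain ⟨x, -, rfl⟩ := Finset.mem_image.1 hz
  refine (hint x).mul (CentralCharacter.isIntegral_sum_int ρ
    (fun y => if Ψ y = Ψ x then 1 else 0) fun y g => ?_)
  rw [hΨ y g]

/-- Multiplication by a central element of the group algebra, in terms of the character. -/
theorem sum_mul_char (ρ : Representation ℂ G V) (h : ρ.IsIrreducible) (Ψ : G → ℂ)
    (hΨ : IsClassFunction G Ψ) (g : G) :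
    ∑ x, Ψ x * ρ.character (x * g) =
      (∑ x, Ψ x * ρ.character x) / ρ.character 1 * ρ.character g := by
  have h1 : ∑ x, Ψ x * ρ.character (x * g) =
      LinearMap.trace ℂ V ((∑ x, Ψ x • ρ x) * ρ g) := by
    rw [Finset.sum_mul, map_sum]
    refine Finset.sum_congr rfl fun x _ => ?_
    rw [smul_mul_assoc, ← map_mul, map_smul, smul_eq_mul]
    rfl
  rw [h1, Central.sum_classFun_smul ρ h hΨ, smul_mul_assoc, one_mul, map_smul, smul_eq_mul]
  rfl

end Omega

section Fix

variable {K : Type*} [Group K] [Fintype K]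

/-- The convolution of a class function with an irreducible character. -/
theorem sum_conv {g ζ : K → ℂ} (hg : IsClassFunction K g) (hζ : IsIrrCharacter K ζ) (y₀ : K) :
    ∑ y, g (y₀ * y) * conj (ζ y) = (∑ y, g y * conj (ζ y)) / ζ 1 * ζ y₀ := by
  have hinv : ∀ y, conj (ζ y) = ζ y⁻¹ := fun y =>
    (Core.isCharacter_apply_inv (Core.isIrr_isCharacter hζ) y).symm
  obtain ⟨d, ρ, hρ, rfl⟩ := hζ
  have hg' : IsClassFunction K fun y => g y⁻¹ := by
    intro a b
    change g (b * a * b⁻¹)⁻¹ = g a⁻¹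
    rw [← hg a⁻¹ b]
    congr 1
    group
  have h1 : ∑ y, g (y₀ * y) * conj (ρ.character y) = ∑ z, g z⁻¹ * ρ.character (z * y₀) := by
    refine Fintype.sum_equiv ((Equiv.mulLeft y₀).trans (Equiv.inv K)) _ _ fun y => ?_
    rw [hinv]
    simp only [Equiv.trans_apply, Equiv.coe_mulLeft, Equiv.inv_apply, inv_inv]
    congr 2
    group
  have h2 : ∑ y, g y * conj (ρ.character y) = ∑ z, g z⁻¹ * ρ.character z := by
    refine Fintype.sum_equiv (Equiv.inv K) _ _ fun y => ?_
    rw [hinv]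
    simp only [Equiv.inv_apply, inv_inv]
  rw [h1, h2, sum_mul_char ρ hρ _ hg']

end Fix

section Sep

variable {G K P : Type*} [Group G] [Group K] [Group P]

open scoped Classical in
/-- The class function on `G` extending a function on the fixed points of `K`. -/
noncomputable def ext (ι : K →* G) (a : P →* MulAut K) (ψ : K → ℂ) (g : G) : ℂ :=
  if h : ∃ y, (∀ x, a x y = y) ∧ IsConj (ι y) g then ψ h.choose else 0

variable {ι : K →* G} {a : P →* MulAut K} {ψ : K → ℂ}

theorem ext_apply (hψ : ∀ y y', (∀ x, a x y = y) → (∀ x, a x y' = y') → IsConj (ι y) (ι y') →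
    ψ y = ψ y') {y : K} (hy : ∀ x, a x y = y) {g : G} (hg : IsConj (ι y) g) :
    ext ι a ψ g = ψ y := by
  have h : ∃ y, (∀ x, a x y = y) ∧ IsConj (ι y) g := ⟨y, hy, hg⟩
  rw [ext, dif_pos h]
  exact hψ _ _ h.choose_spec.1 hy (h.choose_spec.2.trans hg.symm)

theorem ext_ne_zero {g : G} (h : ext ι a ψ g ≠ 0) : ∃ y, (∀ x, a x y = y) ∧ IsConj (ι y) g := by
  by_contra hc
  apply h
  rw [ext, dif_neg hc]

theorem isIntegral_ext (hψi : ∀ y, IsIntegral ℤ (ψ y)) (g : G) : IsIntegral ℤ (ext ι a ψ g) := by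
  by_cases h : ∃ y, (∀ x, a x y = y) ∧ IsConj (ι y) g
  · rw [ext, dif_pos h]
    exact hψi _
  · rw [ext, dif_neg h]
    exact isIntegral_zero

theorem isClassFunction_ext
    (hψ : ∀ y y', (∀ x, a x y = y) → (∀ x, a x y' = y') → IsConj (ι y) (ι y') → ψ y = ψ y') :
    IsClassFunction G (ext ι a ψ) := by
  intro g h
  have hc : IsConj g (h * g * h⁻¹) := isConj_iff.2 ⟨h, rfl⟩
  by_cases hg : ∃ y, (∀ x, a x y = y) ∧ IsConj (ι y) g
  · obtain ⟨y, hy, hyg⟩ := hg
    rw [ext_apply hψ hy hyg, ext_apply hψ hy (hyg.trans hc)]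
  · have hg' : ¬ ∃ y, (∀ x, a x y = y) ∧ IsConj (ι y) (h * g * h⁻¹) := by
      rintro ⟨y, hy, hyg⟩
      exact hg ⟨y, hy, hyg.trans hc.symm⟩
    rw [ext, ext, dif_neg hg, dif_neg hg']

variable [Fintype G] [Fintype K]

/-- One half of the separation congruence. -/
theorem sep_one {χ : G → ℂ} (hχ : IsIrrCharacter G χ) (hK : Odd (Nat.card K))
    (hι : Function.Injective ι) {t : G} (ht : ∀ y, Commute t (ι y)) (hP : IsPGroup 2 P)
    (p : P →* G) (hpt : ∀ x, Commute (p x) t) (ha : ∀ x y, p x * ι y * (p x)⁻¹ = ι (a x y))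
    (hfix : ∀ g, Odd (orderOf g) → (∀ x, Commute (p x) g) → g ∈ ι.range) {ζ : K → ℂ}
    (hζ : IsIrrCharacter K ζ) (hζa : ∀ x y, ζ (a x y) = ζ y) {D : ℤ} (hD : Odd D)
    (hDe : classInner (fun y => χ (t * ι y)) ζ = D) (hψi : ∀ y, IsIntegral ℤ (ψ y))
    (hψ : ∀ y y', (∀ x, a x y = y) → (∀ x, a x y' = y') → IsConj (ι y) (ι y') → ψ y = ψ y')
    [DecidablePred fun y => ∀ x, a x y = y] :
    E2 (ζ 1 * ((∑ g, ext ι a ψ g * χ g) / χ 1) -
      ∑ y ∈ Finset.univ.filter (fun y => ∀ x, a x y = y), ζ y * ψ y) := by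
  classical
  have hζi : ∀ y, IsIntegral ℤ (ζ y) := fun y =>
    GaloisBasic.isIntegral_apply (Core.isIrr_isCharacter hζ) y
  have hχi : ∀ g, IsIntegral ℤ (χ g) := fun g =>
    GaloisBasic.isIntegral_apply (Core.isIrr_isCharacter hχ) g
  have hχc := Core.isIrr_isClassFunction hχ
  have hΨ := isClassFunction_ext (ι := ι) hψ
  have hcK : (Nat.card K : ℂ) ≠ 0 := Core.card_ne_zero_complex
  have hζ1 : ζ 1 ≠ 0 := Core.isIrr_apply_one_ne_zero hζ
  obtain ⟨m, -, hm⟩ := Core.isIrr_apply_one hζ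
  -- the sum over `K`
  have hsum : ∑ y, χ (t * ι y) * conj (ζ y) = (Nat.card K : ℂ) * D := by
    rw [← hDe, classInner, ← mul_assoc, mul_inv_cancel₀ hcK, one_mul]
  set ω : ℂ := (∑ g, ext ι a ψ g * χ g) / χ 1 with hω
  have hωi : IsIntegral ℤ ω := by
    obtain ⟨d, ρ, hρ, rfl⟩ := hχ
    exact isIntegral_omega ρ _ (isIntegral_ext hψi) hΨ
  have hmul : ∀ g, ∑ x, ext ι a ψ x * χ (x * g) = ω * χ g := by
    intro g
    rw [hω]
    obtain ⟨d, ρ, hρ, rfl⟩ := hχ
    exact sum_mul_char ρ hρ _ hΨ g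
  -- the function `F`
  set F : G → ℂ := fun g => ext ι a ψ g * ∑ y, χ (g * (t * ι y)) * conj (ζ y) with hF
  have hFi : ∀ g, IsIntegral ℤ (F g) := fun g =>
    (isIntegral_ext hψi g).mul (IsIntegral.sum _ fun y _ => (hχi _).mul (by
      have h := hζi y⁻¹
      rwa [Core.isCharacter_apply_inv (Core.isIrr_isCharacter hζ)] at h))
  have hFinv : ∀ x g, F (((MulAut.toPerm G).comp (MulAut.conj.comp p)) x g) = F g := by
    intro x g
    have h0 : ((MulAut.toPerm G).comp (MulAut.conj.comp p)) x g = p x * g * (p x)⁻¹ := rfl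
    rw [h0, hF]
    simp only
    rw [hΨ g (p x)]
    congr 1
    refine (Fintype.sum_equiv (a x).toEquiv _ _ fun y => ?_).symm
    have h1 : (a x).toEquiv y = a x y := rfl
    rw [h1, hζa, ← ha]
    congr 1
    rw [← hχc (g * (t * ι y)) (p x)]
    congr 1
    have h2 := (hpt x).eq
    calc p x * (g * (t * ι y)) * (p x)⁻¹ = p x * g * (p x)⁻¹ * (p x * t) * ι y * (p x)⁻¹ := by group
      _ = p x * g * (p x)⁻¹ * (t * p x) * ι y * (p x)⁻¹ := by rw [h2]
      _ = p x * g * (p x)⁻¹ * (t * (p x * ι y * (p x)⁻¹)) := by group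
  have hT := T1 hP ((MulAut.toPerm G).comp (MulAut.conj.comp p)) F hFi hFinv
  -- the full sum
  have e1 : ∑ g, F g = ω * ((Nat.card K : ℂ) * D) := by
    rw [hF]
    simp only
    simp_rw [Finset.mul_sum]
    rw [Finset.sum_comm]
    rw [← hsum, Finset.mul_sum]
    refine Finset.sum_congr rfl fun y _ => ?_
    rw [← mul_assoc, ← hmul, Finset.sum_mul]
    refine Finset.sum_congr rfl fun g _ => ?_
    ring
  -- the sum over the fixed points
  have hcl : IsClassFunction K fun y => χ (t * ι y) := by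
    intro y h
    change χ (t * ι (h * y * h⁻¹)) = χ (t * ι y)
    rw [← hχc (t * ι y) (ι h)]
    congr 1
    rw [map_mul, map_mul, map_inv]
    have h2 := (ht h).eq
    calc t * (ι h * ι y * (ι h)⁻¹) = t * ι h * ι y * (ι h)⁻¹ := by group
      _ = ι h * t * ι y * (ι h)⁻¹ := by rw [h2]
      _ = ι h * (t * ι y) * (ι h)⁻¹ := by group
  have hFι : ∀ y, (∀ x, a x y = y) → F (ι y) = (Nat.card K : ℂ) * D / ζ 1 * (ζ y * ψ y) := by
    intro y hy
    rw [hF]
    simp only
    rw [ext_apply hψ hy (IsConj.refl _)]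
    have h1 : ∑ z, χ (ι y * (t * ι z)) * conj (ζ z) = (Nat.card K : ℂ) * D / ζ 1 * ζ y := by
      rw [← hsum, ← sum_conv hcl hζ y]
      refine Finset.sum_congr rfl fun z _ => ?_
      congr 2
      rw [map_mul, ← mul_assoc, ← mul_assoc, (ht y).eq]
    rw [h1]
    ring
  have e2 : ∑ g ∈ Finset.univ.filter (fun g => ∀ x,
      ((MulAut.toPerm G).comp (MulAut.conj.comp p)) x g = g), F g =
      (Nat.card K : ℂ) * D / ζ 1 *
        ∑ y ∈ Finset.univ.filter (fun y => ∀ x, a x y = y), ζ y * ψ y := by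
    rw [Finset.mul_sum]
    have h1 : ∑ y ∈ Finset.univ.filter (fun y => ∀ x, a x y = y),
        (Nat.card K : ℂ) * D / ζ 1 * (ζ y * ψ y) =
        ∑ y ∈ Finset.univ.filter (fun y => ∀ x, a x y = y), F (ι y) :=
      Finset.sum_congr rfl fun y hy => (hFι y (Finset.mem_filter.1 hy).2).symm
    rw [h1, ← Finset.sum_image (f := F) (g := ι) (fun y _ z _ h => hι h)]
    symm
    refine Finset.sum_subset ?_ ?_
    · intro g hg
      obtain ⟨y, hy, rfl⟩ := Finset.mem_image.1 hg
      rw [Finset.mem_filter]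
      refine ⟨Finset.mem_univ _, fun x => ?_⟩
      change p x * ι y * (p x)⁻¹ = ι y
      rw [ha, (Finset.mem_filter.1 hy).2 x]
    · intro g hg hg'
      by_contra hne
      have hne' : ext ι a ψ g ≠ 0 := fun h => hne (by
        change ext ι a ψ g * _ = 0
        rw [h, zero_mul])
      obtain ⟨y, hy, hyg⟩ := ext_ne_zero hne'
      have hcomm : ∀ x, Commute (p x) g := by
        intro x
        have h2 : p x * g * (p x)⁻¹ = g := (Finset.mem_filter.1 hg).2 x
        exact mul_inv_eq_iff_eq_mul.1 h2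
      have hodd : Odd (orderOf g) := by
        obtain ⟨c, rfl⟩ := isConj_iff.1 hyg
        have h3 : orderOf (c * ι y * c⁻¹) = orderOf y := by
          rw [← orderOf_injective ι hι y]
          exact orderOf_injective (MulAut.conj c).toMonoidHom (MulAut.conj c).injective (ι y)
        rw [h3]
        exact Odd.of_dvd_nat hK (orderOf_dvd_natCard y)
      obtain ⟨z, rfl⟩ := hfix g hodd hcomm
      apply hg'
      refine Finset.mem_image_of_mem ι (Finset.mem_filter.2 ⟨Finset.mem_univ _, fun x => ?_⟩)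
      apply hι
      rw [← ha]
      exact (Finset.mem_filter.1 hg).2 x
  rw [e1, e2] at hT
  set S : ℂ := ∑ y ∈ Finset.univ.filter (fun y => ∀ x, a x y = y), ζ y * ψ y with hS
  have h3 := E2_mul_left (hζi 1) hT
  have h4 : ζ 1 * (ω * ((Nat.card K : ℂ) * D) - (Nat.card K : ℂ) * D / ζ 1 * S) =
      (((Nat.card K : ℤ) * D : ℤ) : ℂ) * (ζ 1 * ω - S) := by
    push_cast
    field_simp
  rw [h4] at h3
  refine odd_cancel ?_ ?_ h3
  · exact Odd.mul (by exact_mod_cast hK) hD
  · exact ((hζi 1).mul hωi).sub (IsIntegral.sum _ fun y _ => (hζi y).mul (hψi y))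

/-- **Separation**: two invariant irreducible characters of `K` with odd coefficients. -/
theorem sep {χ : G → ℂ} (hχ : IsIrrCharacter G χ) (hK : Odd (Nat.card K)) (ι : K →* G)
    (hι : Function.Injective ι) (t : G) (ht : ∀ y, Commute t (ι y)) (hP : IsPGroup 2 P)
    (p : P →* G) (hpt : ∀ x, Commute (p x) t) (a : P →* MulAut K)
    (ha : ∀ x y, p x * ι y * (p x)⁻¹ = ι (a x y))
    (hfix : ∀ g, Odd (orderOf g) → (∀ x, Commute (p x) g) → g ∈ ι.range) {ζ ξ : K → ℂ}
    (hζ : IsIrrCharacter K ζ) (hξ : IsIrrCharacter K ξ) (hζa : ∀ x y, ζ (a x y) = ζ y)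
    (hξa : ∀ x y, ξ (a x y) = ξ y) {Dζ Dξ : ℤ} (hDζ : Odd Dζ) (hDξ : Odd Dξ)
    (eζ : classInner (fun y => χ (t * ι y)) ζ = Dζ)
    (eξ : classInner (fun y => χ (t * ι y)) ξ = Dξ) (ψ : K → ℂ) (hψi : ∀ y, IsIntegral ℤ (ψ y))
    (hψ : ∀ y y', (∀ x, a x y = y) → (∀ x, a x y' = y') → IsConj (ι y) (ι y') → ψ y = ψ y')
    [DecidablePred fun y => ∀ x, a x y = y] :
    E2 (ξ 1 * ∑ y ∈ Finset.univ.filter (fun y => ∀ x, a x y = y), ζ y * ψ y -
      ζ 1 * ∑ y ∈ Finset.univ.filter (fun y => ∀ x, a x y = y), ξ y * ψ y) := by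
  have h1 := sep_one (ψ := ψ) hχ hK hι ht hP p hpt ha hfix hζ hζa hDζ eζ hψi hψ
  have h2 := sep_one (ψ := ψ) hχ hK hι ht hP p hpt ha hfix hξ hξa hDξ eξ hψi hψ
  have i1 : IsIntegral ℤ (ζ 1) := GaloisBasic.isIntegral_apply (Core.isIrr_isCharacter hζ) 1
  have i2 : IsIntegral ℤ (ξ 1) := GaloisBasic.isIntegral_apply (Core.isIrr_isCharacter hξ) 1
  have h3 := E2_sub (E2_mul_left i1 h2) (E2_mul_left i2 h1)
  refine (congrArg E2 ?_).mp h3
  ring

end Sep

section ParFix

variable {G K P : Type*} [Group G] [Group K] [Group P]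

/-- `χ (t g) ≡ χ g` modulo two, for an involution `t` commuting with `g`. -/
theorem char_congr [Finite G] {χ : G → ℂ} (hχ : IsCharacter G χ) {t g : G} (htt : t * t = 1)
    (htg : Commute t g) : E2 (χ (t * g) - χ g) := by
  obtain ⟨d, ρ, rfl⟩ := hχ
  set E : Module.End ℂ (Fin d → ℂ) := (2 : ℂ)⁻¹ • (1 - ρ t) with hE
  have h1 : ρ t * ρ t = 1 := by rw [← map_mul, htt, map_one]
  have hEE : E * E = E := by
    rw [hE, smul_mul_smul_comm, mul_sub, sub_mul, sub_mul, h1]
    simp only [one_mul, mul_one]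
    module
  have hcm : ρ g * E = E * ρ g := by
    have h2 : ρ g * ρ t = ρ t * ρ g := by rw [← map_mul, ← map_mul, htg.eq]
    rw [hE, mul_smul_comm, smul_mul_assoc, mul_sub, sub_mul, h2, mul_one, one_mul]
  have hpow : ρ g ^ orderOf g = 1 := by rw [← map_pow, pow_orderOf_eq_one, map_one]
  have h3 := HKS.ModPSpec.isIntegral_trace_mul (ρ g) E (orderOf g) (orderOf_pos g) hpow hEE hcm
  have h4 : ρ.character (t * g) - ρ.character g = 2 * (-LinearMap.trace ℂ (Fin d → ℂ) (ρ g * E)) := by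
    have h5 : ρ g * E = (2 : ℂ)⁻¹ • (ρ g - ρ (t * g)) := by
      rw [hE, mul_smul_comm, mul_sub, mul_one, ← map_mul, htg.eq]
    rw [h5, map_smul, map_sub, smul_eq_mul]
    change LinearMap.trace ℂ _ (ρ (t * g)) - LinearMap.trace ℂ _ (ρ g) = _
    ring
  rw [h4]
  exact E2_two_mul h3.neg

/-- The coefficient of an invariant character `ζ` of `K` in `y ↦ χ (t y)`, modulo two, is the sum
over the fixed points. -/
theorem par_fix [Finite G] [Fintype K] {χ : G → ℂ} (hχ : IsCharacter G χ) (ι : K →* G) (t : G)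
    (htt : t * t = 1) (ht : ∀ y, Commute t (ι y)) (hP : IsPGroup 2 P) (p : P →* G)
    (hpt : ∀ x, Commute (p x) t) (a : P →* MulAut K)
    (ha : ∀ x y, p x * ι y * (p x)⁻¹ = ι (a x y)) {ζ : K → ℂ} (hζ : IsCharacter K ζ)
    (hζa : ∀ x y, ζ (a x y) = ζ y) [DecidablePred fun y => ∀ x, a x y = y] :
    E2 ((Nat.card K : ℂ) * classInner (fun y => χ (t * ι y)) ζ -
      ∑ y ∈ Finset.univ.filter (fun y => ∀ x, a x y = y), χ (ι y) * conj (ζ y)) := by
  have hχi : ∀ g, IsIntegral ℤ (χ g) := fun g => GaloisBasic.isIntegral_apply hχ g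
  have hζi : ∀ y, IsIntegral ℤ (conj (ζ y)) := fun y => by
    have h := GaloisBasic.isIntegral_apply hζ y⁻¹
    rwa [Core.isCharacter_apply_inv hζ] at h
  have hχc := Core.isCharacter_isClassFunction hχ
  have hcK : (Nat.card K : ℂ) ≠ 0 := Core.card_ne_zero_complex
  set F : K → ℂ := fun y => χ (t * ι y) * conj (ζ y) with hF
  have hFinv : ∀ x y, F (((MulAut.toPerm K).comp a) x y) = F y := by
    intro x y
    have h0 : ((MulAut.toPerm K).comp a) x y = a x y := rfl
    rw [h0, hF]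
    simp only
    rw [hζa, ← ha, ← hχc (t * ι y) (p x)]
    congr 2
    have h2 := (hpt x).eq
    calc t * (p x * ι y * (p x)⁻¹) = t * p x * ι y * (p x)⁻¹ := by group
      _ = p x * t * ι y * (p x)⁻¹ := by rw [h2]
      _ = p x * (t * ι y) * (p x)⁻¹ := by group
  have hd : DecidablePred fun y => ∀ x, ((MulAut.toPerm K).comp a) x y = y :=
    inferInstanceAs (DecidablePred fun y => ∀ x, a x y = y)
  have hT := T1 hP ((MulAut.toPerm K).comp a) F (fun y => (hχi _).mul (hζi y)) hFinv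
  have h1 : (Nat.card K : ℂ) * classInner (fun y => χ (t * ι y)) ζ = ∑ y, F y := by
    rw [classInner, ← mul_assoc, mul_inv_cancel₀ hcK, one_mul]
  rw [h1]
  have h2 : E2 (∑ y ∈ Finset.univ.filter (fun y => ∀ x, a x y = y), F y -
      ∑ y ∈ Finset.univ.filter (fun y => ∀ x, a x y = y), χ (ι y) * conj (ζ y)) := by
    rw [← Finset.sum_sub_distrib]
    refine E2_sum _ _ fun y _ => ?_
    rw [hF]
    simp only
    rw [← sub_mul]
    exact E2_mul_right (char_congr hχ htt (ht y)) (hζi y)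
  have h3 := E2_add hT h2
  refine (congrArg E2 ?_).mp h3
  have h4 : (Finset.univ.filter fun y => ∀ x, ((MulAut.toPerm K).comp a) x y = y) =
      Finset.univ.filter (fun y => ∀ x, a x y = y) := by
    ext y
    simp only [Finset.mem_filter]
    rfl
  rw [h4]
  ring

end ParFix

end Cfsg.Agent.Classification.TypeZIV.Parity
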