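import Mathlib
import Cfsg.Agent.Characters.Central
import Cfsg.Agent.Characters.Linear
import Cfsg.Agent.Characters.DegreeBounds
import Cfsg.Agent.Classification.TypeZIV.Fusion
import Cfsg.Agent.Classification.TypeZIV.Parity

/-!
# (L1*): characters of `K` fixed by `tau`, linear characters

* `trivial_of_fix`: an irreducible character of `K` fixed by `tau` is trivial on `F0`;
* `exists_lin`: if `K` is solvable and `tau` has a nontrivial fixed point then `K` has a
  nontrivial linear character which is trivial on `F0` and fixed by `tau`.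
-/

set_option autoImplicit false
set_option linter.unusedSectionVars false
set_option maxHeartbeats 400000

namespace Cfsg.Agent.Classification.TypeZIV.Lin

open DihedralGroup Cfsg Cfsg.Agent.Characters Cfsg.Agent.Classification.BGDefs
  Cfsg.Agent.Classification.BGBasic Cfsg.Agent.Classification.TypeZIV.Defs
  Cfsg.Agent.Classification.TypeZIV.Twist Cfsg.Agent.Classification.TypeZIV.Fusion
  Cfsg.Agent.Classification.TypeZIV.Parity
open scoped ComplexConjugate

section General

variable {K : Type*} [Group K] [Fintype K]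

/-- If the sum of an irreducible character over a normal subgroup does not vanish, the subgroup
is in the kernel. -/
theorem apply_mul_of_sum_ne_zero {ζ : K → ℂ} (hζ : IsIrrCharacter K ζ) (N : Subgroup K)
    [N.Normal] [DecidablePred fun y => y ∈ N]
    (h : ∑ y : K, (if y ∈ N then ζ y else 0) ≠ 0) {f : K} (hf : f ∈ N) (y : K) :
    ζ (f * y) = ζ y := by
  obtain ⟨d, ρ, hρ, rfl⟩ := hζ
  set θ : K → ℂ := fun y => if y ∈ N then 1 else 0 with hθ
  have hθc : IsClassFunction K θ := by
    intro a b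
    have h1 : b * a * b⁻¹ ∈ N ↔ a ∈ N := by
      constructor
      · intro h2
        have := (inferInstance : N.Normal).conj_mem _ h2 b⁻¹
        have h3 : b⁻¹ * (b * a * b⁻¹) * b⁻¹⁻¹ = a := by group
        rwa [h3] at this
      · intro h2
        exact (inferInstance : N.Normal).conj_mem _ h2 b
    simp only [hθ, h1]
  have h1 := Central.sum_classFun_smul ρ hρ hθc
  have h2 : ∑ g, θ g * ρ.character g = ∑ y : K, (if y ∈ N then ρ.character y else 0) := by
    refine Finset.sum_congr rfl fun g _ => ?_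
    simp only [hθ]
    split_ifs <;> ring
  rw [h2] at h1
  set c : ℂ := (∑ y : K, (if y ∈ N then ρ.character y else 0)) / ρ.character 1 with hc
  have hc0 : c ≠ 0 := div_ne_zero h (Central.char_one_ne_zero ρ hρ)
  have h3 : ρ f * (∑ g, θ g • ρ g) = ∑ g, θ g • ρ g := by
    rw [Finset.mul_sum]
    refine Fintype.sum_equiv (Equiv.mulLeft f) _ _ fun g => ?_
    rw [mul_smul_comm, ← map_mul]
    have h4 : θ g = θ (f * g) := by
      simp only [hθ, N.mul_mem_cancel_left hf]
    rw [h4]
    rfl
  rw [h1, mul_smul_comm, mul_one] at h3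
  have h4 : ρ f = 1 := smul_right_injective _ hc0 h3
  show LinearMap.trace ℂ _ (ρ (f * y)) = LinearMap.trace ℂ _ (ρ y)
  rw [map_mul, h4, one_mul]

theorem odd_degree {ζ : K → ℂ} (hζ : IsIrrCharacter K ζ) (hK : Odd (Nat.card K)) :
    ∃ m : ℤ, Odd m ∧ ζ 1 = m := by
  obtain ⟨d, ρ, hρ, rfl⟩ := hζ
  have := hρ
  refine ⟨Module.finrank ℂ (Fin d → ℂ), ?_, ?_⟩
  · exact_mod_cast hK.of_dvd_nat (DegreeBounds.finrank_dvd_card ρ)
  · rw [Representation.char_one]; norm_cast

end General

variable {G : Type*} [Group G] {t : G} {n : ℕ} [NeZero n]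
  {π : (Subgroup.centralizer ({t} : Set G)) →* DihedralGroup n}
  {σ : DihedralGroup n →* (Subgroup.centralizer ({t} : Set G))} {F0 : Subgroup π.ker}
  [Fintype π.ker]

theorem tau_mem (hs : Setup π σ F0) {y : π.ker} : tau π σ y ∈ F0 ↔ y ∈ F0 := by
  constructor
  · intro h
    have h1 := hs.inv _ h
    rw [tau_tau] at h1
    rw [h1]
    exact inv_mem h
  · intro h
    rw [hs.inv y h]
    exact inv_mem h

theorem act_mem (hs : Setup π σ F0) (d : DihedralGroup n) {y : π.ker} :
    act π σ d y ∈ F0 ↔ y ∈ F0 := by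
  match d with
  | r j => rw [act_r hs]
  | sr j => rw [act_sr hs, tau_mem hs]

theorem act_fix (hs : Setup π σ F0) {ζ : π.ker → ℂ} (hτ : ∀ y, ζ (tau π σ y) = ζ y)
    (d : DihedralGroup n) (y : π.ker) : ζ (act π σ d y) = ζ y := by
  match d with
  | r j => rw [act_r hs]
  | sr j => rw [act_sr hs, hτ]

/-- An irreducible character of `K` fixed by `tau` is trivial on `F0`. -/
theorem trivial_of_fix (hs : Setup π σ F0) {ζ : π.ker → ℂ} (hζ : IsIrrCharacter π.ker ζ)
    (hτ : ∀ y, ζ (tau π σ y) = ζ y) {f : π.ker} (hf : f ∈ F0) (y : π.ker) :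
    ζ (f * y) = ζ y := by
  classical
  have := hs.normal
  refine apply_mul_of_sum_ne_zero hζ F0 ?_ hf y
  intro h0
  have h1 := T1 (isPGroup_dihedral hs.hyp) ((MulAut.toPerm π.ker).comp (act π σ))
    (fun y => if y ∈ F0 then ζ y else 0)
    (fun y => by
      split_ifs
      · exact GaloisBasic.isIntegral_apply (Core.isIrr_isCharacter hζ) y
      · exact isIntegral_zero)
    (fun d y => by
      show (if act π σ d y ∈ F0 then ζ (act π σ d y) else 0) = _
      rw [act_fix hs hτ]
      by_cases h : y ∈ F0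
      · rw [if_pos h, if_pos ((act_mem hs d).2 h)]
      · rw [if_neg h, if_neg (fun h' => h ((act_mem hs d).1 h'))])
  have h2 : ∑ x ∈ Finset.univ.filter
      (fun x => ∀ g, ((MulAut.toPerm π.ker).comp (act π σ)) g x = x),
      (if x ∈ F0 then ζ x else 0) = ζ 1 := by
    rw [Finset.sum_eq_single 1]
    · rw [if_pos (one_mem _)]
    · intro y hy hy1
      have hy' := (Finset.mem_filter.1 hy).2
      have hy2 : tau π σ y = y := hy' (sr 0)
      by_cases h : y ∈ F0
      · exact absurd (eq_one_of_mem hs h hy2) hy1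
      · rw [if_neg h]
    · intro h
      exfalso
      apply h
      rw [Finset.mem_filter]
      exact ⟨Finset.mem_univ _, fun g => map_one (act π σ g)⟩
  rw [h0, h2, zero_sub] at h1
  obtain ⟨m, hm, hm1⟩ := odd_degree hζ hs.hyp.odd_ker
  have h3 := E2_neg h1
  rw [neg_neg, hm1] at h3
  exact not_E2 hm h3

/-- Linear characters. -/
theorem exists_lin (hs : Setup π σ F0) (hsol : Group.IsSolvable π.ker) {c : π.ker}
    (hc : tau π σ c = c) (hc1 : c ≠ 1) :
    ∃ L : π.ker →* ℂˣ, L ≠ 1 ∧ (∀ f ∈ F0, L f = 1) ∧ (∀ y, L (tau π σ y) = L y) := by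
  have := hs.normal
  have hcF : c ∉ F0 := fun h => hc1 (eq_one_of_mem hs h hc)
  have h1 : Nontrivial (π.ker ⧸ F0) := by
    refine ⟨QuotientGroup.mk' F0 c, 1, ?_⟩
    intro h
    exact hcF ((QuotientGroup.eq_one_iff c).1 h)
  have h2 : Group.IsSolvable (π.ker ⧸ F0) :=
    Group.isSolvable_of_surjective (QuotientGroup.mk'_surjective F0)
  have h3 : commutator (π.ker ⧸ F0) ≠ ⊤ := (Group.IsSolvable.commutator_lt_top_of_nontrivial _).ne
  obtain ⟨a, ha⟩ : ∃ a : Abelianization (π.ker ⧸ F0), a ≠ 1 := by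
    by_contra hcon
    push Not at hcon
    apply h3
    rw [eq_top_iff]
    intro x _
    have := hcon (Abelianization.of x)
    exact (QuotientGroup.eq_one_iff x).1 this
  obtain ⟨φ, hφ⟩ := CommGroup.exists_apply_ne_one_of_hasEnoughRootsOfUnity
    (Abelianization (π.ker ⧸ F0)) ℂ ha
  obtain ⟨x, hx⟩ := QuotientGroup.mk_surjective a
  obtain ⟨y, hy⟩ := QuotientGroup.mk_surjective x
  set L : π.ker →* ℂˣ := (φ.comp Abelianization.of).comp (QuotientGroup.mk' F0) with hL
  have hLy : L y ≠ 1 := by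
    show φ (Abelianization.of (QuotientGroup.mk' F0 y)) ≠ 1
    have h4 : Abelianization.of (QuotientGroup.mk' F0 y) = a := by
      rw [← hx, ← hy]; rfl
    rw [h4]
    exact hφ
  have hLF : ∀ f ∈ F0, L f = 1 := by
    intro f hf
    have h4 : QuotientGroup.mk' F0 f = 1 := (QuotientGroup.eq_one_iff f).2 hf
    show φ (Abelianization.of (QuotientGroup.mk' F0 f)) = 1
    rw [h4, map_one, map_one]
  refine ⟨L, ?_, hLF, ?_⟩
  · rintro h4
    apply hLy
    rw [h4]
    rfl
  · intro z
    obtain ⟨f, hf, c, hc, rfl⟩ := hs.gen z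
    rw [map_mul, map_mul, map_mul, hs.inv f hf, hc, hLF f hf, hLF _ (inv_mem hf)]

end Cfsg.Agent.Classification.TypeZIV.Lin
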