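import Mathlib
import Cfsg.Agent.Classification.TypeZIV.Fusion
import Cfsg.Agent.Classification.TypeZIV.Lin

/-!
# (L1*), `|S| = 4`: the action of `N(S)` on `C_K(S)`

* `kap`: the projection `K = F0 C_K(S) → C_K(S)`;
* `phi m`, `m ∈ N(S)`: the homomorphism `y ↦ m (kap y) m⁻¹`;
* `comp_phi`: characters trivial on `F0` composed with `phi m`.
-/

set_option autoImplicit false
set_option linter.unusedSectionVars false

namespace Cfsg.Agent.Classification.TypeZIV.FourPhi

open DihedralGroup Cfsg Cfsg.Agent.Characters Cfsg.Agent.Classification.BGDefs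
  Cfsg.Agent.Classification.BGBasic Cfsg.Agent.Classification.TypeZIV.Defs
  Cfsg.Agent.Classification.TypeZIV.Twist Cfsg.Agent.Classification.TypeZIV.Fusion
  Cfsg.Agent.Classification.TypeZIV.Lin
open scoped ComplexConjugate

variable {G : Type*} [Group G] {t : G} {n : ℕ} [NeZero n]
  {π : (Subgroup.centralizer ({t} : Set G)) →* DihedralGroup n}
  {σ : DihedralGroup n →* (Subgroup.centralizer ({t} : Set G))} {F0 : Subgroup π.ker}

section Kap

theorem exists_kap (hs : Setup π σ F0) (y : π.ker) :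
    ∃ c : π.ker, tau π σ c = c ∧ y * c⁻¹ ∈ F0 := by
  obtain ⟨f, hf, c, hc, rfl⟩ := hs.gen y
  exact ⟨c, hc, by rwa [mul_inv_cancel_right]⟩

theorem eq_one_of_fix (hs : Setup π σ F0) {y : π.ker} (hy : y ∈ F0)
    (hfix : tau π σ y = y) : y = 1 := by
  have h1 := hs.inv y hy
  rw [hfix] at h1
  have h2 : y * y = 1 := by
    nth_rewrite 1 [h1]
    exact inv_mul_cancel y
  exact Subtype.ext (eq_one_of_ker hs.hyp y.2 (congrArg Subtype.val h2))

theorem kap_unique (hs : Setup π σ F0) {c c' : π.ker} (hc : tau π σ c = c)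
    (hc' : tau π σ c' = c') (h : c * c'⁻¹ ∈ F0) : c = c' := by
  have h1 : c * c'⁻¹ = 1 := eq_one_of_fix hs h (by rw [map_mul, map_inv, hc, hc'])
  exact mul_inv_eq_one.1 h1

/-- The projection on `C_K(S)`. -/
noncomputable def kap (hs : Setup π σ F0) : π.ker →* π.ker :=
  MonoidHom.mk' (fun y => (exists_kap hs y).choose) (by
    intro y z
    have hy := (exists_kap hs y).choose_spec
    have hz := (exists_kap hs z).choose_spec
    have hyz := (exists_kap hs (y * z)).choose_spec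
    set a := (exists_kap hs y).choose
    set b := (exists_kap hs z).choose
    set c := (exists_kap hs (y * z)).choose
    have := hs.normal
    refine kap_unique hs hyz.1 (by rw [map_mul, hy.1, hz.1]) ?_
    have h1 : c * (a * b)⁻¹ = (y * z * c⁻¹)⁻¹ * (y * a⁻¹ * (a * (z * b⁻¹) * a⁻¹)) := by group
    rw [h1]
    exact mul_mem (inv_mem hyz.2) (mul_mem hy.2 (hs.normal.conj_mem _ hz.2 a)))

theorem tau_kap (hs : Setup π σ F0) (y : π.ker) : tau π σ (kap hs y) = kap hs y :=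
  (exists_kap hs y).choose_spec.1

theorem mul_kap_inv (hs : Setup π σ F0) (y : π.ker) : y * (kap hs y)⁻¹ ∈ F0 :=
  (exists_kap hs y).choose_spec.2

theorem kap_eq (hs : Setup π σ F0) {c : π.ker} (hc : tau π σ c = c) : kap hs c = c := by
  refine (kap_unique hs hc (tau_kap hs c) (mul_kap_inv hs c)).symm

theorem kap_eq_one (hs : Setup π σ F0) {f : π.ker} (hf : f ∈ F0) : kap hs f = 1 := by
  refine kap_unique hs (tau_kap hs f) (map_one _) ?_
  have h1 : kap hs f * 1⁻¹ = (f * (kap hs f)⁻¹)⁻¹ * f := by group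
  rw [h1]
  exact mul_mem (inv_mem (mul_kap_inv hs f)) hf

theorem kap_mul (hs : Setup π σ F0) {f : π.ker} (hf : f ∈ F0) (y : π.ker) :
    kap hs (f * y) = kap hs y := by
  rw [map_mul, kap_eq_one hs hf, one_mul]

/-- A function invariant under multiplication by `F0` is determined by its restriction to
`C_K(S)`. -/
theorem apply_kap (hs : Setup π σ F0) {ζ : π.ker → ℂ} (hζ : ∀ f ∈ F0, ∀ y, ζ (f * y) = ζ y)
    (y : π.ker) : ζ (kap hs y) = ζ y := by
  have h1 : y = (y * (kap hs y)⁻¹) * kap hs y := by group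
  conv_rhs => rw [h1]
  exact (hζ _ (mul_kap_inv hs y) _).symm

end Kap

section Phi

theorem eq_inc_of_commute (hs : Setup π σ F0) {g : G} (hg : Odd (orderOf g))
    (ht : g * t = t * g) : ∃ y : π.ker, inc π y = g := by
  have hgt : g ∈ Subgroup.centralizer ({t} : Set G) := Subgroup.mem_centralizer_singleton_iff.2 ht
  have h1 : π ⟨g, hgt⟩ = 1 := by
    obtain ⟨k, hk⟩ := isPGroup_dihedral hs.hyp (π ⟨g, hgt⟩)
    have h3 : orderOf (π ⟨g, hgt⟩) ∣ 2 ^ k := orderOf_dvd_of_pow_eq_one hk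
    have h4 : orderOf (π ⟨g, hgt⟩) ∣ orderOf g := by
      have := orderOf_map_dvd π ⟨g, hgt⟩
      rwa [Subgroup.orderOf_mk] at this
    rw [← orderOf_eq_one_iff]
    refine Nat.Coprime.eq_one_of_dvd ?_ h3
    exact Nat.Coprime.pow_right _ (Nat.coprime_two_right.2 (Odd.of_dvd_nat hg h4))
  exact ⟨⟨⟨g, hgt⟩, h1⟩, rfl⟩

theorem odd_orderOf (hs : Setup π σ F0) (y : π.ker) : Odd (orderOf (inc π y)) := by
  rw [orderOf_injective _ (inc_injective π)]
  exact Odd.of_dvd_nat hs.hyp.odd_ker (orderOf_dvd_natCard y)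

theorem orderOf_conj' (g c : G) : orderOf (c * g * c⁻¹) = orderOf g :=
  orderOf_injective (MulAut.conj c).toMonoidHom (MulAut.conj c).injective g

theorem tau_eq_of_commute {y : π.ker}
    (h : Commute (Defs.sec σ (sr 0)) (inc π y)) : tau π σ y = y := by
  apply inc_injective π
  have h1 := inc_act π σ (sr 0) y
  have h2 : inc π (tau π σ y) = inc π (act π σ (sr 0) y) := rfl
  rw [h2, h1, h.eq, mul_inv_cancel_right]

/-- The normaliser of the range of the section. -/
def Nm (σ : DihedralGroup n →* (Subgroup.centralizer ({t} : Set G))) : Subgroup G :=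
  Subgroup.normalizer ((Defs.sec σ).range : Set G)

theorem exists_phi (hs : Setup π σ F0) {m : G} (hm : m ∈ Nm σ) {c : π.ker}
    (hc : tau π σ c = c) : ∃ c' : π.ker, tau π σ c' = c' ∧ inc π c' = m * inc π c * m⁻¹ := by
  have hcomm : ∀ d, Commute (Defs.sec σ d) (m * inc π c * m⁻¹) := by
    intro d
    have h1 : m⁻¹ * Defs.sec σ d * m⁻¹⁻¹ ∈ (Defs.sec σ).range :=
      (Subgroup.mem_normalizer_iff.1 (inv_mem hm) (Defs.sec σ d)).1 ⟨d, rfl⟩
    obtain ⟨e', he'⟩ := h1
    have h2 := (commute_of_fix hs hc e').eq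
    have h3 : Defs.sec σ d = m * Defs.sec σ e' * m⁻¹ := by rw [he']; group
    show Defs.sec σ d * (m * inc π c * m⁻¹) = m * inc π c * m⁻¹ * Defs.sec σ d
    rw [h3]
    calc m * Defs.sec σ e' * m⁻¹ * (m * inc π c * m⁻¹) = m * (Defs.sec σ e' * inc π c) * m⁻¹ := by
          group
      _ = m * inc π c * m⁻¹ * (m * Defs.sec σ e' * m⁻¹) := by rw [h2]; group
  have hodd : Odd (orderOf (m * inc π c * m⁻¹)) := by
    rw [orderOf_conj']
    exact odd_orderOf hs c
  have ht : (m * inc π c * m⁻¹) * t = t * (m * inc π c * m⁻¹) := by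
    have := (hcomm (r ((n / 2 : ℕ) : ZMod n))).eq
    rw [sec_half hs] at this
    exact this.symm
  obtain ⟨c', hc'⟩ := eq_inc_of_commute hs hodd ht
  refine ⟨c', tau_eq_of_commute ?_, hc'⟩
  rw [hc']
  exact hcomm (sr 0)

/-- Conjugation with `m ∈ N(S)` on `C_K(S)`, composed with the projection `K → C_K(S)`. -/
noncomputable def phi (hs : Setup π σ F0) {m : G} (hm : m ∈ Nm σ) : π.ker →* π.ker :=
  MonoidHom.mk' (fun y => (exists_phi hs hm (tau_kap hs y)).choose) (by
    intro y z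
    have hy := (exists_phi hs hm (tau_kap hs y)).choose_spec
    have hz := (exists_phi hs hm (tau_kap hs z)).choose_spec
    have hyz := (exists_phi hs hm (tau_kap hs (y * z))).choose_spec
    apply inc_injective π
    have h1 : inc π (kap hs (y * z)) = inc π (kap hs y) * inc π (kap hs z) := by
      rw [map_mul, map_mul]
    rw [map_mul (inc π), hy.2, hz.2, hyz.2, h1]
    group)

variable (hs : Setup π σ F0)

theorem inc_phi {m : G} (hm : m ∈ Nm σ) (y : π.ker) :
    inc π (phi hs hm y) = m * inc π (kap hs y) * m⁻¹ :=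
  (exists_phi hs hm (tau_kap hs y)).choose_spec.2

theorem tau_phi {m : G} (hm : m ∈ Nm σ) (y : π.ker) : tau π σ (phi hs hm y) = phi hs hm y :=
  (exists_phi hs hm (tau_kap hs y)).choose_spec.1

theorem phi_phi {m m' : G} (hm : m ∈ Nm σ) (hm' : m' ∈ Nm σ) (y : π.ker) :
    phi hs hm (phi hs hm' y) = phi hs (mul_mem hm hm') y := by
  apply inc_injective π
  rw [inc_phi, inc_phi, kap_eq hs (tau_phi hs hm' y), inc_phi]
  group

theorem phi_mul {m : G} (hm : m ∈ Nm σ) {f : π.ker} (hf : f ∈ F0) (y : π.ker) :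
    phi hs hm (f * y) = phi hs hm y := by
  apply inc_injective π
  rw [inc_phi, inc_phi, kap_mul hs hf]

/-- If `m` centralises `t` then `phi m y` is conjugate to `kap y` in `K`. -/
theorem phi_conj {m : G} (hm : m ∈ Nm σ) (hmt : m * t = t * m) (y : π.ker) :
    ∃ z : π.ker, phi hs hm y = z * kap hs y * z⁻¹ := by
  have h1 : m ∈ Subgroup.centralizer ({t} : Set G) := Subgroup.mem_centralizer_singleton_iff.2 hmt
  obtain ⟨z, hz⟩ := exists_eq hs (⟨m, h1⟩ : Subgroup.centralizer ({t} : Set G))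
  set d := π (⟨m, h1⟩ : Subgroup.centralizer ({t} : Set G)) with hd
  have h2 : m = inc π z * Defs.sec σ d := congrArg Subtype.val hz
  refine ⟨z, ?_⟩
  apply inc_injective π
  rw [inc_phi, map_mul, map_mul, map_inv]
  have h4 := (commute_of_fix hs (tau_kap hs y) d).eq
  rw [h2]
  calc inc π z * Defs.sec σ d * inc π (kap hs y) * (inc π z * Defs.sec σ d)⁻¹
      = inc π z * (Defs.sec σ d * inc π (kap hs y)) * (Defs.sec σ d)⁻¹ * (inc π z)⁻¹ := by group
    _ = inc π z * inc π (kap hs y) * (inc π z)⁻¹ := by rw [h4]; group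

/-- If `m` centralises `t` then `ζ ∘ phi m = ζ`. -/
theorem apply_phi_of_commute {m : G} (hm : m ∈ Nm σ) (hmt : m * t = t * m) {ζ : π.ker → ℂ}
    (hc : IsClassFunction π.ker ζ) (hζ : ∀ f ∈ F0, ∀ y, ζ (f * y) = ζ y) (y : π.ker) :
    ζ (phi hs hm y) = ζ y := by
  obtain ⟨z, hz⟩ := phi_conj hs hm hmt y
  rw [hz, hc, apply_kap hs hζ]

/-- `ζ ∘ phi m` depends only on `m⁻¹ t m`. -/
theorem apply_phi_congr {m m' : G} (hm : m ∈ Nm σ) (hm' : m' ∈ Nm σ)
    (hmm : m⁻¹ * t * m = m'⁻¹ * t * m') {ζ : π.ker → ℂ}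
    (hc : IsClassFunction π.ker ζ) (hζ : ∀ f ∈ F0, ∀ y, ζ (f * y) = ζ y) (y : π.ker) :
    ζ (phi hs hm y) = ζ (phi hs hm' y) := by
  have h1 : (m * m'⁻¹) * t = t * (m * m'⁻¹) := by
    have h2 : t = m * (m'⁻¹ * t * m') * m⁻¹ := by rw [← hmm]; group
    calc m * m'⁻¹ * t = m * (m'⁻¹ * t * m') * m⁻¹ * (m * m'⁻¹) := by group
      _ = t * (m * m'⁻¹) := by rw [← h2]
  have h3 := apply_phi_of_commute hs (mul_mem hm (inv_mem hm')) h1 hc hζ (phi hs hm' y)
  rw [phi_phi] at h3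
  rw [← h3]
  congr 1
  apply inc_injective π
  rw [inc_phi, inc_phi]
  group

theorem comp_phi_mul {m : G} (hm : m ∈ Nm σ) (ζ : π.ker → ℂ) :
    ∀ f ∈ F0, ∀ y, ζ (phi hs hm (f * y)) = ζ (phi hs hm y) := by
  intro f hf y
  rw [phi_mul hs hm hf]

/-- `tau`-invariance from triviality on `F0`. -/
theorem tau_inv_of (hs : Setup π σ F0) {ζ : π.ker → ℂ} (hζ : ∀ f ∈ F0, ∀ y, ζ (f * y) = ζ y)
    (y : π.ker) : ζ (tau π σ y) = ζ y := by
  obtain ⟨f, hf, c, hc, rfl⟩ := hs.gen y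
  rw [map_mul, hs.inv f hf, hc, hζ _ (inv_mem hf), hζ f hf]

end Phi

section Sums

variable [Fintype π.ker] (hs : Setup π σ F0)

/-- `phi m` permutes `C_K(S)`. -/
theorem sum_phi {m : G} (hm : m ∈ Nm σ) (g : π.ker → ℂ) :
    ∑ y ∈ Fix π σ, g (phi hs hm y) = ∑ y ∈ Fix π σ, g y := by
  have h1 : ∀ y, tau π σ y = y → phi hs (inv_mem hm) (phi hs hm y) = y := by
    intro y hy
    apply inc_injective π
    rw [inc_phi, kap_eq hs (tau_phi hs hm y), inc_phi, kap_eq hs hy]
    group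
  have h2 : ∀ y, tau π σ y = y → phi hs hm (phi hs (inv_mem hm) y) = y := by
    intro y hy
    apply inc_injective π
    rw [inc_phi, kap_eq hs (tau_phi hs (inv_mem hm) y), inc_phi, kap_eq hs hy]
    group
  refine Finset.sum_nbij' (fun y => phi hs hm y) (fun y => phi hs (inv_mem hm) y) ?_ ?_ ?_ ?_ ?_
  · intro y _
    exact mem_Fix.2 (tau_phi hs hm y)
  · intro y _
    exact mem_Fix.2 (tau_phi hs (inv_mem hm) y)
  · intro y hy
    exact h1 y (mem_Fix.1 hy)
  · intro y hy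
    exact h2 y (mem_Fix.1 hy)
  · intro y _
    rfl

/-- Orthogonality on `C_K(S)`. -/
theorem sum_Fix (hs : Setup π σ F0) {ζ ξ : π.ker → ℂ} (hζ : ∀ f ∈ F0, ∀ y, ζ (f * y) = ζ y)
    (hξ : ∀ f ∈ F0, ∀ y, ξ (f * y) = ξ y) :
    (Nat.card F0 : ℂ) * ∑ y ∈ Fix π σ, ζ y * conj (ξ y) =
      (Nat.card π.ker : ℂ) * classInner ζ ξ := by
  rw [← sum_mul hs (fun y => ζ y * conj (ξ y)) (fun f hf y => by
    show ζ (f * y) * conj (ξ (f * y)) = _
    rw [hζ f hf, hξ f hf]), classInner, ← mul_assoc,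
    mul_inv_cancel₀ Core.card_ne_zero_complex, one_mul]

/-- `ζ ∘ phi m` is irreducible. -/
theorem isIrr_comp_phi {m : G} (hm : m ∈ Nm σ) {ζ : π.ker → ℂ} (hζ : IsIrrCharacter π.ker ζ)
    (hζF : ∀ f ∈ F0, ∀ y, ζ (f * y) = ζ y) :
    IsIrrCharacter π.ker (fun y => ζ (phi hs hm y)) := by
  have h1 : IsCharacter π.ker (fun y => ζ (phi hs hm y)) :=
    Core.isCharacter_comp (phi hs hm) (Core.isIrr_isCharacter hζ)
  refine Core.isIrr_of_classInner_self h1 ?_
  have h2 := sum_Fix hs hζF hζF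
  have h3 := sum_Fix (ζ := fun y => ζ (phi hs hm y)) (ξ := fun y => ζ (phi hs hm y)) hs
    (comp_phi_mul hs hm ζ) (comp_phi_mul hs hm ζ)
  rw [sum_phi hs hm (fun y => ζ y * conj (ζ y)), h2, Core.classInner_irr_self hζ] at h3
  exact (mul_left_cancel₀ Core.card_ne_zero_complex h3).symm

end Sums

end Cfsg.Agent.Classification.TypeZIV.FourPhi
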