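import Mathlib
import Cfsg.Agent.Classification.TypeZIV.Twist
import Cfsg.Agent.Classification.BGValues

/-!
# (L1*): inner products of the twisted functions on `C(t)`
-/

set_option autoImplicit false
set_option linter.unusedSectionVars false

namespace Cfsg.Agent.Classification.TypeZIV.Gram

open DihedralGroup Cfsg Cfsg.Agent.Characters Cfsg.Agent.Classification.BGDefs
  Cfsg.Agent.Classification.BGBasic Cfsg.Agent.Classification.TypeZIV.Defs
  Cfsg.Agent.Classification.TypeZIV.Twist
open scoped ComplexConjugate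

section Fourier

variable {n : ℕ} [NeZero n]

theorem conj_e (a : ZMod n) : conj (e n a) = e n (-a) := BGIsometry.conj_e a

theorem sum_e (a : ZMod n) : ∑ j : ZMod n, e n (a * j) = if a = 0 then (n : ℂ) else 0 :=
  BGIsometry.sum_e a

theorem n_ne_zero : (n : ℂ) ≠ 0 := Nat.cast_ne_zero.2 (NeZero.ne n)

/-- `∑ (1 - e(kj)) conj (1 - e(lj))` -/
theorem sum_u (k l : ZMod n) (hk : k ≠ 0) (hl : l ≠ 0) :
    ∑ j : ZMod n, (1 - e n (k * j)) * conj (1 - e n (l * j)) =
      n * (1 + if k = l then 1 else 0) := by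
  have h1 : ∀ j : ZMod n, (1 - e n (k * j)) * conj (1 - e n (l * j)) =
      1 - e n (k * j) - e n (-l * j) + e n ((k - l) * j) := by
    intro j
    have h2 : e n ((k - l) * j) = e n (k * j) * e n (-l * j) := by
      rw [← AddChar.map_add_eq_mul]; congr 1; ring
    rw [h2, map_sub, map_one, conj_e, ← neg_mul]
    ring
  rw [Finset.sum_congr rfl (fun j _ => h1 j), Finset.sum_add_distrib, Finset.sum_sub_distrib,
    Finset.sum_sub_distrib, sum_e, sum_e, sum_e, if_neg hk, if_neg (neg_ne_zero.2 hl),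
    Finset.sum_const, Finset.card_univ, ZMod.card, nsmul_eq_mul]
  by_cases h : k = l
  · rw [if_pos h, if_pos (sub_eq_zero.2 h)]; ring
  · rw [if_neg h, if_neg (fun h3 => h (sub_eq_zero.1 h3))]; ring

/-- Fourier inversion. -/
theorem inversion (D : ZMod n → ℂ) (j : ZMod n) (hj : j ≠ 0) :
    D j = -∑ k : ZMod n, e n (-(k * j)) *
      ((n : ℂ)⁻¹ * ∑ i : ZMod n, (1 - e n (k * i)) * D i) := by
  classical
  have h1 : ∑ k : ZMod n, e n (-(k * j)) *
      ((n : ℂ)⁻¹ * ∑ i : ZMod n, (1 - e n (k * i)) * D i) =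
      (n : ℂ)⁻¹ * ∑ i : ZMod n, D i * ∑ k : ZMod n, (e n ((-j) * k) - e n ((i - j) * k)) := by
    have h2 : ∀ k : ZMod n, e n (-(k * j)) *
        ((n : ℂ)⁻¹ * ∑ i : ZMod n, (1 - e n (k * i)) * D i) =
        (n : ℂ)⁻¹ * ∑ i : ZMod n, D i * (e n ((-j) * k) - e n ((i - j) * k)) := by
      intro k
      rw [mul_left_comm, Finset.mul_sum]
      congr 1
      refine Finset.sum_congr rfl fun i _ => ?_
      have h3 : e n ((i - j) * k) = e n (-(k * j)) * e n (k * i) := by
        rw [← AddChar.map_add_eq_mul]; congr 1; ring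
      have h4 : e n ((-j) * k) = e n (-(k * j)) := by congr 1; ring
      rw [h3, h4]
      ring
    rw [Finset.sum_congr rfl (fun k _ => h2 k), ← Finset.mul_sum, Finset.sum_comm]
    congr 1
    exact Finset.sum_congr rfl fun i _ => by rw [Finset.mul_sum]
  rw [h1]
  have h2 : ∀ i : ZMod n, D i * ∑ k : ZMod n, (e n ((-j) * k) - e n ((i - j) * k)) =
      if i = j then -(n : ℂ) * D i else 0 := by
    intro i
    rw [Finset.sum_sub_distrib, sum_e, sum_e, if_neg (neg_ne_zero.2 hj)]
    by_cases h : i = j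
    · rw [if_pos h, if_pos (sub_eq_zero.2 h)]; ring
    · rw [if_neg h, if_neg (fun h3 => h (sub_eq_zero.1 h3))]; ring
  rw [Finset.sum_congr rfl (fun i _ => h2 i), Finset.sum_ite_eq' Finset.univ j,
    if_pos (Finset.mem_univ j)]
  have := n_ne_zero (n := n)
  field_simp

end Fourier

section Sums

variable {G : Type*} [Group G] {t : G} {n : ℕ} [NeZero n]
  {π : (Subgroup.centralizer ({t} : Set G)) →* DihedralGroup n}
  {σ : DihedralGroup n →* (Subgroup.centralizer ({t} : Set G))} {F0 : Subgroup π.ker}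
  [Fintype (Subgroup.centralizer ({t} : Set G))] [Fintype π.ker]

/-- Sums over `C(t)` of functions vanishing over the reflections. -/
theorem sum_rot (hs : Setup π σ F0) (f : Subgroup.centralizer ({t} : Set G) → ℂ)
    (hf : ∀ (y : π.ker) (j : ZMod n),
      f ((y : Subgroup.centralizer ({t} : Set G)) * σ (sr j)) = 0) :
    ∑ x, f x = ∑ j : ZMod n, ∑ y : π.ker,
      f ((y : Subgroup.centralizer ({t} : Set G)) * σ (r j)) := by
  classical
  let _ : Fintype (DihedralGroup n) := Fintype.ofFinite _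
  let E : DihedralGroup n × π.ker ≃ Subgroup.centralizer ({t} : Set G) :=
    { toFun := fun p => (p.2 : Subgroup.centralizer ({t} : Set G)) * σ p.1
      invFun := fun x => (π x, ⟨x * (σ (π x))⁻¹, by
        rw [MonoidHom.mem_ker, map_mul, map_inv, hs.sec, mul_inv_cancel]⟩)
      left_inv := by
        rintro ⟨d, y⟩
        have h1 : π ((y : Subgroup.centralizer ({t} : Set G)) * σ d) = d := pi_mul hs y d
        ext1
        · exact h1
        · apply Subtype.ext
          show (y : Subgroup.centralizer ({t} : Set G)) * σ d * (σ (π _))⁻¹ = y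
          rw [h1]
          group
      right_inv := by
        intro x
        show x * (σ (π x))⁻¹ * σ (π x) = x
        group }
  rw [← Equiv.sum_comp E, Fintype.sum_prod_type, BGIsometry.sum_dihedral]
  have h1 : ∑ i : ZMod n, ∑ y : π.ker, f (E (sr i, y)) = 0 :=
    Finset.sum_eq_zero fun i _ => Finset.sum_eq_zero fun y _ => hf y i
  rw [h1, add_zero]
  rfl

theorem card_C (hs : Setup π σ F0) :
    (Nat.card (Subgroup.centralizer ({t} : Set G)) : ℂ) = Nat.card π.ker * (2 * n) := by
  have h1 := Subgroup.card_mul_index π.ker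
  rw [Subgroup.index_ker, MonoidHom.range_eq_top_of_surjective _ hs.hyp.surj,
    Subgroup.card_top, DihedralGroup.nat_card] at h1
  rw [← h1]
  push_cast
  ring

/-- Inner products of the functions `tw k ζ` on `C(t)`. -/
theorem gramH (hs : Setup π σ F0) {k l : ZMod n} (hk : k ≠ 0) (hl : l ≠ 0)
    (ζ ξ : π.ker → ℂ) :
    classInner (tw π σ k ζ) (tw π σ l ξ) =
      (1 + if k = l then 1 else 0) * classInner ζ ξ +
        (1 + if k = -l then 1 else 0) * classInner ζ (fun y => ξ (tau π σ y)) := by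
  classical
  set a : ℂ := ∑ y : π.ker, ζ y * conj (ξ y) with ha
  set b : ℂ := ∑ y : π.ker, ζ y * conj (ξ (tau π σ y)) with hb
  have ha' : ∑ y : π.ker, ζ (tau π σ y) * conj (ξ (tau π σ y)) = a :=
    (Equiv.sum_comp (tau π σ).toEquiv (fun y => ζ y * conj (ξ y)))
  have hb' : ∑ y : π.ker, ζ (tau π σ y) * conj (ξ y) = b := by
    have h1 := (Equiv.sum_comp (tau π σ).toEquiv (fun y => ζ y * conj (ξ (tau π σ y))))
    rw [hb, ← h1]
    refine Finset.sum_congr rfl fun y _ => ?_
    show ζ (tau π σ y) * conj (ξ y) = ζ (tau π σ y) * conj (ξ (tau π σ (tau π σ y)))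
    rw [tau_tau]
  have hin : ∀ j : ZMod n, ∑ y : π.ker,
      tw π σ k ζ ((y : Subgroup.centralizer ({t} : Set G)) * σ (r j)) *
        conj (tw π σ l ξ ((y : Subgroup.centralizer ({t} : Set G)) * σ (r j))) =
      ((1 - e n (k * j)) * conj (1 - e n (l * j)) +
        (1 - e n (-k * j)) * conj (1 - e n (-l * j))) * a +
      ((1 - e n (k * j)) * conj (1 - e n (-l * j)) +
        (1 - e n (-k * j)) * conj (1 - e n (l * j))) * b := by
    intro j
    have h1 : ∀ y : π.ker,
        tw π σ k ζ ((y : Subgroup.centralizer ({t} : Set G)) * σ (r j)) *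
          conj (tw π σ l ξ ((y : Subgroup.centralizer ({t} : Set G)) * σ (r j))) =
        (1 - e n (k * j)) * conj (1 - e n (l * j)) * (ζ y * conj (ξ y)) +
        (1 - e n (-k * j)) * conj (1 - e n (-l * j)) *
          (ζ (tau π σ y) * conj (ξ (tau π σ y))) +
        (1 - e n (k * j)) * conj (1 - e n (-l * j)) * (ζ y * conj (ξ (tau π σ y))) +
        (1 - e n (-k * j)) * conj (1 - e n (l * j)) * (ζ (tau π σ y) * conj (ξ y)) := by
      intro y
      rw [tw_apply hs, tw_apply hs, ← neg_mul, ← neg_mul, RingHom.map_add, RingHom.map_mul,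
        RingHom.map_mul]
      ring
    rw [Finset.sum_congr rfl (fun y _ => h1 y), Finset.sum_add_distrib,
      Finset.sum_add_distrib, Finset.sum_add_distrib, ← Finset.mul_sum, ← Finset.mul_sum,
      ← Finset.mul_sum, ← Finset.mul_sum, ha', hb']
    ring
  rw [Core.classInner_def, sum_rot hs _ (fun y j => by rw [tw_apply_sr hs, zero_mul]),
    Finset.sum_congr rfl (fun j _ => hin j), Finset.sum_add_distrib, ← Finset.sum_mul,
    ← Finset.sum_mul, Finset.sum_add_distrib, Finset.sum_add_distrib, sum_u k l hk hl,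
    sum_u (-k) (-l) (neg_ne_zero.2 hk) (neg_ne_zero.2 hl), sum_u k (-l) hk (neg_ne_zero.2 hl),
    sum_u (-k) l (neg_ne_zero.2 hk) hl, card_C hs, Core.classInner_def, Core.classInner_def]
  have e1 : (-k = -l) = (k = l) := propext neg_inj
  have e2 : (-k = l) = (k = -l) := propext neg_eq_iff_eq_neg
  simp only [e1, e2]
  have h1 := n_ne_zero (n := n)
  have h2 : (Nat.card π.ker : ℂ) ≠ 0 := Core.card_ne_zero_complex
  rw [← ha, ← hb]
  field_simp
  ring

/-- Inner products of `tw k ζ` with class functions of `G`. -/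
theorem inner_tw (hs : Setup π σ F0) (k : ZMod n) (ζ : π.ker → ℂ) {χ : G → ℂ}
    (hχ : IsClassFunction G χ) :
    classInner (tw π σ k ζ) (fun x : Subgroup.centralizer ({t} : Set G) => χ x) =
      (n : ℂ)⁻¹ * ∑ j : ZMod n, (1 - e n (k * j)) * conj (Dc π σ χ ζ j) := by
  classical
  -- `X j y = χ (σ (r j) y)`
  set X : ZMod n → π.ker → ℂ := fun j y => χ (Defs.sec σ (r j) * inc π y) with hX
  have hX1 : ∀ (j : ZMod n) (y : π.ker),
      χ (((y : Subgroup.centralizer ({t} : Set G)) * σ (r j) :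
        Subgroup.centralizer ({t} : Set G)) : G) = X j y := by
    intro j y
    have := (commute_r hs j y).eq
    rw [← this]
    rfl
  have hX2 : ∀ (j : ZMod n) (y : π.ker), X j (tau π σ y) = X (-j) y := by
    intro j y
    have h1 : Defs.sec σ (r j) * inc π (tau π σ y) =
        Defs.sec σ (sr 0) * (Defs.sec σ (r (-j)) * inc π y) * (Defs.sec σ (sr 0))⁻¹ := by
      have h2 : inc π (tau π σ y) = Defs.sec σ (sr 0) * inc π y * (Defs.sec σ (sr 0))⁻¹ := rfl
      have h3 : Defs.sec σ (sr 0) * Defs.sec σ (r (-j)) =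
          Defs.sec σ (r j) * Defs.sec σ (sr 0) := by
        rw [← map_mul, ← map_mul, sr_mul_r, r_mul_sr]
        congr 2
        ring
      rw [h2, ← mul_assoc, ← mul_assoc, ← mul_assoc, h3]
    show χ _ = χ _
    rw [h1, hχ]
  have hD : ∀ j : ZMod n, (Nat.card π.ker : ℂ) * conj (Dc π σ χ ζ j) =
      ∑ y : π.ker, ζ y * conj (X j y) := by
    intro j
    have h2 : (Nat.card π.ker : ℂ) ≠ 0 := Core.card_ne_zero_complex
    rw [Dc, Core.classInner_def, map_mul, map_inv₀, Complex.conj_natCast, ← mul_assoc,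
      mul_inv_cancel₀ h2, one_mul, map_sum]
    refine Finset.sum_congr rfl fun y _ => ?_
    rw [map_mul, Complex.conj_conj, mul_comm]
  rw [Core.classInner_def, sum_rot hs _ (fun y j => by rw [tw_apply_sr hs, zero_mul])]
  have h1 : ∀ j : ZMod n, ∑ y : π.ker,
      tw π σ k ζ ((y : Subgroup.centralizer ({t} : Set G)) * σ (r j)) *
        conj (χ (((y : Subgroup.centralizer ({t} : Set G)) * σ (r j) :
          Subgroup.centralizer ({t} : Set G)) : G)) =
      (1 - e n (k * j)) * ((Nat.card π.ker : ℂ) * conj (Dc π σ χ ζ j)) +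
        (1 - e n (k * (-j))) * ((Nat.card π.ker : ℂ) * conj (Dc π σ χ ζ (-j))) := by
    intro j
    rw [hD, hD, Finset.mul_sum, Finset.mul_sum]
    have h2 : ∑ y : π.ker, (1 - e n (k * (-j))) * (ζ y * conj (X (-j) y)) =
        ∑ y : π.ker, (1 - e n (-(k * j))) * (ζ (tau π σ y) * conj (X j y)) := by
      rw [← Equiv.sum_comp (tau π σ).toEquiv
        (fun y => (1 - e n (k * (-j))) * (ζ y * conj (X (-j) y)))]
      refine Finset.sum_congr rfl fun y _ => ?_
      show (1 - e n (k * (-j))) * (ζ (tau π σ y) * conj (X (-j) (tau π σ y))) = _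
      rw [hX2, neg_neg, mul_neg]
    rw [h2, ← Finset.sum_add_distrib]
    refine Finset.sum_congr rfl fun y _ => ?_
    rw [tw_apply hs, hX1]
    ring
  rw [Finset.sum_congr rfl (fun j _ => h1 j), Finset.sum_add_distrib]
  have h2 : ∑ j : ZMod n, (1 - e n (k * (-j))) *
      ((Nat.card π.ker : ℂ) * conj (Dc π σ χ ζ (-j))) =
      ∑ j : ZMod n, (1 - e n (k * j)) * ((Nat.card π.ker : ℂ) * conj (Dc π σ χ ζ j)) :=
    Equiv.sum_comp (Equiv.neg (ZMod n))
      (fun j => (1 - e n (k * j)) * ((Nat.card π.ker : ℂ) * conj (Dc π σ χ ζ j)))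
  rw [h2, card_C hs]
  have h3 := n_ne_zero (n := n)
  have h4 : (Nat.card π.ker : ℂ) ≠ 0 := Core.card_ne_zero_complex
  have h5 : ∑ j : ZMod n, (1 - e n (k * j)) * ((Nat.card π.ker : ℂ) * conj (Dc π σ χ ζ j)) =
      (Nat.card π.ker : ℂ) * ∑ j : ZMod n, (1 - e n (k * j)) * conj (Dc π σ χ ζ j) := by
    rw [Finset.mul_sum]
    exact Finset.sum_congr rfl fun j _ => by ring
  rw [h5]
  field_simp
  ring

end Sums

end Cfsg.Agent.Classification.TypeZIV.Gram
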