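import Mathlib
import Cfsg.Agent.Classification.TypeZIV.Gram
import Cfsg.Agent.OddOrderCharacters.Clifford

/-!
# (L1*): the integral coordinates of the functions induced from `tw k ζ`

* `vec_spec`: the coordinates are integers;
* `gram`: inner products;
* `sum_deg`: the induced functions vanish at `1`;
* `value`: their values at `σ (r j) y`, `j ≠ 0`;
* `Dc_eq`: Fourier inversion;
* `exp`: the expansion of `y ↦ χ (σ (r j) y)`.
-/

set_option autoImplicit false
set_option linter.unusedSectionVars false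
set_option maxHeartbeats 400000

namespace Cfsg.Agent.Classification.TypeZIV.Vec

open DihedralGroup Cfsg Cfsg.Agent.Characters Cfsg.Agent.Classification.BGDefs
  Cfsg.Agent.Classification.BGBasic Cfsg.Agent.Classification.TypeZIV.Defs
  Cfsg.Agent.Classification.TypeZIV.Twist Cfsg.Agent.Classification.TypeZIV.Gram
open scoped ComplexConjugate

variable {G : Type*} [Group G] {t : G} {n : ℕ} [NeZero n]
  {π : (Subgroup.centralizer ({t} : Set G)) →* DihedralGroup n}
  {σ : DihedralGroup n →* (Subgroup.centralizer ({t} : Set G))} {F0 : Subgroup π.ker}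

/-- The homomorphism `(y, j) ↦ σ (r j) y`. -/
def rotHom (hs : Setup π σ F0) : π.ker × Multiplicative (ZMod n) →* G where
  toFun p := Defs.sec σ (r p.2.toAdd) * inc π p.1
  map_one' := by
    show Defs.sec σ (r 0) * inc π 1 = 1
    rw [← DihedralGroup.one_def, map_one, map_one, mul_one]
  map_mul' := by
    rintro ⟨y, i⟩ ⟨z, j⟩
    show Defs.sec σ (r (i.toAdd + j.toAdd)) * inc π (y * z) =
      Defs.sec σ (r i.toAdd) * inc π y * (Defs.sec σ (r j.toAdd) * inc π z)
    have h1 : Defs.sec σ (r (i.toAdd + j.toAdd)) =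
        Defs.sec σ (r i.toAdd) * Defs.sec σ (r j.toAdd) := by
      rw [← map_mul, r_mul_r]
    have h2 : inc π y * Defs.sec σ (r j.toAdd) = Defs.sec σ (r j.toAdd) * inc π y :=
      congrArg Subtype.val (commute_r hs j.toAdd y).symm.eq
    rw [h1, map_mul]
    calc Defs.sec σ (r i.toAdd) * Defs.sec σ (r j.toAdd) * (inc π y * inc π z)
        = Defs.sec σ (r i.toAdd) * (Defs.sec σ (r j.toAdd) * inc π y) * inc π z := by group
      _ = Defs.sec σ (r i.toAdd) * inc π y * (Defs.sec σ (r j.toAdd) * inc π z) := by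
        rw [← h2]; group

/-- The linear character `j ↦ e(kj)`. -/
theorem isCharacter_e (k : ZMod n) :
    IsCharacter (Multiplicative (ZMod n)) (fun j => e n (k * j.toAdd)) := by
  refine Core.isIrr_isCharacter (BGIsometry.isIrr_of_mul _ ?_ ?_)
  · show e n (k * 0) = 1
    rw [mul_zero, AddChar.map_zero_eq_one]
  · intro x y
    show e n (k * (x.toAdd + y.toAdd)) = _
    rw [mul_add, AddChar.map_add_eq_mul]

/-- The multiplicity of `ζ ⊗ e(k·)`. -/
theorem mult_isNat (hs : Setup π σ F0) [Fintype π.ker] (k : ZMod n) {ζ : π.ker → ℂ}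
    (hζ : IsCharacter π.ker ζ) {χ : G → ℂ} (hχ : IsCharacter G χ) :
    ∃ m : ℕ, (n : ℂ)⁻¹ * ∑ j : ZMod n, e n (k * j) * conj (Dc π σ χ ζ j) = m := by
  classical
  let _ : Fintype (Multiplicative (ZMod n)) := Fintype.ofFinite _
  have ha := Core.isCharacter_comp (MonoidHom.fst π.ker (Multiplicative (ZMod n))) hζ
  have hb := Core.isCharacter_comp (MonoidHom.snd π.ker (Multiplicative (ZMod n)))
    (isCharacter_e k)
  have h1 := Core.isCharacter_mul ha hb
  have h1' : (ζ ∘ (MonoidHom.fst π.ker (Multiplicative (ZMod n)))) *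
      ((fun j : Multiplicative (ZMod n) => e n (k * j.toAdd)) ∘
        (MonoidHom.snd π.ker (Multiplicative (ZMod n)))) =
      fun p => ζ p.1 * e n (k * p.2.toAdd) := rfl
  rw [h1'] at h1
  have hc := Core.isCharacter_comp (rotHom hs) hχ
  obtain ⟨m, hm⟩ := Core.classInner_isNat h1 hc
  refine ⟨m, ?_⟩
  rw [← hm, Core.classInner_def, Fintype.sum_prod_type_right, Nat.card_prod]
  have h2 : (Nat.card π.ker : ℂ) ≠ 0 := Core.card_ne_zero_complex
  have h3 : Nat.card (Multiplicative (ZMod n)) = n := by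
    rw [Nat.card_congr Multiplicative.toAdd, Nat.card_zmod]
  rw [h3]
  have h4 : ∑ j : ZMod n, e n (k * j) * conj (Dc π σ χ ζ j) =
      ∑ j : Multiplicative (ZMod n), (Nat.card π.ker : ℂ)⁻¹ * ∑ y : π.ker,
        ζ y * e n (k * j.toAdd) * conj (χ (rotHom hs (y, j))) := by
    refine Fintype.sum_equiv Multiplicative.ofAdd _ _ fun j => ?_
    have h5 : conj (Dc π σ χ ζ j) = (Nat.card π.ker : ℂ)⁻¹ * ∑ y : π.ker,
        ζ y * conj (χ (Defs.sec σ (r j) * inc π y)) := by
      rw [Dc, Core.classInner_def, RingHom.map_mul, map_inv₀, Complex.conj_natCast, map_sum]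
      congr 1
      refine Finset.sum_congr rfl fun y _ => ?_
      rw [RingHom.map_mul, Complex.conj_conj, mul_comm]
    rw [h5, mul_left_comm, Finset.mul_sum]
    congr 1
    refine Finset.sum_congr rfl fun y _ => ?_
    show e n (k * j) * (ζ y * conj (χ (Defs.sec σ (r j) * inc π y))) =
      ζ y * e n (k * j) * conj (χ (Defs.sec σ (r j) * inc π y))
    ring
  rw [h4, ← Finset.mul_sum]
  push_cast
  rw [mul_inv]
  simp only [Function.comp_apply]
  ring

/-- Inner products with `tw k ζ` are integers. -/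
theorem isInt (hs : Setup π σ F0) [Fintype π.ker] (k : ZMod n) {ζ : π.ker → ℂ}
    (hζ : IsCharacter π.ker ζ) {χ : G → ℂ} (hχ : IsCharacter G χ) :
    ∃ z : ℤ, (n : ℂ)⁻¹ * ∑ j : ZMod n, (1 - e n (k * j)) * conj (Dc π σ χ ζ j) = z := by
  obtain ⟨a, ha⟩ := mult_isNat hs 0 hζ hχ
  obtain ⟨b, hb⟩ := mult_isNat hs k hζ hχ
  refine ⟨a - b, ?_⟩
  push_cast
  rw [← ha, ← hb, ← mul_sub, ← Finset.sum_sub_distrib]
  congr 1
  refine Finset.sum_congr rfl fun j _ => ?_
  rw [zero_mul, AddChar.map_zero_eq_one]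
  ring

section Fin

variable [Fintype G] [Fintype (Subgroup.centralizer ({t} : Set G))] [Fintype π.ker]

theorem inner_ind (hs : Setup π σ F0) (k : ZMod n) (ζ : π.ker → ℂ) {χ : G → ℂ}
    (hχ : IsClassFunction G χ) :
    classInner (indFun (Subgroup.centralizer ({t} : Set G)) (tw π σ k ζ)) χ =
      (n : ℂ)⁻¹ * ∑ j : ZMod n, (1 - e n (k * j)) * conj (Dc π σ χ ζ j) := by
  rw [BGIsometry.classInner_indFun_left _ _ hχ]
  exact inner_tw hs k ζ hχ

theorem vec_spec (hs : Setup π σ F0) (k : ZMod n) {ζ : π.ker → ℂ} (hζ : IsCharacter π.ker ζ)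
    {χ : G → ℂ} (hχ : IsCharacter G χ) :
    classInner (indFun (Subgroup.centralizer ({t} : Set G)) (tw π σ k ζ)) χ =
      (vec π σ k ζ χ : ℂ) := by
  obtain ⟨z, hz⟩ := isInt hs k hζ hχ
  have h1 := inner_ind hs k ζ (Core.isCharacter_isClassFunction hχ)
  rw [hz] at h1
  rw [vec, h1, Complex.intCast_re, round_intCast]

theorem isClass_ind (k : ZMod n) (ζ : π.ker → ℂ) :
    IsClassFunction G (indFun (Subgroup.centralizer ({t} : Set G)) (tw π σ k ζ)) :=
  OddOrderCharacters.Clifford.isClassFunction_indFun _ _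

/-- Fourier inversion: the coefficient `Dc χ ζ j`, `j ≠ 0`. -/
theorem Dc_eq (hs : Setup π σ F0) {ζ : π.ker → ℂ} (hζ : IsCharacter π.ker ζ)
    {χ : G → ℂ} (hχ : IsCharacter G χ) (j : ZMod n) (hj : j ≠ 0) :
    Dc π σ χ ζ j = -∑ k : ZMod n, (vec π σ k ζ χ : ℂ) * e n (k * j) := by
  have h1 := inversion (fun j => conj (Dc π σ χ ζ j)) j hj
  have h2 : ∀ k : ZMod n, (n : ℂ)⁻¹ * ∑ i : ZMod n, (1 - e n (k * i)) * conj (Dc π σ χ ζ i) =
      (vec π σ k ζ χ : ℂ) := by
    intro k
    rw [← inner_ind hs k ζ (Core.isCharacter_isClassFunction hχ), vec_spec hs k hζ hχ]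
  simp only [h2] at h1
  have h3 := congrArg conj h1
  rw [Complex.conj_conj, RingHom.map_neg, map_sum] at h3
  rw [h3]
  congr 1
  refine Finset.sum_congr rfl fun k _ => ?_
  rw [RingHom.map_mul, conj_e, neg_neg, map_intCast, mul_comm]

theorem vec_zero (hs : Setup π σ F0) {ζ : π.ker → ℂ} (hζ : IsCharacter π.ker ζ)
    {χ : G → ℂ} (hχ : IsCharacter G χ) : vec π σ 0 ζ χ = 0 := by
  have h1 := vec_spec hs 0 hζ hχ
  rw [inner_ind hs 0 ζ (Core.isCharacter_isClassFunction hχ)] at h1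
  have h2 : ∑ j : ZMod n, (1 - e n (0 * j)) * conj (Dc π σ χ ζ j) = 0 := by
    refine Finset.sum_eq_zero fun j _ => ?_
    rw [zero_mul, AddChar.map_zero_eq_one, sub_self, zero_mul]
  rw [h2, mul_zero] at h1
  exact_mod_cast h1.symm

/-- Gram matrix, complex form. -/
theorem gramC [Fintype (IrrCharacter G)] (hs : Setup π σ F0) {k l : ZMod n} (hk : k ≠ 0)
    (hl : l ≠ 0) {ζ ξ : π.ker → ℂ} (hζ : IsCharacter π.ker ζ) (hξ : IsCharacter π.ker ξ) :
    ∑ χ : IrrCharacter G, (vec π σ k ζ χ : ℂ) * (vec π σ l ξ χ : ℂ) =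
      (1 + if k = l then 1 else 0) * classInner ζ ξ +
        (1 + if k = -l then 1 else 0) * classInner ζ (fun y => ξ (tau π σ y)) := by
  rw [← gramH hs hk hl ζ ξ, ← BGIsometry.classInner_indFun_indFun hs.hyp.orderOf_t
    (isClass_tw hs k (Core.isCharacter_isClassFunction hζ))
    (isClass_tw hs l (Core.isCharacter_isClassFunction hξ)) (supp_tw hs k ζ) (supp_tw hs l ξ),
    Core.classInner_eq_sum (isClass_ind k ζ) (isClass_ind l ξ)]
  refine Finset.sum_congr rfl fun χ _ => ?_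
  rw [vec_spec hs k hζ (Core.isIrr_isCharacter χ.2), vec_spec hs l hξ
    (Core.isIrr_isCharacter χ.2), map_intCast]

theorem isIrr_tau {ζ : π.ker → ℂ} (hζ : IsIrrCharacter π.ker ζ) :
    IsIrrCharacter π.ker (fun y => ζ (tau π σ y)) :=
  Core.isIrr_comp (tau π σ).toMonoidHom (tau π σ).surjective hζ

open scoped Classical in
/-- **Gram matrix.** -/
theorem gram [Fintype (IrrCharacter G)] (hs : Setup π σ F0) {k l : ZMod n} (hk : k ≠ 0)
    (hl : l ≠ 0) {ζ ξ : π.ker → ℂ} (hζ : IsIrrCharacter π.ker ζ)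
    (hξ : IsIrrCharacter π.ker ξ) :
    ∑ χ : IrrCharacter G, vec π σ k ζ χ * vec π σ l ξ χ =
      (1 + if k = l then 1 else 0) * (if ζ = ξ then 1 else 0) +
        (1 + if k = -l then 1 else 0) * (if ζ = (fun y => ξ (tau π σ y)) then 1 else 0) := by
  have h1 := gramC hs hk hl (Core.isIrr_isCharacter hζ) (Core.isIrr_isCharacter hξ)
  rw [Core.classInner_irr hζ hξ, Core.classInner_irr hζ (isIrr_tau hξ)] at h1
  exact_mod_cast h1

/-- The induced function as a sum. -/
theorem ind_eq_sum [Fintype (IrrCharacter G)] (hs : Setup π σ F0) (k : ZMod n)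
    {ζ : π.ker → ℂ} (hζ : IsCharacter π.ker ζ) (g : G) :
    indFun (Subgroup.centralizer ({t} : Set G)) (tw π σ k ζ) g =
      ∑ χ : IrrCharacter G, (vec π σ k ζ χ : ℂ) * (χ : G → ℂ) g := by
  have h1 := congrFun (Core.classFunction_eq_sum (isClass_ind (π := π) (σ := σ) k ζ)) g
  rw [h1, Finset.sum_apply]
  refine Finset.sum_congr rfl fun χ _ => ?_
  rw [Pi.smul_apply, smul_eq_mul, vec_spec hs k hζ (Core.isIrr_isCharacter χ.2)]

theorem sum_deg [Fintype (IrrCharacter G)] (hs : Setup π σ F0) (k : ZMod n)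
    {ζ : π.ker → ℂ} (hζ : IsCharacter π.ker ζ) :
    ∑ χ : IrrCharacter G, vec π σ k ζ χ * (deg χ : ℤ) = 0 := by
  have h1 := ind_eq_sum hs k hζ 1
  rw [BGIsometry.indFun_one hs.hyp.orderOf_t (supp_tw hs k ζ)] at h1
  simp only [apply_one] at h1
  exact_mod_cast h1.symm

theorem value [Fintype (IrrCharacter G)] (hs : Setup π σ F0) (k : ZMod n)
    {ζ : π.ker → ℂ} (hζ : IsCharacter π.ker ζ) {j : ZMod n} (hj : j ≠ 0) (y : π.ker) :
    ∑ χ : IrrCharacter G, (vec π σ k ζ χ : ℂ) * (χ : G → ℂ) (Defs.sec σ (r j) * inc π y) =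
      (1 - e n (k * j)) * ζ y + (1 - e n (-(k * j))) * ζ (tau π σ y) := by
  rw [← ind_eq_sum hs k hζ, ← tw_apply hs k j ζ y]
  have h1 : t ∈ Subgroup.zpowers (((y : Subgroup.centralizer ({t} : Set G)) * σ (r j) :
      Subgroup.centralizer ({t} : Set G)) : G) :=
    mem_zpowers_of_rot hs.hyp hj (pi_mul hs y (r j))
  have h2 : Defs.sec σ (r j) * inc π y =
      (((y : Subgroup.centralizer ({t} : Set G)) * σ (r j) :
        Subgroup.centralizer ({t} : Set G)) : G) :=
    congrArg Subtype.val (commute_r hs j y).eq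
  rw [h2]
  exact BGIsometry.indFun_eq hs.hyp.orderOf_t
    (isClass_tw hs k (Core.isCharacter_isClassFunction hζ)) (supp_tw hs k ζ) h1

/-- `y ↦ χ (σ (r j) y)` is a class function. -/
theorem isClass_rot (hs : Setup π σ F0) {χ : G → ℂ} (hχ : IsClassFunction G χ) (j : ZMod n) :
    IsClassFunction π.ker (fun y => χ (Defs.sec σ (r j) * inc π y)) := by
  intro y z
  show χ (Defs.sec σ (r j) * inc π (z * y * z⁻¹)) = χ (Defs.sec σ (r j) * inc π y)
  have h2 : inc π z * Defs.sec σ (r j) = Defs.sec σ (r j) * inc π z :=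
    congrArg Subtype.val (commute_r hs j z).symm.eq
  have h1 : Defs.sec σ (r j) * inc π (z * y * z⁻¹) =
      inc π z * (Defs.sec σ (r j) * inc π y) * (inc π z)⁻¹ := by
    rw [map_mul, map_mul, map_inv, ← mul_assoc, ← mul_assoc, ← mul_assoc, h2]
  rw [h1, hχ]

theorem exp [Fintype (IrrCharacter π.ker)] (hs : Setup π σ F0) {χ : G → ℂ}
    (hχ : IsClassFunction G χ) (j : ZMod n) (y : π.ker) :
    χ (Defs.sec σ (r j) * inc π y) =
      ∑ ζ : IrrCharacter π.ker, Dc π σ χ ζ j * (ζ : π.ker → ℂ) y := by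
  have h1 := congrFun (Core.classFunction_eq_sum (isClass_rot hs hχ j)) y
  rw [Finset.sum_apply] at h1
  rw [h1]
  rfl

end Fin

end Cfsg.Agent.Classification.TypeZIV.Vec
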