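import Mathlib
import Cfsg.Agent.Classification.TypeZIV.Vec
import Cfsg.Agent.Classification.TypeZIV.Vectors
import Cfsg.Agent.Classification.TypeZIV.Fusion

/-!
# (L1*), `|S| ≥ 8`: the value theorem

* `vec_neg`: `vec (-k) ζ = vec k ζ` if `ζ` is fixed by `tau`;
* `Dc_half`: `Dc χ ζ (n / 2)` is an integer congruent to `vec (n / 2) ζ χ` modulo `2`;
* `value_thm`: the values of the common constituents of `vec k Λ` and `vec (n / 2) Λ` at the
  rotations.
-/

set_option autoImplicit false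
set_option linter.unusedSectionVars false
set_option maxHeartbeats 400000

namespace Cfsg.Agent.Classification.TypeZIV.Value

open DihedralGroup Cfsg Cfsg.Agent.Characters Cfsg.Agent.Classification.BGDefs
  Cfsg.Agent.Classification.BGBasic Cfsg.Agent.Classification.TypeZIV.Defs
  Cfsg.Agent.Classification.TypeZIV.Twist Cfsg.Agent.Classification.TypeZIV.Vec
  Cfsg.Agent.Classification.TypeZIV.Vectors Cfsg.Agent.Classification.TypeZIV.Fusion
open scoped ComplexConjugate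

/-- Sum of an even function on `ZMod n` modulo `2`. -/
theorem sum_even {n : ℕ} [NeZero n] (h2 : 2 ∣ n) (g : ZMod n → ℤ) (hg : ∀ k, g (-k) = g k) :
    (2 : ℤ) ∣ ∑ k, g k - g 0 - g ((n / 2 : ℕ) : ZMod n) := by
  classical
  have h0 : ((n / 2 : ℕ) : ZMod n) ≠ 0 := half_ne_zero h2
  set c : ZMod n := ((n / 2 : ℕ) : ZMod n) with hc
  have h1 : ∑ k, g k = g 0 + (g c + ∑ k ∈ (Finset.univ.erase 0).erase c, g k) := by
    rw [← Finset.add_sum_erase _ _ (Finset.mem_univ (0 : ZMod n)),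
      ← Finset.add_sum_erase _ _ (Finset.mem_erase.2 ⟨h0, Finset.mem_univ c⟩)]
  have h3 : (2 : ℤ) ∣ ∑ k ∈ (Finset.univ.erase 0).erase c, g k := by
    have h4 : ((∑ k ∈ (Finset.univ.erase 0).erase c, g k : ℤ) : ZMod 2) = 0 := by
      push_cast
      refine Finset.sum_involution (fun k _ => -k) ?_ ?_ ?_ ?_
      · intro k _
        rw [hg]
        have : ∀ a : ZMod 2, a + a = 0 := by decide
        exact this _
      · intro k hk _ h5
        rw [Finset.mem_erase, Finset.mem_erase] at hk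
        have h6 : k + k = 0 := by
          nth_rewrite 1 [← h5]
          exact neg_add_cancel k
        rcases eq_zero_or_half h6 with h7 | h7
        · exact hk.2.1 h7
        · exact hk.1 h7
      · intro k hk
        rw [Finset.mem_erase, Finset.mem_erase] at hk ⊢
        refine ⟨?_, ?_, Finset.mem_univ _⟩
        · intro h5
          apply hk.1
          rw [← neg_neg k, h5, hc]
          exact BGIsometry.neg_half h2
        · exact neg_ne_zero.2 hk.2.1
      · intro k _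
        exact neg_neg k
    exact (ZMod.intCast_zmod_eq_zero_iff_dvd _ 2).1 h4
  have h5 : ∑ k, g k - g 0 - g c = ∑ k ∈ (Finset.univ.erase 0).erase c, g k := by
    rw [h1]; ring
  rw [h5]
  exact h3

theorem sum_sq {ι : Type*} [Fintype ι] (f : ι → ℤ) : ∑ x, f x ^ 2 = ∑ x, f x * f x :=
  Finset.sum_congr rfl fun _ _ => sq _

variable {G : Type*} [Group G] {t : G} {n : ℕ} [NeZero n]
  {π : (Subgroup.centralizer ({t} : Set G)) →* DihedralGroup n}
  {σ : DihedralGroup n →* (Subgroup.centralizer ({t} : Set G))} {F0 : Subgroup π.ker}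

theorem tw_neg (hs : Setup π σ F0) (k : ZMod n) {ζ : π.ker → ℂ}
    (hτ : ∀ y, ζ (tau π σ y) = ζ y) : tw π σ (-k) ζ = tw π σ k ζ := by
  funext x
  obtain ⟨y, hy⟩ := exists_eq hs x
  match hπ : π x with
  | sr j =>
    rw [hπ] at hy
    rw [hy, tw_apply_sr hs, tw_apply_sr hs]
  | r j =>
    rw [hπ] at hy
    rw [hy, tw_apply hs, tw_apply hs, hτ, neg_mul, neg_neg]
    ring

theorem vec_neg [Fintype G] (hs : Setup π σ F0) (k : ZMod n) {ζ : π.ker → ℂ}
    (hτ : ∀ y, ζ (tau π σ y) = ζ y) (χ : G → ℂ) : vec π σ (-k) ζ χ = vec π σ k ζ χ := by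
  rw [vec, vec, tw_neg hs k hτ]

section Fin

variable [Fintype G] [Fintype (Subgroup.centralizer ({t} : Set G))] [Fintype π.ker]

/-- The sign `e (k n / 2)`. -/
theorem e_half_cases (h2 : 2 ∣ n) (k : ZMod n) :
    ∃ s : ℤ, (s = 1 ∨ s = -1) ∧ e n (k * ((n / 2 : ℕ) : ZMod n)) = s := by
  have h1 : e n (k * ((n / 2 : ℕ) : ZMod n)) * e n (k * ((n / 2 : ℕ) : ZMod n)) = 1 := by
    rw [← AddChar.map_add_eq_mul, ← mul_add, half_add_half h2, mul_zero,
      AddChar.map_zero_eq_one]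
  rcases mul_self_eq_one_iff.1 h1 with h | h
  · exact ⟨1, Or.inl rfl, by rw [h]; norm_num⟩
  · exact ⟨-1, Or.inr rfl, by rw [h]; norm_num⟩

/-- The coefficient at `t` is an integer congruent to `vec (n / 2) ζ χ` modulo `2`. -/
theorem Dc_half (hs : Setup π σ F0) {ζ : π.ker → ℂ} (hζ : IsCharacter π.ker ζ)
    (hτ : ∀ y, ζ (tau π σ y) = ζ y) {χ : G → ℂ} (hχ : IsCharacter G χ) :
    ∃ z : ℤ, Dc π σ χ ζ ((n / 2 : ℕ) : ZMod n) = z ∧
      (2 : ℤ) ∣ z - vec π σ ((n / 2 : ℕ) : ZMod n) ζ χ := by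
  classical
  have h2 := two_dvd hs.hyp
  choose s hs1 hs2 using fun k : ZMod n => e_half_cases h2 k
  have hsneg : ∀ k, s (-k) = s k := by
    intro k
    have h3 : e n (-k * ((n / 2 : ℕ) : ZMod n)) = e n (k * ((n / 2 : ℕ) : ZMod n)) := by
      congr 1
      rw [neg_mul, ← mul_neg, BGIsometry.neg_half h2]
    rw [hs2, hs2] at h3
    exact_mod_cast h3
  refine ⟨-∑ k, vec π σ k ζ χ * s k, ?_, ?_⟩
  · rw [Dc_eq hs hζ hχ _ (half_ne_zero h2)]
    push_cast
    congr 1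
    exact Finset.sum_congr rfl fun k _ => by rw [hs2]
  · have h3 := sum_even h2 (fun k => vec π σ k ζ χ * s k)
      (fun k => by rw [vec_neg hs k hτ, hsneg])
    simp only [vec_zero hs hζ hχ, zero_mul, sub_zero] at h3
    have h4 : (2 : ℤ) ∣ vec π σ ((n / 2 : ℕ) : ZMod n) ζ χ * s ((n / 2 : ℕ) : ZMod n) +
        vec π σ ((n / 2 : ℕ) : ZMod n) ζ χ := by
      rcases hs1 ((n / 2 : ℕ) : ZMod n) with h5 | h5 <;> rw [h5]
      · exact ⟨vec π σ ((n / 2 : ℕ) : ZMod n) ζ χ, by ring⟩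
      · exact ⟨0, by ring⟩
    have h5 := dvd_neg.2 (dvd_add h3 h4)
    have h6 : -∑ k, vec π σ k ζ χ * s k - vec π σ ((n / 2 : ℕ) : ZMod n) ζ χ =
        -(∑ k, vec π σ k ζ χ * s k -
          vec π σ ((n / 2 : ℕ) : ZMod n) ζ χ * s ((n / 2 : ℕ) : ZMod n) +
          (vec π σ ((n / 2 : ℕ) : ZMod n) ζ χ * s ((n / 2 : ℕ) : ZMod n) +
            vec π σ ((n / 2 : ℕ) : ZMod n) ζ χ)) := by ring
    rw [h6]
    exact h5

/-- Norms and inner products of the coordinate vectors of a fixed character. -/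
theorem gram_fix [Fintype (IrrCharacter G)] (hs : Setup π σ F0) {k l : ZMod n} (hk : k ≠ 0)
    (hl : l ≠ 0) {ζ : π.ker → ℂ} (hζ : IsIrrCharacter π.ker ζ)
    (hτ : ∀ y, ζ (tau π σ y) = ζ y) :
    ∑ χ : IrrCharacter G, vec π σ k ζ χ * vec π σ l ζ χ =
      (1 + if k = l then 1 else 0) + (1 + if k = -l then 1 else 0) := by
  classical
  rw [gram hs hk hl hζ hζ, if_pos (rfl : ζ = ζ), if_pos (funext fun y => (hτ y).symm)]
  ring

theorem gram_nonfix [Fintype (IrrCharacter G)] (hs : Setup π σ F0) {k l : ZMod n}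
    (hk : k ≠ 0) (hl : l ≠ 0) {ζ : π.ker → ℂ} (hζ : IsIrrCharacter π.ker ζ)
    (hτ : ζ ≠ fun y => ζ (tau π σ y)) :
    ∑ χ : IrrCharacter G, vec π σ k ζ χ * vec π σ l ζ χ =
      1 + if k = l then 1 else 0 := by
  classical
  rw [gram hs hk hl hζ hζ, if_pos (rfl : ζ = ζ), if_neg hτ]
  ring

theorem gram_ne [Fintype (IrrCharacter G)] (hs : Setup π σ F0) {k l : ZMod n}
    (hk : k ≠ 0) (hl : l ≠ 0) {ζ ξ : π.ker → ℂ} (hζ : IsIrrCharacter π.ker ζ)
    (hξ : IsIrrCharacter π.ker ξ) (hτ : ∀ y, ξ (tau π σ y) = ξ y) (hne : ζ ≠ ξ) :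
    ∑ χ : IrrCharacter G, vec π σ k ζ χ * vec π σ l ξ χ = 0 := by
  classical
  have h2 : ¬ (ζ = fun y => ξ (tau π σ y)) := by
    intro h
    apply hne
    rw [h]
    funext y
    exact hτ y
  rw [gram hs hk hl hζ hξ, if_neg hne, if_neg h2, mul_zero, mul_zero, add_zero]

theorem half_norm [Fintype (IrrCharacter G)] (hs : Setup π σ F0) {ζ : π.ker → ℂ}
    (hζ : IsIrrCharacter π.ker ζ) (hτ : ∀ y, ζ (tau π σ y) = ζ y) :
    ∑ χ : IrrCharacter G, vec π σ ((n / 2 : ℕ) : ZMod n) ζ χ ^ 2 = 4 := by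
  have h2 := two_dvd hs.hyp
  have h1 := gram_fix hs (half_ne_zero h2) (half_ne_zero h2) hζ hτ
  rw [if_pos rfl, if_pos (BGIsometry.neg_half h2).symm] at h1
  exact (sum_sq (fun χ : IrrCharacter G => vec π σ ((n / 2 : ℕ) : ZMod n) ζ χ)).trans
    (h1.trans (by norm_num))

theorem tri_half [Fintype (IrrCharacter G)] (hs : Setup π σ F0) {ζ : π.ker → ℂ}
    (hζ : IsIrrCharacter π.ker ζ) (hτ : ∀ y, ζ (tau π σ y) = ζ y) :
    Tri (fun χ : IrrCharacter G => vec π σ ((n / 2 : ℕ) : ZMod n) ζ χ) :=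
  tri_of_four (d := fun χ : IrrCharacter G => (deg χ : ℤ))
    (fun χ => by exact_mod_cast deg_pos χ) (half_norm hs hζ hτ)
    (sum_deg hs _ (Core.isIrr_isCharacter hζ))

theorem three_norm [Fintype (IrrCharacter G)] (hs : Setup π σ F0) {k : ZMod n}
    (hk : k + k ≠ 0) {ζ : π.ker → ℂ}
    (hζ : IsIrrCharacter π.ker ζ) (hτ : ∀ y, ζ (tau π σ y) = ζ y) :
    ∑ χ : IrrCharacter G, vec π σ k ζ χ ^ 2 = 3 := by
  have hk0 : k ≠ 0 := BGIsometry.ne_zero_of_add hk
  have h1 := gram_fix hs hk0 hk0 hζ hτ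
  rw [if_pos rfl, if_neg (fun h => hk (eq_neg_iff_add_eq_zero.mp h))] at h1
  exact (sum_sq (fun χ : IrrCharacter G => vec π σ k ζ χ)).trans (h1.trans (by norm_num))

theorem inner_half [Fintype (IrrCharacter G)] (hs : Setup π σ F0) {k : ZMod n}
    (hk : k + k ≠ 0) {ζ : π.ker → ℂ}
    (hζ : IsIrrCharacter π.ker ζ) (hτ : ∀ y, ζ (tau π σ y) = ζ y) :
    ∑ χ : IrrCharacter G, vec π σ k ζ χ * vec π σ ((n / 2 : ℕ) : ZMod n) ζ χ = 2 := by
  have h2 := two_dvd hs.hyp
  have hk0 : k ≠ 0 := BGIsometry.ne_zero_of_add hk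
  have hk2 := BGIsometry.ne_half_of_add h2 hk
  rw [gram_fix hs hk0 (half_ne_zero h2) hζ hτ, if_neg hk2, BGIsometry.neg_half h2, if_neg hk2]
  norm_num

/-- **Value theorem**, `4 ≤ n`. -/
theorem value_thm [Fintype (IrrCharacter G)] [Fintype (IrrCharacter π.ker)]
    (hs : Setup π σ F0) (hn : 4 ≤ n) {Λ : π.ker → ℂ} (hΛ : IsIrrCharacter π.ker Λ)
    (hΛτ : ∀ y, Λ (tau π σ y) = Λ y) (hΛ1 : Λ 1 = 1)
    (hpar : ∀ ζ : π.ker → ℂ, IsIrrCharacter π.ker ζ → (∀ y, ζ (tau π σ y) = ζ y) → ζ ≠ Λ →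
      ∀ χ : IrrCharacter G, vec π σ ((n / 2 : ℕ) : ZMod n) Λ χ ≠ 0 →
        (2 : ℤ) ∣ vec π σ ((n / 2 : ℕ) : ZMod n) ζ χ)
    (χ : IrrCharacter G) {k : ZMod n} (hk : k + k ≠ 0) (h1 : vec π σ k Λ χ ≠ 0)
    (h2 : vec π σ ((n / 2 : ℕ) : ZMod n) Λ χ ≠ 0) (j : ZMod n) (hj : j ≠ 0) :
    (χ : G → ℂ) (Defs.sec σ (r j)) = -∑ k : ZMod n, (vec π σ k Λ χ : ℂ) * e n (k * j) := by
  classical
  have h22 := two_dvd hs.hyp
  have hd : ∀ χ : IrrCharacter G, (0 : ℤ) < (deg χ : ℤ) := fun χ => by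
    exact_mod_cast deg_pos χ
  have hk0 : k ≠ 0 := BGIsometry.ne_zero_of_add hk
  have hΛc := Core.isIrr_isCharacter hΛ
  have hzero : ∀ ζ : π.ker → ℂ, IsIrrCharacter π.ker ζ → ζ ≠ Λ → ∀ l : ZMod n,
      vec π σ l ζ χ = 0 := by
    intro ζ hζ hne l
    have hζc := Core.isIrr_isCharacter hζ
    by_cases hl : l = 0
    · rw [hl]
      exact vec_zero hs hζc (Core.isIrr_isCharacter χ.2)
    by_cases hτ : ζ = fun y => ζ (tau π σ y)
    · -- fixed characters
      have hτ' : ∀ y, ζ (tau π σ y) = ζ y := fun y => (congrFun hτ y).symm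
      have hdis : ∀ χ : IrrCharacter G, vec π σ ((n / 2 : ℕ) : ZMod n) Λ χ ≠ 0 →
          vec π σ ((n / 2 : ℕ) : ZMod n) ζ χ = 0 := by
        intro χ hχ
        have h3 := hpar ζ hζ hτ' hne χ hχ
        rcases tri_half hs hζ hτ' χ with h4 | h4 | h4
        · exact h4
        · simp only at h4
          rw [h4] at h3
          norm_num at h3
        · simp only at h4
          rw [h4] at h3
          norm_num at h3
      by_cases hl2 : l + l = 0
      · rcases eq_zero_or_half hl2 with h3 | h3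
        · exact absurd h3 hl
        · rw [h3]
          exact hdis χ h2
      · refine disjoint_of (β := fun χ : IrrCharacter G => vec π σ l ζ χ)
          (γ := fun χ : IrrCharacter G => vec π σ ((n / 2 : ℕ) : ZMod n) Λ χ)
          (γ' := fun χ : IrrCharacter G => vec π σ ((n / 2 : ℕ) : ZMod n) ζ χ)
          (tri_of_le_three (three_norm hs hl2 hζ hτ').le) (tri_half hs hΛ hΛτ)
          (tri_half hs hζ hτ') (three_norm hs hl2 hζ hτ') (inner_half hs hl2 hζ hτ')
          (gram_ne hs hl (half_ne_zero h22) hζ hΛ hΛτ hne) hdis χ h2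
    · -- characters which are not fixed
      obtain ⟨l', hl', hll'⟩ : ∃ l' : ZMod n, l' ≠ 0 ∧ l ≠ l' := by
        by_cases h3 : l = 1
        · refine ⟨-1, ?_, ?_⟩
          · rw [h3] at hl
            exact neg_ne_zero.2 hl
          · rw [h3]
            intro h4
            have h5 : ((2 : ℕ) : ZMod n) = 0 := by
              push_cast
              linear_combination h4
            rw [ZMod.natCast_eq_zero_iff] at h5
            have := Nat.le_of_dvd (by norm_num) h5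
            omega
        · refine ⟨1, ?_, h3⟩
          intro h4
          have h5 : ((1 : ℕ) : ZMod n) = 0 := by
            push_cast
            exact h4
          rw [ZMod.natCast_eq_zero_iff] at h5
          have := Nat.le_of_dvd (by norm_num) h5
          omega
      have e1 : ∑ χ : IrrCharacter G, vec π σ l ζ χ ^ 2 = 2 := by
        refine (sum_sq (fun χ : IrrCharacter G => vec π σ l ζ χ)).trans ?_
        rw [gram_nonfix hs hl hl hζ hτ, if_pos rfl]
        norm_num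
      have e2 : ∑ χ : IrrCharacter G, vec π σ l' ζ χ ^ 2 = 2 := by
        refine (sum_sq (fun χ : IrrCharacter G => vec π σ l' ζ χ)).trans ?_
        rw [gram_nonfix hs hl' hl' hζ hτ, if_pos rfl]
        norm_num
      have e3 : ∑ χ : IrrCharacter G, vec π σ l ζ χ * vec π σ l' ζ χ = 1 := by
        rw [gram_nonfix hs hl hl' hζ hτ, if_neg hll']
        norm_num
      exact alpha (β := fun χ : IrrCharacter G => vec π σ k Λ χ)
        (α := fun χ : IrrCharacter G => vec π σ l ζ χ)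
        (α' := fun χ : IrrCharacter G => vec π σ l' ζ χ)
        (d := fun χ : IrrCharacter G => (deg χ : ℤ)) hd (three_norm hs hk hΛ hΛτ)
        (sum_deg hs k hΛc) e1 (sum_deg hs l hζc) e2 (sum_deg hs l' hζc) e3
        (gram_ne hs hl hk0 hζ hΛ hΛτ hne) (gram_ne hs hl' hk0 hζ hΛ hΛτ hne) χ h1
  have h3 := exp hs (Core.isIrr_isClassFunction χ.2) j 1
  rw [map_one, mul_one] at h3
  rw [h3, Finset.sum_eq_single (⟨Λ, hΛ⟩ : IrrCharacter π.ker)]
  · show Dc π σ (χ : G → ℂ) Λ j * Λ 1 = _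
    rw [hΛ1, mul_one]
    exact Dc_eq hs hΛc (Core.isIrr_isCharacter χ.2) j hj
  · intro ζ _ hne
    have hne' : (ζ : π.ker → ℂ) ≠ Λ := fun h => hne (Subtype.ext h)
    rw [Dc_eq hs (Core.isIrr_isCharacter ζ.2) (Core.isIrr_isCharacter χ.2) j hj,
      Finset.sum_eq_zero, neg_zero, zero_mul]
    intro l _
    rw [hzero ζ ζ.2 hne' l, Int.cast_zero, zero_mul]
  · intro h
    exact absurd (Finset.mem_univ _) h

end Fin

end Cfsg.Agent.Classification.TypeZIV.Value
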