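import Mathlib
import Cfsg.Agent.Classification.TypeZIV.FourPhi
import Cfsg.Agent.Classification.TypeZIV.Value
import Cfsg.Agent.Classification.TypeZIV.Parity

/-!
# (L1*), `|S| = 4`: vanishing of the coefficients

`Λ` an irreducible character of `K` of degree one, fixed by `tau`, `χ` an irreducible character of
`G` with `vec 1 Λ χ ≠ 0`. Then `vec 1 ζ χ = 0` if `ζ` is not conjugate to `Λ` under `N(S)`, and
the parity of `vec 1 Λ χ` is invariant under `N(S)`.
-/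

set_option autoImplicit false
set_option linter.unusedSectionVars false

namespace Cfsg.Agent.Classification.TypeZIV.FourParity

open DihedralGroup Cfsg Cfsg.Agent.Characters Cfsg.Agent.Classification.BGDefs
  Cfsg.Agent.Classification.BGBasic Cfsg.Agent.Classification.TypeZIV.Defs
  Cfsg.Agent.Classification.TypeZIV.Twist Cfsg.Agent.Classification.TypeZIV.Fusion
  Cfsg.Agent.Classification.TypeZIV.Lin Cfsg.Agent.Classification.TypeZIV.FourPhi
  Cfsg.Agent.Classification.TypeZIV.Vec Cfsg.Agent.Classification.TypeZIV.Vectors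
  Cfsg.Agent.Classification.TypeZIV.Value Cfsg.Agent.Classification.TypeZIV.Parity
open scoped ComplexConjugate

variable {G : Type*} [Group G] {t : G}
  {π : (Subgroup.centralizer ({t} : Set G)) →* DihedralGroup 2}
  {σ : DihedralGroup 2 →* (Subgroup.centralizer ({t} : Set G))} {F0 : Subgroup π.ker}

theorem half_two : ((2 / 2 : ℕ) : ZMod 2) = 1 := by norm_num

theorem e_two_one : e 2 (1 : ZMod 2) = -1 := by
  have h := e_half (n := 2) (dvd_refl 2)
  rwa [half_two] at h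

theorem sec_one (hs : Setup π σ F0) : Defs.sec σ (r 1) = t := by
  have h := sec_half hs
  rwa [half_two] at h

section Fin

variable [Fintype G] [Fintype (Subgroup.centralizer ({t} : Set G))] [Fintype π.ker]

theorem Dc_one (hs : Setup π σ F0) {ζ : π.ker → ℂ} (hζ : IsCharacter π.ker ζ) {χ : G → ℂ}
    (hχ : IsCharacter G χ) : Dc π σ χ ζ 1 = (vec π σ 1 ζ χ : ℂ) := by
  rw [Dc_eq hs hζ hχ 1 one_ne_zero]
  have h1 : ∀ g : ZMod 2 → ℂ, ∑ k, g k = g 0 + g 1 := fun g => Fin.sum_univ_two g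
  have h2 : (0 : ZMod 2) * 1 = 0 := by decide
  have h3 : (1 : ZMod 2) * 1 = 1 := by decide
  rw [h1, vec_zero hs hζ hχ, h2, h3, e_two_one]
  push_cast
  ring

theorem classInner_eq (hs : Setup π σ F0) {ζ : π.ker → ℂ} (hζ : IsCharacter π.ker ζ) {χ : G → ℂ}
    (hχ : IsCharacter G χ) :
    classInner (fun y : π.ker => χ (t * inc π y)) ζ = (vec π σ 1 ζ χ : ℂ) := by
  rw [← Dc_one hs hζ hχ, Dc, sec_one hs]

/-- The entries are `0`, `1`, `-1`. -/
theorem tri [Fintype (IrrCharacter G)] (hs : Setup π σ F0) {ζ : π.ker → ℂ}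
    (hζ : IsIrrCharacter π.ker ζ) : Tri (fun χ : IrrCharacter G => vec π σ 1 ζ χ) := by
  by_cases hτ : ζ = fun y => ζ (tau π σ y)
  · have h := tri_half hs hζ (fun y => (congrFun hτ y).symm)
    simp only [half_two] at h
    exact h
  · refine tri_of_le_three ?_
    have h1 := gram_nonfix (k := 1) (l := 1) hs one_ne_zero one_ne_zero hζ hτ
    rw [if_pos rfl] at h1
    rw [sum_sq, h1]
    norm_num

theorem odd_of_ne_zero [Fintype (IrrCharacter G)] (hs : Setup π σ F0) {ζ : π.ker → ℂ}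
    (hζ : IsIrrCharacter π.ker ζ) {χ : IrrCharacter G} (h : vec π σ 1 ζ χ ≠ 0) :
    Odd (vec π σ 1 ζ χ) := by
  rcases tri hs hζ χ with h1 | h1 | h1
  · exact absurd h1 h
  · simp only at h1
    rw [h1]; decide
  · simp only at h1
    rw [h1]; decide

/-- **(a)** The coefficients at the characters not fixed by `tau` vanish. -/
theorem vec_eq_zero_of_nonfix [Fintype (IrrCharacter G)] (hs : Setup π σ F0)
    (hfus : ∀ x ∈ F0, ∀ y : π.ker, IsConj (inc π x) (inc π y) → y ∈ F0) {Λ ζ : π.ker → ℂ}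
    (hΛ : IsIrrCharacter π.ker Λ) (hΛτ : ∀ y, Λ (tau π σ y) = Λ y) (hΛ1 : Λ 1 = 1)
    (hζ : IsIrrCharacter π.ker ζ) (hζτ : ¬ ∀ y, ζ (tau π σ y) = ζ y) (χ : IrrCharacter G)
    (hχ : vec π σ 1 Λ χ ≠ 0) : vec π σ 1 ζ χ = 0 := by
  classical
  by_contra hne
  have := hs.normal
  have hcomm : ∀ x : Subgroup.zpowers t, ∀ y, Commute ((x : G)) (inc π y) := by
    rintro ⟨x, k, rfl⟩ y
    exact (commute_t y).zpow_left k
  have hcommt : ∀ x : Subgroup.zpowers t, Commute ((x : G)) t := by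
    rintro ⟨x, k, rfl⟩
    exact (Commute.refl t).zpow_left k
  have hP : IsPGroup 2 (Subgroup.zpowers t) :=
    IsPGroup.of_card (n := 1) (by rw [Nat.card_zpowers, hs.hyp.orderOf_t, pow_one])
  have key := sep (P := Subgroup.zpowers t) χ.2 hs.hyp.odd_ker (inc π) (inc_injective π) t
    (fun y => commute_t y) hP (Subgroup.zpowers t).subtype hcommt 1
    (fun x y => by
      show (x : G) * inc π y * (x : G)⁻¹ = inc π y
      rw [(hcomm x y).eq, mul_inv_cancel_right])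
    (fun g hg hgt => by
      obtain ⟨y, hy⟩ := eq_inc_of_commute hs hg (hgt ⟨t, Subgroup.mem_zpowers t⟩).eq.symm
      exact ⟨y, hy⟩)
    hζ hΛ (fun _ _ => rfl) (fun _ _ => rfl) (odd_of_ne_zero hs hζ hne) (odd_of_ne_zero hs hΛ hχ)
    (classInner_eq hs (Core.isIrr_isCharacter hζ) (Core.isIrr_isCharacter χ.2))
    (classInner_eq hs (Core.isIrr_isCharacter hΛ) (Core.isIrr_isCharacter χ.2))
    (fun y => if y ∈ F0 then 1 else 0)
    (fun y => by
      show IsIntegral ℤ (if y ∈ F0 then (1 : ℂ) else 0)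
      split_ifs
      · exact isIntegral_one
      · exact isIntegral_zero)
    (fun y y' _ _ hc => by
      show (if y ∈ F0 then (1 : ℂ) else 0) = if y' ∈ F0 then 1 else 0
      by_cases hy : y ∈ F0
      · rw [if_pos hy, if_pos (hfus y hy y' hc)]
      · rw [if_neg hy, if_neg (fun hy' => hy (hfus y' hy' y hc.symm))])
  have hfil : (Finset.univ.filter fun y : π.ker =>
      ∀ x : Subgroup.zpowers t, (1 : Subgroup.zpowers t →* MulAut π.ker) x y = y) =
      Finset.univ := by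
    ext y
    simp
  rw [hfil] at key
  have h1 : ∑ y : π.ker, ζ y * (if y ∈ F0 then (1 : ℂ) else 0) = 0 := by
    by_contra h2
    apply hζτ
    apply tau_inv_of hs
    intro f hf y
    refine apply_mul_of_sum_ne_zero hζ F0 ?_ hf y
    convert h2 using 2
    simp
  have h2 : ∑ y : π.ker, Λ y * (if y ∈ F0 then (1 : ℂ) else 0) = (Nat.card F0 : ℂ) := by
    have h3 : ∀ y : π.ker, Λ y * (if y ∈ F0 then (1 : ℂ) else 0) = if y ∈ F0 then 1 else 0 := by
      intro y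
      by_cases hy : y ∈ F0
      · rw [if_pos hy, mul_one]
        have h4 := trivial_of_fix hs hΛ hΛτ hy 1
        rw [mul_one] at h4
        rw [h4, hΛ1]
      · rw [if_neg hy, mul_zero]
    rw [Finset.sum_congr rfl (fun y _ => h3 y), Finset.sum_boole, Nat.card_eq_fintype_card,
      Fintype.card_subtype]
  rw [h1, h2, mul_zero, zero_sub] at key
  obtain ⟨m, hm, hm1⟩ := odd_degree hζ hs.hyp.odd_ker
  have h3 := E2_neg key
  rw [neg_neg, hm1] at h3
  have hF0 : Odd (Nat.card F0) :=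
    Odd.of_dvd_nat hs.hyp.odd_ker (Subgroup.card_subgroup_dvd_card F0)
  apply not_E2 (N := m * (Nat.card F0 : ℤ)) (hm.mul (by exact_mod_cast hF0))
  push_cast
  exact h3

open scoped Classical in
/-- The orbit of `ζ` under `N(S)`. -/
noncomputable def orb [Fintype (IrrCharacter π.ker)] (hs : Setup π σ F0) (ζ : π.ker → ℂ) :
    Finset (IrrCharacter π.ker) :=
  Finset.univ.filter fun ξ => ∃ (m : G) (hm : m ∈ Nm σ),
    (ξ : π.ker → ℂ) = fun y => ζ (phi hs hm y)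

theorem mem_orb [Fintype (IrrCharacter π.ker)] (hs : Setup π σ F0) {ζ : π.ker → ℂ}
    {ξ : IrrCharacter π.ker} : ξ ∈ orb hs ζ ↔ ∃ (m : G) (hm : m ∈ Nm σ),
      (ξ : π.ker → ℂ) = fun y => ζ (phi hs hm y) := by
  simp [orb]

theorem phi_phi_inv (hs : Setup π σ F0) {m : G} (hm : m ∈ Nm σ) (y : π.ker) :
    phi hs hm (phi hs (inv_mem hm) y) = kap hs y := by
  apply inc_injective π
  rw [inc_phi, kap_eq hs (tau_phi hs (inv_mem hm) y), inc_phi]
  group

theorem phi_inv_phi (hs : Setup π σ F0) {m : G} (hm : m ∈ Nm σ) (y : π.ker) :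
    phi hs (inv_mem hm) (phi hs hm y) = kap hs y := by
  apply inc_injective π
  rw [inc_phi, kap_eq hs (tau_phi hs hm y), inc_phi]
  group

theorem orb_trivial [Fintype (IrrCharacter π.ker)] (hs : Setup π σ F0) {ζ : π.ker → ℂ}
    {ξ : IrrCharacter π.ker} (h : ξ ∈ orb hs ζ) :
    ∀ f ∈ F0, ∀ y, (ξ : π.ker → ℂ) (f * y) = (ξ : π.ker → ℂ) y := by
  obtain ⟨m, hm, h1⟩ := (mem_orb hs).1 h
  intro f hf y
  rw [h1]
  exact comp_phi_mul hs hm ζ f hf y

theorem self_mem_orb [Fintype (IrrCharacter π.ker)] (hs : Setup π σ F0) {ζ : π.ker → ℂ}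
    (hζ : IsIrrCharacter π.ker ζ) (hζF : ∀ f ∈ F0, ∀ y, ζ (f * y) = ζ y) :
    (⟨ζ, hζ⟩ : IrrCharacter π.ker) ∈ orb hs ζ := by
  rw [mem_orb]
  refine ⟨1, one_mem _, ?_⟩
  funext y
  exact (apply_phi_of_commute hs (one_mem _) (by group)
    (Core.isIrr_isClassFunction hζ) hζF y).symm

/-- Invariance of the sum over the orbit. -/
theorem sum_orb [Fintype (IrrCharacter π.ker)] (hs : Setup π σ F0) {ζ : π.ker → ℂ} {m : G}
    (hm : m ∈ Nm σ) (y : π.ker) :
    ∑ ξ ∈ orb hs ζ, conj ((ξ : π.ker → ℂ) (phi hs hm y)) =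
      ∑ ξ ∈ orb hs ζ, conj ((ξ : π.ker → ℂ) y) := by
  refine Finset.sum_bij (fun ξ hξ => (⟨fun y => (ξ : π.ker → ℂ) (phi hs hm y),
    isIrr_comp_phi hs hm ξ.2 (orb_trivial hs hξ)⟩ : IrrCharacter π.ker)) ?_ ?_ ?_ ?_
  · intro ξ hξ
    obtain ⟨m', hm', h1⟩ := (mem_orb hs).1 hξ
    rw [mem_orb]
    refine ⟨m' * m, mul_mem hm' hm, ?_⟩
    funext y
    show (ξ : π.ker → ℂ) (phi hs hm y) = _
    rw [h1]
    show ζ (phi hs hm' (phi hs hm y)) = _
    rw [phi_phi]
  · intro ξ hξ ξ' hξ' h1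
    have h2 := congrArg Subtype.val h1
    apply Subtype.ext
    funext y
    have h3 := congrFun h2 (phi hs (inv_mem hm) y)
    simp only [phi_phi_inv hs hm] at h3
    rw [apply_kap hs (orb_trivial hs hξ), apply_kap hs (orb_trivial hs hξ')] at h3
    exact h3
  · intro ξ hξ
    obtain ⟨m', hm', h1⟩ := (mem_orb hs).1 hξ
    refine ⟨⟨fun y => (ξ : π.ker → ℂ) (phi hs (inv_mem hm) y),
      isIrr_comp_phi hs (inv_mem hm) ξ.2 (orb_trivial hs hξ)⟩, ?_, ?_⟩
    · rw [mem_orb]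
      refine ⟨m' * m⁻¹, mul_mem hm' (inv_mem hm), ?_⟩
      funext y
      show (ξ : π.ker → ℂ) (phi hs (inv_mem hm) y) = _
      rw [h1]
      show ζ (phi hs hm' (phi hs (inv_mem hm) y)) = _
      rw [phi_phi]
    · apply Subtype.ext
      funext y
      show (ξ : π.ker → ℂ) (phi hs (inv_mem hm) (phi hs hm y)) = (ξ : π.ker → ℂ) y
      rw [phi_inv_phi hs hm, apply_kap hs (orb_trivial hs hξ)]
  · intro ξ _
    rfl

/-- Inner products with the sum over an orbit. -/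
theorem sum_Fix_orb [Fintype (IrrCharacter π.ker)] (hs : Setup π σ F0) {ζ θ : π.ker → ℂ}
    (hθ : IsIrrCharacter π.ker θ) (hθF : ∀ f ∈ F0, ∀ y, θ (f * y) = θ y)
    [Decidable ((⟨θ, hθ⟩ : IrrCharacter π.ker) ∈ orb hs ζ)] :
    (Nat.card F0 : ℂ) * ∑ y ∈ Fix π σ, θ y * (∑ ξ ∈ orb hs ζ, conj ((ξ : π.ker → ℂ) y)) =
      if (⟨θ, hθ⟩ : IrrCharacter π.ker) ∈ orb hs ζ then (Nat.card π.ker : ℂ) else 0 := by
  classical
  have h1 : (Nat.card F0 : ℂ) * ∑ y ∈ Fix π σ, θ y *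
      (∑ ξ ∈ orb hs ζ, conj ((ξ : π.ker → ℂ) y)) =
      ∑ ξ ∈ orb hs ζ, (Nat.card π.ker : ℂ) * classInner θ (ξ : π.ker → ℂ) := by
    simp_rw [Finset.mul_sum]
    rw [Finset.sum_comm]
    refine Finset.sum_congr rfl fun ξ hξ => ?_
    rw [← sum_Fix hs hθF (orb_trivial hs hξ), Finset.mul_sum]
  rw [h1]
  have h2 : ∀ ξ : IrrCharacter π.ker, classInner θ (ξ : π.ker → ℂ) =
      if (⟨θ, hθ⟩ : IrrCharacter π.ker) = ξ then 1 else 0 := by
    intro ξ
    rw [Core.classInner_irr hθ ξ.2]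
    by_cases h : (⟨θ, hθ⟩ : IrrCharacter π.ker) = ξ
    · rw [if_pos h, if_pos (congrArg Subtype.val h)]
    · rw [if_neg h, if_neg (fun h' => h (Subtype.ext h'))]
  simp only [h2, mul_ite, mul_one, mul_zero]
  rw [Finset.sum_ite_eq]
  congr

/-- **(b)** The coefficients at the characters outside the orbit of `Λ` vanish. -/
theorem vec_eq_zero_of_orbit [Fintype (IrrCharacter G)] [Fintype (IrrCharacter π.ker)]
    (hs : Setup π σ F0) {Λ ζ : π.ker → ℂ} (hΛ : IsIrrCharacter π.ker Λ)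
    (hΛτ : ∀ y, Λ (tau π σ y) = Λ y) (hΛ1 : Λ 1 = 1)
    (hζ : IsIrrCharacter π.ker ζ) (hζτ : ∀ y, ζ (tau π σ y) = ζ y)
    (horb : (⟨ζ, hζ⟩ : IrrCharacter π.ker) ∉ orb hs Λ) (χ : IrrCharacter G)
    (hχ : vec π σ 1 Λ χ ≠ 0) : vec π σ 1 ζ χ = 0 := by
  classical
  by_contra hne
  have hΛF : ∀ f ∈ F0, ∀ y, Λ (f * y) = Λ y := fun f hf y => trivial_of_fix hs hΛ hΛτ hf y
  have hζF : ∀ f ∈ F0, ∀ y, ζ (f * y) = ζ y := fun f hf y => trivial_of_fix hs hζ hζτ hf y
  have key := sep (P := DihedralGroup 2) χ.2 hs.hyp.odd_ker (inc π) (inc_injective π) t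
    (fun y => commute_t y) (isPGroup_dihedral hs.hyp) (Defs.sec σ)
    (fun d => (Subgroup.mem_centralizer_singleton_iff.1 (σ d).2))
    (act π σ) (fun d y => (inc_act π σ d y).symm)
    (fun g hg hgt => by
      have h1 := (hgt (r 1)).eq
      rw [sec_one hs] at h1
      obtain ⟨y, hy⟩ := eq_inc_of_commute hs hg h1.symm
      exact ⟨y, hy⟩)
    hζ hΛ (fun d y => act_fix hs hζτ d y) (fun d y => act_fix hs hΛτ d y)
    (odd_of_ne_zero hs hζ hne) (odd_of_ne_zero hs hΛ hχ)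
    (classInner_eq hs (Core.isIrr_isCharacter hζ) (Core.isIrr_isCharacter χ.2))
    (classInner_eq hs (Core.isIrr_isCharacter hΛ) (Core.isIrr_isCharacter χ.2))
    (fun y => ∑ ξ ∈ orb hs ζ, conj ((ξ : π.ker → ℂ) y))
    (fun y => IsIntegral.sum _ fun ξ _ => by
      rw [← Core.isCharacter_apply_inv (Core.isIrr_isCharacter ξ.2)]
      exact GaloisBasic.isIntegral_apply (Core.isIrr_isCharacter ξ.2) y⁻¹)
    (fun y y' hy hy' hc => by
      obtain ⟨P, hP⟩ := exists_sylow_range hs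
      obtain ⟨m, hm, hm'⟩ := exists_normalizer hs hP ((fix_iff hs y).1 hy)
        ((fix_iff hs y').1 hy') hc
      have hmN : m ∈ Nm σ := by
        rw [hP] at hm
        exact hm
      have h1 : y' = phi hs hmN y := by
        apply inc_injective π
        rw [inc_phi, kap_eq hs ((fix_iff hs y).1 hy), hm']
      show ∑ ξ ∈ orb hs ζ, conj ((ξ : π.ker → ℂ) y) = ∑ ξ ∈ orb hs ζ, conj ((ξ : π.ker → ℂ) y')
      rw [h1, sum_orb hs hmN y])
  have hfil : (Finset.univ.filter fun y : π.ker => ∀ d, act π σ d y = y) = Fix π σ := by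
    ext y
    rw [Finset.mem_filter, mem_Fix, fix_iff hs]
    simp
  rw [hfil] at key
  have h1 := sum_Fix_orb (ζ := ζ) hs hζ hζF
  rw [if_pos (self_mem_orb hs hζ hζF)] at h1
  have h2 := sum_Fix_orb (ζ := ζ) hs hΛ hΛF
  have hnot : (⟨Λ, hΛ⟩ : IrrCharacter π.ker) ∉ orb hs ζ := by
    intro h3
    apply horb
    obtain ⟨m, hm, h4⟩ := (mem_orb hs).1 h3
    rw [mem_orb]
    refine ⟨m⁻¹, inv_mem hm, ?_⟩
    funext y
    have h5 : Λ = fun y => ζ (phi hs hm y) := h4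
    rw [h5]
    show ζ y = ζ (phi hs hm (phi hs (inv_mem hm) y))
    rw [phi_phi_inv hs hm, apply_kap hs hζF]
  rw [if_neg hnot] at h2
  have h3 := E2_mul_left (Parity.isIntegral_natCast (Nat.card F0)) key
  rw [mul_sub, mul_left_comm, mul_left_comm (Nat.card F0 : ℂ) (ζ 1), h1, h2, hΛ1, one_mul, mul_zero,
    sub_zero] at h3
  apply not_E2 (N := (Nat.card π.ker : ℤ)) (by exact_mod_cast hs.hyp.odd_ker)
  push_cast
  exact h3

/-- **(c)** Invariance of the parity. -/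
theorem vec_comp_phi (hs : Setup π σ F0) {Λ : π.ker → ℂ} (hΛ : IsIrrCharacter π.ker Λ)
    (hΛτ : ∀ y, Λ (tau π σ y) = Λ y) {m : G} (hm : m ∈ Nm σ) (χ : IrrCharacter G) :
    Even (vec π σ 1 (fun y => Λ (phi hs hm y)) χ - vec π σ 1 Λ χ) := by
  classical
  have hΛF : ∀ f ∈ F0, ∀ y, Λ (f * y) = Λ y := fun f hf y => trivial_of_fix hs hΛ hΛτ hf y
  have hirr := isIrr_comp_phi hs hm hΛ hΛF
  have hτ := tau_inv_of (ζ := fun y => Λ (phi hs hm y)) hs (comp_phi_mul hs hm Λ)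
  have htt : t * t = 1 := t_mul_t hs.hyp
  have key : ∀ {ζ : π.ker → ℂ}, IsIrrCharacter π.ker ζ → (∀ y, ζ (tau π σ y) = ζ y) →
      E2 ((Nat.card π.ker : ℂ) * (vec π σ 1 ζ χ : ℂ) -
        ∑ y ∈ Fix π σ, (χ : G → ℂ) (inc π y) * conj (ζ y)) := by
    intro ζ hζ hζτ
    have h1 := par_fix (P := DihedralGroup 2) (Core.isIrr_isCharacter χ.2) (inc π) t htt
      (fun y => commute_t y) (isPGroup_dihedral hs.hyp) (Defs.sec σ)
      (fun d => (Subgroup.mem_centralizer_singleton_iff.1 (σ d).2))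
      (act π σ) (fun d y => (inc_act π σ d y).symm) (Core.isIrr_isCharacter hζ)
      (fun d y => act_fix hs hζτ d y)
    rw [classInner_eq hs (Core.isIrr_isCharacter hζ) (Core.isIrr_isCharacter χ.2)] at h1
    have hfil : (Finset.univ.filter fun y : π.ker => ∀ d, act π σ d y = y) = Fix π σ := by
      ext y
      rw [Finset.mem_filter, mem_Fix, fix_iff hs]
      simp
    rw [hfil] at h1
    exact h1
  have h1 := key hirr hτ
  have h2 := key hΛ hΛτ
  have h3 : ∑ y ∈ Fix π σ, (χ : G → ℂ) (inc π y) * conj (Λ (phi hs hm y)) =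
      ∑ y ∈ Fix π σ, (χ : G → ℂ) (inc π y) * conj (Λ y) := by
    rw [← sum_phi hs hm (fun y => (χ : G → ℂ) (inc π y) * conj (Λ y))]
    refine Finset.sum_congr rfl fun y hy => ?_
    congr 1
    rw [inc_phi, kap_eq hs (mem_Fix.1 hy), Core.isIrr_isClassFunction χ.2]
  rw [h3] at h1
  have h4 := E2_sub h1 h2
  have h5 : (Nat.card π.ker : ℂ) * (vec π σ 1 (fun y => Λ (phi hs hm y)) χ : ℂ) -
        ∑ y ∈ Fix π σ, (χ : G → ℂ) (inc π y) * conj (Λ y) -
        ((Nat.card π.ker : ℂ) * (vec π σ 1 Λ χ : ℂ) -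
        ∑ y ∈ Fix π σ, (χ : G → ℂ) (inc π y) * conj (Λ y)) =
      (((Nat.card π.ker : ℤ) * (vec π σ 1 (fun y => Λ (phi hs hm y)) χ - vec π σ 1 Λ χ) : ℤ) :
        ℂ) := by
    push_cast
    ring
  rw [h5] at h4
  have h6 := even_of_E2 h4
  rw [Int.even_mul] at h6
  refine h6.resolve_left ?_
  rw [Int.not_even_iff_odd]
  exact_mod_cast hs.hyp.odd_ker

end Fin

end Cfsg.Agent.Classification.TypeZIV.FourParity
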