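import Mathlib
import Cfsg.Agent.Classification.BGFour
import Cfsg.Agent.Classification.BGMainFour
import Cfsg.Agent.Classification.GWSolvable.Rot
import Cfsg.Agent.Classification.TypeZIV.FourArith
import Cfsg.Agent.Classification.TypeZIV.FourParity
import Cfsg.Agent.Classification.TypeZIV.Pair

/-!
# (L1*), `|S| = 4`

`G` simple with Sylow 2-subgroups of order four, `K = O(C(t)) = F0 C_K(S)`. If `F0 ≠ 1` then
`C_K(S) = 1`.
-/

set_option autoImplicit false
set_option linter.unusedSectionVars false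

namespace Cfsg.Agent.Classification.TypeZIV.Four

open DihedralGroup Cfsg Cfsg.Agent.Characters Cfsg.Agent.Classification.BGDefs
  Cfsg.Agent.Classification.BGBasic Cfsg.Agent.Classification.BGOrder
  Cfsg.Agent.Classification.TypeZIV.Defs
  Cfsg.Agent.Classification.TypeZIV.Twist Cfsg.Agent.Classification.TypeZIV.Fusion
  Cfsg.Agent.Classification.TypeZIV.Lin Cfsg.Agent.Classification.TypeZIV.FourPhi
  Cfsg.Agent.Classification.TypeZIV.Vec Cfsg.Agent.Classification.TypeZIV.Vectors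
  Cfsg.Agent.Classification.TypeZIV.Value Cfsg.Agent.Classification.TypeZIV.FourParity
open scoped ComplexConjugate

/-- A linear character of a nonabelian simple group is trivial. -/
theorem eq_one_of_apply_one {G : Type*} [Group G] [Finite G] [IsSimpleGroup G]
    (hna : ¬ IsMulCommutative G) {χ : G → ℂ} (hχ : IsIrrCharacter G χ) (h1 : χ 1 = 1) :
    χ = 1 := by
  obtain ⟨f, rfl⟩ := Linear.exists_hom_of_isIrrCharacter hχ h1
  rcases (inferInstance : f.ker.Normal).eq_bot_or_eq_top with h | h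
  · exfalso
    apply hna
    have hinj := (MonoidHom.ker_eq_bot_iff f).1 h
    exact ⟨⟨fun a b => hinj (by rw [map_mul, map_mul, mul_comm])⟩⟩
  · funext g
    have h2 : g ∈ f.ker := by rw [h]; exact Subgroup.mem_top g
    rw [MonoidHom.mem_ker] at h2
    simp [h2]

variable {G : Type*} [Group G] {t : G}
  {π : (Subgroup.centralizer ({t} : Set G)) →* DihedralGroup 2}
  {σ : DihedralGroup 2 →* (Subgroup.centralizer ({t} : Set G))} {F0 : Subgroup π.ker}

/-- The elements of the range of the section. -/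
theorem mem_range_cases (hs : Setup π σ F0) {g : G} (hg : g ∈ (Defs.sec σ).range) :
    g = 1 ∨ g = t ∨ g = Defs.sec σ (sr 0) ∨ g = t * Defs.sec σ (sr 0) := by
  obtain ⟨d, rfl⟩ := hg
  have key : ∀ d : DihedralGroup 2, d = 1 ∨ d = r 1 ∨ d = sr 0 ∨ d = r 1 * sr 0 := by decide
  rcases key d with h | h | h | h
  · left; rw [h, map_one]
  · right; left; rw [h, sec_one hs]
  · right; right; left; rw [h]
  · right; right; right; rw [h, map_mul, sec_one hs]

theorem sec_sr_mul_self : Defs.sec σ (sr 0) * Defs.sec σ (sr 0) = 1 := by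
  rw [← map_mul, sr_mul_self, map_one]

theorem t_mul_sec : t * Defs.sec σ (sr 0) = Defs.sec σ (sr 0) * t :=
  (Subgroup.mem_centralizer_singleton_iff.1 (σ (sr 0)).2).symm

theorem sec_ne_one (hs : Setup π σ F0) : Defs.sec σ (sr 0) ≠ 1 := by
  intro h
  rw [← map_one (Defs.sec σ)] at h
  have := sec_injective hs h
  rw [DihedralGroup.one_def] at this
  cases this

theorem sec_ne_t (hs : Setup π σ F0) : t ≠ Defs.sec σ (sr 0) := by
  intro h
  have := sec_injective hs ((sec_one hs).trans h)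
  cases this

/-- `N(S)` permutes the involutions of `S` transitively. -/
theorem exists_rot [Finite G] (hs : Setup π σ F0) :
    ∃ k ∈ Nm σ, k * t * k⁻¹ = Defs.sec σ (sr 0) ∧
      k * Defs.sec σ (sr 0) * k⁻¹ = t * Defs.sec σ (sr 0) := by
  have : Fact (Nat.Prime 2) := ⟨Nat.prime_two⟩
  obtain ⟨P, hP⟩ := exists_sylow_range hs
  have e : (P : Subgroup G) ≃* DihedralGroup 2 :=
    (MulEquiv.subgroupCongr hP).trans (MonoidHom.ofInjective (sec_injective hs)).symm
  have hsub := DihedralCentral.subDihedral_of_sylow P 2 e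
  have htt : t * t = 1 := t_mul_t hs.hyp
  have ht1 : t ≠ 1 := t_ne_one hs.hyp
  set u := Defs.sec σ (sr 0) with hu
  have huu : u * u = 1 := sec_sr_mul_self
  obtain ⟨k, hk1, hk2⟩ := GWSolvable.Rot.exists_rot hsub
    (fun x y hx hy => (hs.hyp.one_class x hx.orderOf_eq).symm.trans
      (hs.hyp.one_class y hy.orderOf_eq)) (t := t) (u := u) ⟨htt, ht1⟩ ⟨huu, sec_ne_one hs⟩
    (t_mul_sec) (sec_ne_t hs)
  refine ⟨k, ?_, hk1, hk2⟩
  have hmem : ∀ g ∈ (Defs.sec σ).range, k * g * k⁻¹ ∈ (Defs.sec σ).range := by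
    intro g hg
    have htR : t ∈ (Defs.sec σ).range := ⟨r 1, sec_one hs⟩
    have huR : u ∈ (Defs.sec σ).range := ⟨sr 0, rfl⟩
    rcases mem_range_cases hs hg with h | h | h | h
    · rw [h, mul_one, mul_inv_cancel]; exact one_mem _
    · rw [h, hk1]; exact huR
    · rw [h, hk2]; exact mul_mem htR huR
    · have h1 : k * (t * u) * k⁻¹ = (k * t * k⁻¹) * (k * u * k⁻¹) := by group
      rw [h, h1, hk1, hk2]
      exact mul_mem huR (mul_mem htR huR)
  have hfin : Finite (Defs.sec σ).range := inferInstance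
  show k ∈ Subgroup.normalizer ((Defs.sec σ).range : Set G)
  rw [Subgroup.mem_normalizer_iff]
  intro g
  refine ⟨hmem g, ?_⟩
  intro hg
  -- the conjugation is injective on the finite range
  have hmap : (Defs.sec σ).range.map (MulAut.conj k).toMonoidHom = (Defs.sec σ).range := by
    apply Subgroup.eq_of_le_of_card_ge
    · rintro _ ⟨x, hx, rfl⟩
      exact hmem x hx
    · rw [Subgroup.card_map_of_injective (MulAut.conj k).injective]
  rw [← hmap] at hg
  obtain ⟨x, hx, hxg⟩ := hg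
  have h2 : k * x * k⁻¹ = k * g * k⁻¹ := hxg
  have h3 : x = g := mul_left_cancel (mul_right_cancel h2)
  rw [← h3]
  exact hx

/-- The pullbacks of `t` under powers of `k`. -/
theorem pull_one {k u : G} (huu : u * u = 1) (htu : t * u = u * t)
    (h1 : k * t * k⁻¹ = u) (h2 : k * u * k⁻¹ = t * u) : k * (t * u) * k⁻¹ = t := by
  have h3 : k * (t * u) * k⁻¹ = (k * t * k⁻¹) * (k * u * k⁻¹) := by group
  rw [h3, h1, h2, htu, ← mul_assoc, huu, one_mul]

/-- The orbit of `Λ`. -/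
theorem orb_cases [Fintype G] [Fintype (Subgroup.centralizer ({t} : Set G))] [Fintype π.ker] [Fintype (IrrCharacter π.ker)] (hs : Setup π σ F0)
    {Λ : π.ker → ℂ} (hc : IsClassFunction π.ker Λ) (hΛF : ∀ f ∈ F0, ∀ y, Λ (f * y) = Λ y) {k : G}
    (hk : k ∈ Nm σ) (h1 : k * t * k⁻¹ = Defs.sec σ (sr 0))
    (h2 : k * Defs.sec σ (sr 0) * k⁻¹ = t * Defs.sec σ (sr 0)) {ξ : IrrCharacter π.ker}
    (hξ : ξ ∈ orb hs Λ) : (ξ : π.ker → ℂ) = Λ ∨ (ξ : π.ker → ℂ) = (fun y => Λ (phi hs hk y)) ∨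
      (ξ : π.ker → ℂ) = fun y => Λ (phi hs (mul_mem hk hk) y) := by
  obtain ⟨m, hm, hξm⟩ := (mem_orb hs).1 hξ
  set u := Defs.sec σ (sr 0) with hu
  have huu : u * u = 1 := sec_sr_mul_self
  have h3 : k * (t * u) * k⁻¹ = t := pull_one huu (t_mul_sec) h1 h2
  have h4 : m⁻¹ * t * m⁻¹⁻¹ ∈ (Defs.sec σ).range :=
    (Subgroup.mem_normalizer_iff.1 (inv_mem hm) t).1 ⟨r 1, sec_one hs⟩
  rw [inv_inv] at h4
  rcases mem_range_cases hs h4 with h | h | h | h
  · exfalso
    apply t_ne_one hs.hyp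
    have : t = m * (m⁻¹ * t * m) * m⁻¹ := by group
    rw [this, h]; group
  · left
    rw [hξm]
    funext y
    have h5 := apply_phi_congr hs hm (one_mem (Nm σ)) (by rw [h]; group) hc hΛF y
    rw [h5]
    exact apply_phi_of_commute hs (one_mem _) (by group) hc hΛF y
  · -- `m⁻¹ t m = u = k⁻² t k²`
    right; right
    rw [hξm]
    funext y
    refine apply_phi_congr hs hm (mul_mem hk hk) ?_ hc hΛF y
    rw [h]
    have h6 : t = k * (k * u * k⁻¹) * k⁻¹ := by rw [h2, h3]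
    calc u = (k * k)⁻¹ * (k * (k * u * k⁻¹) * k⁻¹) * (k * k) := by group
      _ = (k * k)⁻¹ * t * (k * k) := by rw [← h6]
  · right; left
    rw [hξm]
    funext y
    refine apply_phi_congr hs hm hk ?_ hc hΛF y
    rw [h]
    calc t * u = k⁻¹ * (k * (t * u) * k⁻¹) * k := by group
      _ = k⁻¹ * t * k := by rw [h3]

section Fin

variable [Fintype G] [Fintype (Subgroup.centralizer ({t} : Set G))] [Fintype π.ker]
  [Fintype (IrrCharacter G)] [Fintype (IrrCharacter π.ker)]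

/-- The value of `χ` at `t`. -/
theorem apply_t (hs : Setup π σ F0) (χ : IrrCharacter G) :
    (χ : G → ℂ) t = ∑ ζ : IrrCharacter π.ker, (vec π σ 1 (ζ : π.ker → ℂ) χ : ℂ) *
      (ζ : π.ker → ℂ) 1 := by
  have h := exp hs (Core.isIrr_isClassFunction χ.2) 1 1
  rw [map_one, mul_one, sec_one hs] at h
  rw [h]
  exact Finset.sum_congr rfl fun ζ _ => by
    rw [Dc_one hs (Core.isIrr_isCharacter ζ.2) (Core.isIrr_isCharacter χ.2)]

/-- The value of `χ` at `t`, if `vec 1 Λ χ ≠ 0`. -/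
theorem apply_t_orb (hs : Setup π σ F0)
    (hfus : ∀ x ∈ F0, ∀ y : π.ker, IsConj (inc π x) (inc π y) → y ∈ F0) {Λ : π.ker → ℂ}
    (hΛ : IsIrrCharacter π.ker Λ) (hΛτ : ∀ y, Λ (tau π σ y) = Λ y) (hΛ1 : Λ 1 = 1)
    (χ : IrrCharacter G) (hχ : vec π σ 1 Λ χ ≠ 0) :
    (χ : G → ℂ) t = ∑ ζ ∈ orb hs Λ, (vec π σ 1 (ζ : π.ker → ℂ) χ : ℂ) := by
  classical
  rw [apply_t hs χ]
  symm
  have h1 : ∀ ζ ∈ orb hs Λ, (vec π σ 1 (ζ : π.ker → ℂ) χ : ℂ) =
      (vec π σ 1 (ζ : π.ker → ℂ) χ : ℂ) * (ζ : π.ker → ℂ) 1 := by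
    intro ζ hζ
    obtain ⟨m, hm, h2⟩ := (mem_orb hs).1 hζ
    have h3 : (ζ : π.ker → ℂ) 1 = 1 := by rw [h2]; simp only [map_one]; exact hΛ1
    rw [h3, mul_one]
  rw [Finset.sum_congr rfl h1]
  refine Finset.sum_subset (Finset.subset_univ _) ?_
  intro ζ _ hζ
  have h2 : vec π σ 1 (ζ : π.ker → ℂ) χ = 0 := by
    by_cases hτ : ∀ y, (ζ : π.ker → ℂ) (tau π σ y) = (ζ : π.ker → ℂ) y
    · exact vec_eq_zero_of_orbit hs hΛ hΛτ hΛ1 ζ.2 hτ hζ χ hχ
    · exact vec_eq_zero_of_nonfix hs hfus hΛ hΛτ hΛ1 ζ.2 hτ χ hχ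
  rw [h2, Int.cast_zero, zero_mul]

/-- `χ(1) + 3 χ(t) ≡ 0 (mod 4)` -/
theorem four_dvd (hs : Setup π σ F0) (χ : IrrCharacter G) {z : ℤ} (hz : (χ : G → ℂ) t = z) :
    (4 : ℤ) ∣ (deg χ : ℤ) + 3 * z := by
  classical
  have hc : IsCharacter (DihedralGroup 2) ((χ : G → ℂ) ∘ Defs.sec σ) :=
    Core.isCharacter_comp (Defs.sec σ) (Core.isIrr_isCharacter χ.2)
  obtain ⟨m, hm⟩ := Core.classInner_isNat hc Core.isCharacter_one
  have huniv : (Finset.univ : Finset (DihedralGroup 2)) = {1, r 1, sr 0, sr 1} := by decide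
  have hcl : IsClassFunction G (χ : G → ℂ) := Core.isIrr_isClassFunction χ.2
  have hval : ∀ d : DihedralGroup 2, d * d = 1 → d ≠ 1 → (χ : G → ℂ) (Defs.sec σ d) = z := by
    intro d hd hd1
    have h1 : orderOf (Defs.sec σ d) = 2 := by
      apply orderOf_eq_prime
      · rw [sq, ← map_mul, hd, map_one]
      · intro h2
        apply hd1
        apply sec_injective hs
        rw [h2, map_one]
    obtain ⟨c, hc⟩ := isConj_iff.1 (hs.hyp.one_class _ h1)
    rw [← hc, hcl, hz]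
  rw [classInner, huniv] at hm
  rw [Finset.sum_insert (by decide), Finset.sum_insert (by decide), Finset.sum_insert (by decide),
    Finset.sum_singleton] at hm
  simp only [Function.comp_apply, Pi.one_apply, map_one, mul_one] at hm
  rw [hval (r 1) (by decide) (by decide), hval (sr 0) (by decide) (by decide),
    hval (sr 1) (by decide) (by decide), apply_one, DihedralGroup.nat_card] at hm
  refine ⟨m, ?_⟩
  have h4 : ((deg χ : ℤ) + 3 * z : ℂ) = 4 * m := by
    rw [← hm]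
    push_cast
    ring
  exact_mod_cast h4

/-- `vec 1 Λ` vanishes at the trivial character, if `Λ ≠ 1`. -/
theorem vec_one (hs : Setup π σ F0) {Λ : π.ker → ℂ} (hΛ : IsIrrCharacter π.ker Λ) (hne : Λ ≠ 1) :
    vec π σ 1 Λ (1 : G → ℂ) = 0 := by
  have h1 := classInner_eq hs (Core.isIrr_isCharacter hΛ) (Core.isCharacter_one (G := G))
  have h2 : classInner (fun y : π.ker => (1 : G → ℂ) (t * inc π y)) Λ = 0 :=
    Core.classInner_irr_ne Core.isIrr_one hΛ (fun h => hne h.symm)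
  rw [h2] at h1
  exact_mod_cast h1.symm

/-- The pair formula. -/
theorem pair_two (hs : Setup π σ F0) (L : π.ker →* ℂˣ) (hL : ∀ y, L (tau π σ y) = L y) :
    ((Subgroup.centralizer ({t} : Set G)).index : ℂ) *
      ∑ χ : IrrCharacter G, (vec π σ 1 (fun y => (L y : ℂ)) χ : ℂ) *
        ((χ : G → ℂ) t ^ 2 / (deg χ : ℂ)) = 8 * (Nat.card F0 : ℂ) ^ 2 := by
  have h := Pair.pair (k := 1) hs one_ne_zero L hL
  simp only [apply_one] at h
  rw [h]
  push_cast
  ring

/-- The case `Λ` fixed by `N(S)`. -/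
theorem index_of_fixed [IsSimpleGroup G] (hna : ¬ IsMulCommutative G) (hs : Setup π σ F0)
    (L : π.ker →* ℂˣ) (hL1 : L ≠ 1) (hL : ∀ y, L (tau π σ y) = L y)
    (hval : ∀ χ : IrrCharacter G, vec π σ 1 (fun y => (L y : ℂ)) χ ≠ 0 →
      (χ : G → ℂ) t = (vec π σ 1 (fun y => (L y : ℂ)) χ : ℂ)) :
    (Subgroup.centralizer ({t} : Set G)).index = 15 * Nat.card F0 * Nat.card F0 := by
  classical
  set Λ : π.ker → ℂ := fun y => (L y : ℂ) with hΛdef
  have hΛ : IsIrrCharacter π.ker Λ := BGIsometry.isIrr_of_mul _ (by simp [hΛdef])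
    (by intro x y; simp [hΛdef])
  have hΛτ : ∀ y, Λ (tau π σ y) = Λ y := fun y => by
    show ((L (tau π σ y) : ℂˣ) : ℂ) = _
    rw [hL]
  have hΛne : Λ ≠ 1 := by
    intro h
    apply hL1
    ext y
    exact congrFun h y
  obtain ⟨P, hP⟩ := exists_sylow_range hs
  have e : (P : Subgroup G) ≃* DihedralGroup 2 :=
    (MulEquiv.subgroupCongr hP).trans (MonoidHom.ofInjective (sec_injective hs)).symm
  have hPK : IsKleinFour (P : Subgroup G) :=
    BGMainFour.isKleinFour_of_equiv e.symm (by infer_instance)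
  obtain ⟨f₁, f₂, f₃, a1, a2, a3, a4, a5⟩ := BGFour.four_formula hs.hyp P hPK
  rw [Pair.kcount_two hs 0, Pair.kcount_two hs 1] at a5
  have htri := tri hs hΛ
  have hnorm : ∑ χ : IrrCharacter G, vec π σ 1 Λ χ ^ 2 = 4 := by
    have h := half_norm hs hΛ hΛτ
    simp only [half_two] at h
    exact h
  set w : IrrCharacter G → ℤ := fun χ => vec π σ 1 Λ χ with hw
  have hcard : (S w).card = 4 := by
    have h := card_S htri
    rw [hnorm] at h
    exact_mod_cast h
  refine FourArith.eq_fifteen_finset (s := S w) hcard (z := fun χ => w χ * (deg χ : ℤ))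
    a1 a2 a3 a4 a5 ?_ ?_ ?_ ?_
  · intro χ hχ
    have hχ' : w χ ≠ 0 := mem_S.1 hχ
    have h1 := four_dvd hs χ (z := w χ) (hval χ hχ')
    have h2 := htri.sq χ hχ'
    obtain ⟨a, ha⟩ := h1
    refine ⟨w χ * a - 1, ?_⟩
    have h3 : w χ * (deg χ : ℤ) = w χ * ((deg χ : ℤ) + 3 * w χ) - 3 * w χ ^ 2 := by ring
    rw [h3, ha, h2]
    ring
  · intro χ hχ h1
    have hχ' : w χ ≠ 0 := mem_S.1 hχ
    have h2 : deg χ = 1 := by
      rcases htri χ with h | h | h
      · exact absurd h hχ'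
      · rw [h, one_mul] at h1; exact_mod_cast h1
      · rw [h] at h1
        have := deg_pos χ
        omega
    have h3 : (χ : G → ℂ) = 1 := by
      apply eq_one_of_apply_one hna χ.2
      rw [apply_one, h2, Nat.cast_one]
    apply hχ'
    show vec π σ 1 Λ (χ : G → ℂ) = 0
    rw [h3]
    exact vec_one hs hΛ hΛne
  · have h1 := sum_deg hs 1 (Core.isIrr_isCharacter hΛ)
    rw [← h1]
    refine Finset.sum_subset (Finset.subset_univ _) ?_
    intro χ _ hχ
    rw [mem_S, not_not] at hχ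
    rw [hχ, zero_mul]
  · have h1 := pair_two hs L hL
    have h2 : ∑ χ : IrrCharacter G, (vec π σ 1 (fun y => (L y : ℂ)) χ : ℂ) *
        ((χ : G → ℂ) t ^ 2 / (deg χ : ℂ)) =
        ((∑ χ ∈ S w, 1 / ((w χ * (deg χ : ℤ) : ℤ) : ℚ) : ℚ) : ℂ) := by
      push_cast
      symm
      rw [← Finset.sum_subset (Finset.subset_univ (S w))]
      · refine Finset.sum_congr rfl fun χ hχ => ?_
        have hχ' : w χ ≠ 0 := mem_S.1 hχ
        have h3 : ((w χ : ℤ) : ℂ) ^ 2 = 1 := by exact_mod_cast htri.sq χ hχ'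
        have h4 : (χ : G → ℂ) t = (w χ : ℂ) := hval χ hχ'
        have h5 : (deg χ : ℂ) ≠ 0 := by exact_mod_cast (deg_pos χ).ne'
        have h6 : (w χ : ℂ) ≠ 0 := by exact_mod_cast hχ'
        rw [h4, h3]
        show 1 / ((w χ : ℂ) * (deg χ : ℂ)) = (w χ : ℂ) * (1 / (deg χ : ℂ))
        rw [div_eq_iff (mul_ne_zero h6 h5)]
        have h7 : (w χ : ℂ) * (1 / (deg χ : ℂ)) * ((w χ : ℂ) * (deg χ : ℂ)) =
            (w χ : ℂ) ^ 2 * ((deg χ : ℂ) / (deg χ : ℂ)) := by ring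
        rw [h7, h3, div_self h5, one_mul]
      · intro χ _ hχ
        rw [mem_S, not_not] at hχ
        have h3 : vec π σ 1 (fun y => (L y : ℂ)) (χ : G → ℂ) = 0 := hχ
        rw [h3, Int.cast_zero, zero_mul]
    rw [h2] at h1
    have h3 : (((Subgroup.centralizer ({t} : Set G)).index : ℚ) *
        (∑ χ ∈ S w, 1 / ((w χ * (deg χ : ℤ) : ℤ) : ℚ)) : ℚ) = 8 * (Nat.card F0 : ℚ) ^ 2 := by
      exact_mod_cast h1
    rw [h3]
    ring

/-- The case `Λ` not fixed by `N(S)`. -/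
theorem index_of_nonfixed (hs : Setup π σ F0)
    (L : π.ker →* ℂˣ) (hL : ∀ y, L (tau π σ y) = L y) {Λ₁ Λ₂ : π.ker → ℂ}
    (h₁ : IsIrrCharacter π.ker Λ₁) (h₂ : IsIrrCharacter π.ker Λ₂)
    (hτ₁ : ∀ y, Λ₁ (tau π σ y) = Λ₁ y) (hτ₂ : ∀ y, Λ₂ (tau π σ y) = Λ₂ y)
    (n₁ : Λ₁ ≠ fun y => (L y : ℂ)) (n₂ : Λ₂ ≠ fun y => (L y : ℂ)) (n₁₂ : Λ₁ ≠ Λ₂)
    (hp₁ : ∀ χ : IrrCharacter G, Even (vec π σ 1 Λ₁ χ - vec π σ 1 (fun y => (L y : ℂ)) χ))
    (hp₂ : ∀ χ : IrrCharacter G, Even (vec π σ 1 Λ₂ χ - vec π σ 1 (fun y => (L y : ℂ)) χ))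
    (hval : ∀ χ : IrrCharacter G, vec π σ 1 (fun y => (L y : ℂ)) χ ≠ 0 →
      (χ : G → ℂ) t = (vec π σ 1 (fun y => (L y : ℂ)) χ : ℂ) + (vec π σ 1 Λ₁ χ : ℂ) +
        (vec π σ 1 Λ₂ χ : ℂ)) :
    Nat.card F0 ∣ (Subgroup.centralizer ({t} : Set G)).index := by
  classical
  set Λ : π.ker → ℂ := fun y => (L y : ℂ) with hΛdef
  have hΛ : IsIrrCharacter π.ker Λ := BGIsometry.isIrr_of_mul _ (by simp [hΛdef])
    (by intro x y; simp [hΛdef])
  have hΛτ : ∀ y, Λ (tau π σ y) = Λ y := fun y => by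
    show ((L (tau π σ y) : ℂˣ) : ℂ) = _
    rw [hL]
  have hnorm : ∀ {ζ : π.ker → ℂ}, IsIrrCharacter π.ker ζ → (∀ y, ζ (tau π σ y) = ζ y) →
      ∑ χ : IrrCharacter G, vec π σ 1 ζ χ ^ 2 = 4 := by
    intro ζ hζ hζτ
    have h := half_norm hs hζ hζτ
    simp only [half_two] at h
    exact h
  have hzero : ∀ {ζ ξ : π.ker → ℂ}, IsIrrCharacter π.ker ζ → IsIrrCharacter π.ker ξ →
      (∀ χ : IrrCharacter G, Even (vec π σ 1 ζ χ - vec π σ 1 ξ χ)) →
      ∀ χ : IrrCharacter G, vec π σ 1 ζ χ = 0 ↔ vec π σ 1 ξ χ = 0 := by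
    intro ζ ξ hζ hξ hp χ
    have h1 := hp χ
    constructor
    · intro h2
      by_contra h3
      have h4 := odd_of_ne_zero hs hξ h3
      rw [h2, zero_sub, even_neg] at h1
      exact (Int.not_even_iff_odd.2 h4) h1
    · intro h2
      by_contra h3
      have h4 := odd_of_ne_zero hs hζ h3
      rw [h2, sub_zero] at h1
      exact (Int.not_even_iff_odd.2 h4) h1
  obtain ⟨e, D, he, hD, hdD, -, hsum⟩ := FourArith.hadamard
    (w₀ := fun χ : IrrCharacter G => vec π σ 1 Λ χ) (w₁ := fun χ => vec π σ 1 Λ₁ χ)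
    (w₂ := fun χ => vec π σ 1 Λ₂ χ) (d := fun χ => (deg χ : ℤ))
    (fun χ => by exact_mod_cast deg_pos χ) (tri hs hΛ) (tri hs h₁) (tri hs h₂)
    (hzero h₁ hΛ hp₁) (hzero h₂ hΛ hp₂) (by rw [← sum_sq]; exact hnorm hΛ hΛτ)
    (gram_ne (k := 1) (l := 1) hs one_ne_zero one_ne_zero hΛ h₁ hτ₁ n₁.symm)
    (gram_ne (k := 1) (l := 1) hs one_ne_zero one_ne_zero hΛ h₂ hτ₂ n₂.symm)
    (gram_ne (k := 1) (l := 1) hs one_ne_zero one_ne_zero h₁ h₂ hτ₂ n₁₂)
    (sum_deg hs 1 (Core.isIrr_isCharacter hΛ)) (sum_deg hs 1 (Core.isIrr_isCharacter h₁))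
    (sum_deg hs 1 (Core.isIrr_isCharacter h₂))
  have h1 := pair_two hs L hL
  have h2 : ∑ χ : IrrCharacter G, (vec π σ 1 (fun y => (L y : ℂ)) χ : ℂ) *
      ((χ : G → ℂ) t ^ 2 / (deg χ : ℂ)) = ((8 * e / D : ℚ) : ℂ) := by
    rw [← hsum]
    push_cast
    refine Finset.sum_congr rfl fun χ _ => ?_
    by_cases hχ : vec π σ 1 Λ χ = 0
    · have h3 : vec π σ 1 (fun y => (L y : ℂ)) (χ : G → ℂ) = 0 := hχ
      rw [h3, Int.cast_zero, zero_mul, zero_mul, zero_div]
    · rw [hval χ hχ, mul_div_assoc]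
  rw [h2] at h1
  have h3 : ((Subgroup.centralizer ({t} : Set G)).index : ℚ) * (8 * e / D) =
      8 * (Nat.card F0 : ℚ) ^ 2 := by exact_mod_cast h1
  have hD0 : (D : ℚ) ≠ 0 := by exact_mod_cast hD.ne'
  have h4 : ((Subgroup.centralizer ({t} : Set G)).index : ℚ) * e = D * (Nat.card F0 : ℚ) ^ 2 := by
    have h5 : ((Subgroup.centralizer ({t} : Set G)).index : ℚ) * (8 * e / D) * D =
        8 * (((Subgroup.centralizer ({t} : Set G)).index : ℚ) * e) := by
      field_simp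
    rw [h3] at h5
    linarith
  have h5 : ((Subgroup.centralizer ({t} : Set G)).index : ℤ) * e = D * (Nat.card F0 : ℤ) ^ 2 := by
    exact_mod_cast h4
  have h6 : (Nat.card F0 : ℤ) ∣ ((Subgroup.centralizer ({t} : Set G)).index : ℤ) := by
    rcases he with rfl | rfl
    · rw [mul_one] at h5
      rw [h5, sq]
      exact ⟨D * Nat.card F0, by ring⟩
    · have h7 : ((Subgroup.centralizer ({t} : Set G)).index : ℤ) = -(D * (Nat.card F0 : ℤ) ^ 2) := by
        rw [← h5]; ring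
      rw [h7, sq]
      exact ⟨-(D * Nat.card F0), by ring⟩
  exact_mod_cast h6

end Fin

/-- **(L1\*), `|S| = 4`.** -/
theorem four {G : Type*} [Group G] [Finite G] [IsSimpleGroup G] (hna : ¬ IsMulCommutative G) {t : G}
    {π : (Subgroup.centralizer ({t} : Set G)) →* DihedralGroup 2}
    {σ : DihedralGroup 2 →* (Subgroup.centralizer ({t} : Set G))} {F0 : Subgroup π.ker}
    (hs : Setup π σ F0) (hsol : Group.IsSolvable π.ker)
    (hfus : ∀ x ∈ F0, ∀ y : π.ker, IsConj (inc π x) (inc π y) → y ∈ F0)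
    (hcop : Nat.Coprime (Subgroup.centralizer ({t} : Set G)).index (Nat.card F0)) (hF : F0 ≠ ⊥)
    (c : π.ker) (hc : tau π σ c = c) : c = 1 := by
  classical
  by_contra hc1
  let _ : Fintype G := Fintype.ofFinite G
  let _ : Fintype (Subgroup.centralizer ({t} : Set G)) := Fintype.ofFinite _
  let _ : Fintype π.ker := Fintype.ofFinite _
  have : Finite (IrrCharacter G) := Core.finite_irr
  have : Finite (IrrCharacter π.ker) := Core.finite_irr
  let _ : Fintype (IrrCharacter G) := Fintype.ofFinite _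
  let _ : Fintype (IrrCharacter π.ker) := Fintype.ofFinite _
  -- it is enough to show that `|F0|` divides the index
  have hend : ¬ Nat.card F0 ∣ (Subgroup.centralizer ({t} : Set G)).index := by
    intro h
    apply hF
    apply Subgroup.eq_bot_of_card_eq
    exact Nat.Coprime.eq_one_of_dvd hcop.symm h
  obtain ⟨L, hL1, hLF, hLτ⟩ := exists_lin hs hsol hc hc1
  set Λ : π.ker → ℂ := fun y => (L y : ℂ) with hΛdef
  have hΛ : IsIrrCharacter π.ker Λ := BGIsometry.isIrr_of_mul _ (by simp [hΛdef])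
    (by intro x y; simp [hΛdef])
  have hΛ1 : Λ 1 = 1 := by simp [hΛdef]
  have hΛτ : ∀ y, Λ (tau π σ y) = Λ y := fun y => by
    show ((L (tau π σ y) : ℂˣ) : ℂ) = _
    rw [hLτ]
  have hΛF : ∀ f ∈ F0, ∀ y, Λ (f * y) = Λ y := fun f hf y => trivial_of_fix hs hΛ hΛτ hf y
  have hcl := Core.isIrr_isClassFunction hΛ
  obtain ⟨k, hk, hk1, hk2⟩ := exists_rot hs
  have hkt : k * (t * Defs.sec σ (sr 0)) * k⁻¹ = t :=
    pull_one sec_sr_mul_self t_mul_sec hk1 hk2
  set Λ₁ : π.ker → ℂ := fun y => Λ (phi hs hk y) with hΛ₁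
  set Λ₂ : π.ker → ℂ := fun y => Λ (phi hs (mul_mem hk hk) y) with hΛ₂
  have i₁ : IsIrrCharacter π.ker Λ₁ := isIrr_comp_phi hs hk hΛ hΛF
  have i₂ : IsIrrCharacter π.ker Λ₂ := isIrr_comp_phi hs (mul_mem hk hk) hΛ hΛF
  have hcase := fun (ξ : IrrCharacter π.ker) (hξ : ξ ∈ orb hs Λ) =>
    orb_cases hs hcl hΛF hk hk1 hk2 hξ
  -- `Λ₂ = Λ₁ ∘ phi k`
  have h21 : ∀ y, Λ₂ y = Λ₁ (phi hs hk y) := fun y => by
    show Λ (phi hs (mul_mem hk hk) y) = Λ (phi hs hk (phi hs hk y))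
    rw [phi_phi]
  by_cases h : Λ₁ = Λ
  · -- `Λ` is fixed
    have h2 : Λ₂ = Λ := by
      funext y
      rw [h21 y, h]
      exact congrFun h y
    apply hend
    rw [index_of_fixed hna hs L hL1 hLτ ?_]
    · exact Dvd.intro_left _ rfl
    · intro χ hχ
      rw [apply_t_orb hs hfus hΛ hΛτ hΛ1 χ hχ]
      have h3 : orb hs Λ = {⟨Λ, hΛ⟩} := by
        ext ξ
        rw [Finset.mem_singleton]
        constructor
        · intro hξ
          rcases hcase ξ hξ with h4 | h4 | h4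
          · exact Subtype.ext h4
          · exact Subtype.ext (h4.trans h)
          · exact Subtype.ext (h4.trans h2)
        · rintro rfl
          exact self_mem_orb hs hΛ hΛF
      rw [h3, Finset.sum_singleton]
  · -- `Λ` is not fixed
    have n₂ : Λ₂ ≠ Λ := by
      intro h2
      apply h
      funext y
      have h3 : (k * k * k) * t = t * (k * k * k) := by
        have h4 : k * (k * (k * t * k⁻¹) * k⁻¹) * k⁻¹ = t := by rw [hk1, hk2, hkt]
        calc (k * k * k) * t = k * (k * (k * t * k⁻¹) * k⁻¹) * k⁻¹ * (k * k * k) := by group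
          _ = t * (k * k * k) := by rw [h4]
      show Λ (phi hs hk y) = Λ y
      rw [← h2]
      show Λ (phi hs (mul_mem hk hk) (phi hs hk y)) = _
      rw [phi_phi, apply_phi_of_commute hs _ h3 hcl hΛF, h2]
    have n₁₂ : Λ₁ ≠ Λ₂ := by
      intro h2
      apply h
      funext y
      have h3 := h21 (phi hs (inv_mem hk) y)
      rw [← h2, phi_phi_inv hs hk] at h3
      have h4 : Λ₁ (kap hs y) = Λ₁ y := apply_kap hs (comp_phi_mul hs hk Λ) y
      rw [h4] at h3
      rw [← h3]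
      show Λ (phi hs hk (phi hs (inv_mem hk) y)) = Λ y
      rw [phi_phi_inv hs hk, apply_kap hs hΛF]
    apply hend
    refine index_of_nonfixed hs L hLτ i₁ i₂ (tau_inv_of hs (comp_phi_mul hs hk Λ))
      (tau_inv_of hs (comp_phi_mul hs (mul_mem hk hk) Λ)) h n₂ n₁₂
      (vec_comp_phi hs hΛ hΛτ hk) (vec_comp_phi hs hΛ hΛτ (mul_mem hk hk)) ?_
    intro χ hχ
    rw [apply_t_orb hs hfus hΛ hΛτ hΛ1 χ hχ]
    have h3 : orb hs Λ = {⟨Λ, hΛ⟩, ⟨Λ₁, i₁⟩, ⟨Λ₂, i₂⟩} := by
      ext ξ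
      rw [Finset.mem_insert, Finset.mem_insert, Finset.mem_singleton]
      constructor
      · intro hξ
        rcases hcase ξ hξ with h4 | h4 | h4
        · exact Or.inl (Subtype.ext h4)
        · exact Or.inr (Or.inl (Subtype.ext h4))
        · exact Or.inr (Or.inr (Subtype.ext h4))
      · rintro (rfl | rfl | rfl)
        · exact self_mem_orb hs hΛ hΛF
        · exact (mem_orb hs).2 ⟨k, hk, rfl⟩
        · exact (mem_orb hs).2 ⟨k * k, mul_mem hk hk, rfl⟩
    rw [h3, Finset.sum_insert, Finset.sum_insert, Finset.sum_singleton, add_assoc]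
    · rw [Finset.mem_singleton]
      intro h4
      exact n₁₂ (congrArg Subtype.val h4)
    · rw [Finset.mem_insert, Finset.mem_singleton]
      rintro (h4 | h4)
      · exact h (congrArg Subtype.val h4).symm
      · exact n₂ (congrArg Subtype.val h4).symm

end Cfsg.Agent.Classification.TypeZIV.Four
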