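import Mathlib

/-!
# (L1*), `|S| ≥ 8`: arithmetic
-/

set_option autoImplicit false
set_option maxHeartbeats 400000

namespace Cfsg.Agent.Classification.TypeZIV.BigArith

theorem claim_pos {p q : ℤ} (hp : 9 ≤ p) (hq : 9 ≤ q) :
    4 * (p - q) ^ 2 ≤ 3 * (p * q * (p + q)) := by
  have h1 : 4 * (p + q) ≤ 3 * (p * q) := by nlinarith
  have h2 : 4 * (p + q) * (p + q) ≤ 3 * (p * q) * (p + q) :=
    mul_le_mul_of_nonneg_right h1 (by linarith)
  nlinarith [mul_pos (show (0 : ℤ) < p by linarith) (show (0 : ℤ) < q by linarith)]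

theorem claim_mixed {p s : ℤ} (hp : 9 ≤ p) (hs : 6 ≤ s) :
    4 * (p + (p + s)) ^ 2 ≤ 3 * (p * (p + s) * s) := by
  -- `s = 6 + u`, `p = 9 + v`
  obtain ⟨u, rfl⟩ : ∃ u, s = 6 + u := ⟨s - 6, by ring⟩
  obtain ⟨v, rfl⟩ : ∃ v, p = 9 + v := ⟨p - 9, by ring⟩
  have hu : 0 ≤ u := by linarith
  have hv : 0 ≤ v := by linarith
  have h1 := mul_nonneg hu hv
  have h2 := mul_nonneg hu hu
  have h3 := mul_nonneg hv hv
  have h4 := mul_nonneg h1 hu
  have h5 := mul_nonneg h1 hv
  nlinarith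

theorem claim {a b : ℤ} (ha : (8 : ℤ) ∣ a - 1) (hb : (8 : ℤ) ∣ b - 1) (ha1 : a ≠ 1) (hb1 : b ≠ 1)
    (hQ : 0 < a * b * (a + b)) : 4 * (a - b) ^ 2 ≤ 3 * (a * b * (a + b)) := by
  -- mixed case
  have mixed : ∀ p q : ℤ, (8 : ℤ) ∣ p - 1 → (8 : ℤ) ∣ q - 1 → p ≠ 1 → 0 < p → q < 0 →
      0 < p * q * (p + q) → 4 * (p - q) ^ 2 ≤ 3 * (p * q * (p + q)) := by
    intro p q hp hq hp1 h0 h0' h
    have h1 : p * q < 0 := mul_neg_of_pos_of_neg h0 h0'
    have h2 : p + q < 0 := by
      by_contra hcon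
      push Not at hcon
      have := mul_nonpos_of_nonpos_of_nonneg h1.le hcon
      linarith
    have h3 := claim_mixed (p := p) (s := -(p + q)) (by omega) (by omega)
    have h4 : 4 * (p + (p + -(p + q))) ^ 2 = 4 * (p - q) ^ 2 := by ring
    have h5 : 3 * (p * (p + -(p + q)) * -(p + q)) = 3 * (p * q * (p + q)) := by ring
    rw [h4, h5] at h3
    exact h3
  have ha0 : a ≠ 0 := by
    rintro rfl
    norm_num at ha
  have hb0 : b ≠ 0 := by
    rintro rfl
    norm_num at hb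
  rcases lt_or_gt_of_ne ha0 with h1 | h1
  · rcases lt_or_gt_of_ne hb0 with h2 | h2
    · exfalso
      have h3 : 0 < a * b := mul_pos_of_neg_of_neg h1 h2
      have h4 : a * b * (a + b) < 0 := mul_neg_of_pos_of_neg h3 (by linarith)
      linarith
    · have h3 := mixed b a hb ha hb1 h2 h1 (by
        have : b * a * (b + a) = a * b * (a + b) := by ring
        rw [this]; exact hQ)
      have h4 : (b - a) ^ 2 = (a - b) ^ 2 := by ring
      have h5 : b * a * (b + a) = a * b * (a + b) := by ring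
      rw [h4, h5] at h3
      exact h3
  · rcases lt_or_gt_of_ne hb0 with h2 | h2
    · exact mixed a b ha hb ha1 h1 h2 hQ
    · exact claim_pos (by omega) (by omega)

/-- The final contradiction for `|S| ≥ 8`. -/
theorem arith {a b f : ℤ} (ha : (8 : ℤ) ∣ a - 1) (hb : (8 : ℤ) ∣ b - 1) (ha1 : a ≠ 1)
    (hb1 : b ≠ 1) (hf : 17 ≤ f ∨ f ≤ -7)
    (h : (f - 1) ^ 2 * (a * b * (a + b)) = (a - b) ^ 2 * (f * (f + 1))) : False := by
  have h1 : 0 < f * (f + 1) := by
    rcases hf with hf | hf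
    · exact mul_pos (by linarith) (by linarith)
    · exact mul_pos_of_neg_of_neg (by linarith) (by linarith)
  have h2 : 3 * (f * (f + 1)) < 4 * (f - 1) ^ 2 := by
    rcases hf with hf | hf <;> nlinarith
  have h3 : 0 < (f - 1) ^ 2 := by
    have : f - 1 ≠ 0 := by rcases hf with hf | hf <;> omega
    positivity
  rcases le_or_gt (a * b * (a + b)) 0 with hQ | hQ
  · have h4 : (f - 1) ^ 2 * (a * b * (a + b)) ≤ 0 :=
      mul_nonpos_of_nonneg_of_nonpos h3.le hQ
    have h5 : 0 ≤ (a - b) ^ 2 * (f * (f + 1)) := mul_nonneg (sq_nonneg _) h1.le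
    have h6 : (a - b) ^ 2 * (f * (f + 1)) = 0 := by linarith
    have h7 : (a - b) ^ 2 = 0 := by
      rcases mul_eq_zero.1 h6 with h | h
      · exact h
      · linarith
    have h8 : a = b := by
      have := pow_eq_zero_iff (two_ne_zero) |>.1 h7
      linarith
    subst h8
    rw [h6] at h
    have h9 : a * a * (a + a) = 0 := by
      rcases mul_eq_zero.1 h with h | h
      · exact absurd h h3.ne'
      · exact h
    have h10 : a = 0 := by
      have : a * a * (a + a) = 2 * a ^ 3 := by ring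
      rw [this] at h9
      have h11 : a ^ 3 = 0 := by linarith
      exact pow_eq_zero_iff (by norm_num) |>.1 h11
    rw [h10] at ha
    norm_num at ha
  · have h4 := claim ha hb ha1 hb1 hQ
    have h5 : 3 * (f * (f + 1)) * (a * b * (a + b)) < 4 * (f - 1) ^ 2 * (a * b * (a + b)) :=
      mul_lt_mul_of_pos_right h2 hQ
    have h6 : 4 * (a - b) ^ 2 * (f * (f + 1)) ≤ 3 * (a * b * (a + b)) * (f * (f + 1)) :=
      mul_le_mul_of_nonneg_right h4 h1.le
    nlinarith

end Cfsg.Agent.Classification.TypeZIV.BigArith
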