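import Mathlib
import Cfsg.Agent.Classification.TypeZIV.Lin
import Cfsg.Agent.Classification.TypeZIV.Value
import Cfsg.Agent.Classification.BGAverage

/-!
# (L1*), `|S| ≥ 8`: the parity separation
-/

set_option autoImplicit false
set_option linter.unusedSectionVars false
set_option maxHeartbeats 400000

namespace Cfsg.Agent.Classification.TypeZIV.ParBig

open DihedralGroup Cfsg Cfsg.Agent.Characters Cfsg.Agent.Classification.BGDefs
  Cfsg.Agent.Classification.BGBasic Cfsg.Agent.Classification.TypeZIV.Defs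
  Cfsg.Agent.Classification.TypeZIV.Twist Cfsg.Agent.Classification.TypeZIV.Vec
  Cfsg.Agent.Classification.TypeZIV.Vectors Cfsg.Agent.Classification.TypeZIV.Fusion
  Cfsg.Agent.Classification.TypeZIV.Parity Cfsg.Agent.Classification.TypeZIV.Lin
  Cfsg.Agent.Classification.TypeZIV.Value
open scoped ComplexConjugate

variable {G : Type*} [Group G] {t : G} {n : ℕ} [NeZero n]
  {π : (Subgroup.centralizer ({t} : Set G)) →* DihedralGroup n}
  {σ : DihedralGroup n →* (Subgroup.centralizer ({t} : Set G))} {F0 : Subgroup π.ker}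
  [Fintype G] [Fintype (Subgroup.centralizer ({t} : Set G))] [Fintype π.ker]

theorem odd_card_Fix (hs : Setup π σ F0) : Odd (Fix π σ).card := by
  have h1 := sum_mul hs (fun _ => 1) (fun _ _ _ => rfl)
  have h2 : Nat.card π.ker = Nat.card F0 * (Fix π σ).card := by
    have h3 : ((Nat.card π.ker : ℕ) : ℂ) = ((Nat.card F0 * (Fix π σ).card : ℕ) : ℂ) := by
      push_cast
      rw [Finset.sum_const, Finset.sum_const, Finset.card_univ, nsmul_eq_mul, nsmul_eq_mul,
        mul_one, mul_one, ← Nat.card_eq_fintype_card] at h1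
      exact h1
    exact_mod_cast h3
  have h3 := hs.hyp.odd_ker
  rw [h2] at h3
  exact Nat.Odd.of_mul_right h3

/-- Sums over the fixed points of products of fixed irreducible characters. -/
theorem sum_Fix (hs : Setup π σ F0) {ζ ξ : π.ker → ℂ} (hζ : IsIrrCharacter π.ker ζ)
    (hξ : IsIrrCharacter π.ker ξ) (hζτ : ∀ y, ζ (tau π σ y) = ζ y)
    (hξτ : ∀ y, ξ (tau π σ y) = ξ y) :
    (Nat.card F0 : ℂ) * ∑ y ∈ Fix π σ, ζ y * conj (ξ y) =
      (Nat.card π.ker : ℂ) * classInner ζ ξ := by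
  rw [← sum_mul hs (fun y => ζ y * conj (ξ y)) (fun f hf y => by
    rw [trivial_of_fix hs hζ hζτ hf, trivial_of_fix hs hξ hξτ hf]), Core.classInner_def,
    ← mul_assoc, mul_inv_cancel₀ Core.card_ne_zero_complex, one_mul]

theorem mem_range_inc (hs : Setup π σ F0) {g : G} (hg : Odd (orderOf g))
    (hc : ∀ d, Commute (Defs.sec σ d) g) : g ∈ (inc π).range := by
  have h1 : g ∈ Subgroup.centralizer ({t} : Set G) := by
    rw [Subgroup.mem_centralizer_singleton_iff]
    have := hc (r ((n / 2 : ℕ) : ZMod n))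
    rw [sec_half hs] at this
    exact this.symm.eq
  have h2 : π ⟨g, h1⟩ = 1 := by
    refine BGAverage.eq_one_of_odd hs.hyp hg ?_
    rw [← map_pow]
    have : (⟨g, h1⟩ : Subgroup.centralizer ({t} : Set G)) ^ orderOf g = 1 :=
      Subtype.ext (pow_orderOf_eq_one g)
    rw [this, map_one]
  exact ⟨⟨⟨g, h1⟩, h2⟩, rfl⟩

/-- **Separation** for `4 ≤ n`. -/
theorem parity (hs : Setup π σ F0) (hn : 4 ≤ n) {ζ ξ : π.ker → ℂ}
    (hζ : IsIrrCharacter π.ker ζ) (hξ : IsIrrCharacter π.ker ξ)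
    (hζτ : ∀ y, ζ (tau π σ y) = ζ y) (hξτ : ∀ y, ξ (tau π σ y) = ξ y) (hne : ζ ≠ ξ)
    {χ : G → ℂ} (hχ : IsIrrCharacter G χ)
    (h1 : Odd (vec π σ ((n / 2 : ℕ) : ZMod n) ζ χ)) :
    (2 : ℤ) ∣ vec π σ ((n / 2 : ℕ) : ZMod n) ξ χ := by
  classical
  by_contra hcon
  have h2 : Odd (vec π σ ((n / 2 : ℕ) : ZMod n) ξ χ) := by
    rw [← Int.not_even_iff_odd, even_iff_two_dvd]
    exact hcon
  have hχc := Core.isIrr_isCharacter hχ
  obtain ⟨Dζ, hDζ, hDζ2⟩ := Dc_half hs (Core.isIrr_isCharacter hζ) hζτ hχc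
  obtain ⟨Dξ, hDξ, hDξ2⟩ := Dc_half hs (Core.isIrr_isCharacter hξ) hξτ hχc
  have oζ : Odd Dζ := by
    obtain ⟨a, ha⟩ := hDζ2
    obtain ⟨b, hb⟩ := h1
    exact ⟨a + b, by linarith⟩
  have oξ : Odd Dξ := by
    obtain ⟨a, ha⟩ := hDξ2
    obtain ⟨b, hb⟩ := h2
    exact ⟨a + b, by linarith⟩
  have hξc := Core.isIrr_isCharacter hξ
  have h3 := sep hχ hs.hyp.odd_ker (inc π) (inc_injective π) t (commute_t (π := π))
    (isPGroup_dihedral hs.hyp) (Defs.sec σ) (fun d => by
      have := (σ d).2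
      rw [Subgroup.mem_centralizer_singleton_iff] at this
      exact this) (act π σ) (fun d y => (inc_act π σ d y).symm)
    (fun g hg hc => mem_range_inc hs hg hc) hζ hξ (fun d y => act_fix hs hζτ d y)
    (fun d y => act_fix hs hξτ d y) oζ oξ
    (by rw [← hDζ, Dc, sec_half hs]) (by rw [← hDξ, Dc, sec_half hs])
    (fun y => conj (ξ y))
    (fun y => by
      have h4 := GaloisBasic.isIntegral_apply hξc y⁻¹
      rwa [Core.isCharacter_apply_inv hξc] at h4)
    (fun y y' hy hy' hc => by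
      have h4 := eq_of_isConj hs hn ((fix_iff hs y).1 hy) ((fix_iff hs y').1 hy') hc
        (Core.isIrr_isClassFunction hξ)
      simp only [h4])
  have hF : Finset.univ.filter (fun y : π.ker => ∀ x, act π σ x y = y) = Fix π σ := by
    ext y
    rw [mem_Fix, Finset.mem_filter, fix_iff hs]
    exact ⟨fun h => h.2, fun h => ⟨Finset.mem_univ _, h⟩⟩
  rw [hF] at h3
  have hc0 : (Nat.card F0 : ℂ) ≠ 0 := Core.card_ne_zero_complex
  have e1 : ∑ y ∈ Fix π σ, ζ y * conj (ξ y) = 0 := by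
    have h4 := sum_Fix hs hζ hξ hζτ hξτ
    rw [Core.classInner_irr_ne hζ hξ hne, mul_zero] at h4
    exact (mul_eq_zero.1 h4).resolve_left hc0
  have e2 : ∑ y ∈ Fix π σ, ξ y * conj (ξ y) = (Fix π σ).card := by
    have h4 := sum_Fix hs hξ hξ hξτ hξτ
    have h5 := sum_mul hs (fun _ => 1) (fun _ _ _ => rfl)
    rw [Core.classInner_irr_self hξ, mul_one] at h4
    rw [Finset.sum_const, Finset.sum_const, Finset.card_univ, nsmul_eq_mul, nsmul_eq_mul,
      mul_one, mul_one, ← Nat.card_eq_fintype_card] at h5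
    apply mul_left_cancel₀ hc0
    rw [h4, h5]
  rw [e1, e2, mul_zero, zero_sub] at h3
  obtain ⟨m, hm, hm1⟩ := odd_degree hζ hs.hyp.odd_ker
  rw [hm1] at h3
  have h4 := E2_neg h3
  rw [neg_neg] at h4
  have h5 : ((m : ℤ) : ℂ) * ((Fix π σ).card : ℂ) = ((m * ((Fix π σ).card : ℤ) : ℤ) : ℂ) := by
    push_cast; ring
  rw [h5] at h4
  refine not_E2 (hm.mul ?_) h4
  exact_mod_cast odd_card_Fix hs

end Cfsg.Agent.Classification.TypeZIV.ParBig
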