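import Mathlib
import Cfsg.Agent.Classification.TypeZIV.Value
import Cfsg.Agent.Classification.TypeZIV.ParBig
import Cfsg.Agent.Classification.TypeZIV.Pair

/-!
# (L1*), `|S| ≥ 8`: the common constituents

* `sum_t`: the value of `Σ vec k ζ χ • χ` at `t`;
* `exists_pair`: for a nontrivial linear character `Λ` of `K` fixed by `tau` there are
  two irreducible characters `a`, `b` of `G` with `vec k Λ a`, `vec k Λ b` nonzero and
  independent of `k ≠ 0`.
-/

set_option autoImplicit false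
set_option linter.unusedSectionVars false
set_option maxHeartbeats 400000

namespace Cfsg.Agent.Classification.TypeZIV.BigVec

open DihedralGroup Cfsg Cfsg.Agent.Characters Cfsg.Agent.Classification.BGDefs
  Cfsg.Agent.Classification.BGBasic Cfsg.Agent.Classification.TypeZIV.Defs
  Cfsg.Agent.Classification.TypeZIV.Twist Cfsg.Agent.Classification.TypeZIV.Vec
  Cfsg.Agent.Classification.TypeZIV.Vectors Cfsg.Agent.Classification.TypeZIV.Fusion
  Cfsg.Agent.Classification.TypeZIV.Value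
open scoped ComplexConjugate

theorem cast_ne_zero {n c : ℕ} [NeZero n] (h0 : 0 < c) (hc : c < n) : (c : ZMod n) ≠ 0 := by
  rw [Ne, ZMod.natCast_eq_zero_iff]
  intro h
  have := Nat.le_of_dvd h0 h
  omega

variable {G : Type*} [Group G] {t : G} {n : ℕ} [NeZero n]
  {π : (Subgroup.centralizer ({t} : Set G)) →* DihedralGroup n}
  {σ : DihedralGroup n →* (Subgroup.centralizer ({t} : Set G))} {F0 : Subgroup π.ker}

theorem cases_n (hs : Setup π σ F0) (hn : 4 ≤ n) : n = 4 ∨ 8 ≤ n := by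
  obtain ⟨m, hm, rfl⟩ := hs.hyp.pow
  rcases Nat.lt_or_ge m 3 with h | h
  · interval_cases m
    · norm_num at hn
    · left; norm_num
  · right
    calc 8 = 2 ^ 3 := by norm_num
      _ ≤ 2 ^ m := Nat.pow_le_pow_right (by norm_num) h

theorem one_add_one (hn : 4 ≤ n) : (1 : ZMod n) + 1 ≠ 0 := by
  have := cast_ne_zero (n := n) (c := 2) (by norm_num) (by omega)
  intro h
  apply this
  push_cast
  linear_combination h

theorem two_add_two (hn : 8 ≤ n) : (2 : ZMod n) + 2 ≠ 0 := by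
  have := cast_ne_zero (n := n) (c := 4) (by norm_num) (by omega)
  intro h
  apply this
  push_cast
  linear_combination h

section Fin

variable [Fintype G] [Fintype (Subgroup.centralizer ({t} : Set G))] [Fintype (IrrCharacter G)]

theorem sum_t (hs : Setup π σ F0) (k : ZMod n) {ζ : π.ker → ℂ} (hζ : IsCharacter π.ker ζ)
    (hτ : ∀ y, ζ (tau π σ y) = ζ y) :
    ∑ χ : IrrCharacter G, (vec π σ k ζ χ : ℂ) * (χ : G → ℂ) t =
      (2 - 2 * e n (k * ((n / 2 : ℕ) : ZMod n))) * ζ 1 := by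
  have h2 := two_dvd hs.hyp
  have h := value hs k hζ (half_ne_zero h2) 1
  rw [sec_half hs, map_one, mul_one, hτ] at h
  rw [h]
  have h3 : -(k * ((n / 2 : ℕ) : ZMod n)) = k * ((n / 2 : ℕ) : ZMod n) := by
    rw [← mul_neg, BGIsometry.neg_half h2]
  rw [h3]
  ring

/-- The terms of the pairing for a coordinate `±1`. -/
theorem term {v : ℤ} (hv : v ^ 2 = 1) (c d : ℂ) :
    (v : ℂ) * (c ^ 2 / d) = (v * c) ^ 2 / (v * d) := by
  have h1 : (v : ℂ) ^ 2 = 1 := by exact_mod_cast hv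
  have h2 : (v : ℂ) ≠ 0 := by
    intro h
    rw [h] at h1
    norm_num at h1
  by_cases hd : d = 0
  · rw [hd]; simp
  · field_simp

theorem arith_two {x y y' z w w' N R : ℂ} (hN : N ≠ 0) (h1 : x + y = 4) (h2 : x + y' = 0)
    (h3 : z + w = 0) (h4 : z + w' = 0) (hw : w ≠ 0) (h5 : N * (R + y ^ 2 / w) =
      N * (R + y' ^ 2 / w')) : y = 2 := by
  have e1 : w' = w := by linear_combination h4 - h3
  have e2 := mul_left_cancel₀ hN h5
  rw [e1] at e2
  have e3 : y ^ 2 / w = y' ^ 2 / w := add_left_cancel e2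
  rw [div_left_inj' hw] at e3
  have e4 : y' = y - 4 := by linear_combination h2 - h1
  rw [e4] at e3
  linear_combination e3 / 8

variable {Λ : π.ker → ℂ}

theorem sum_deg' (hs : Setup π σ F0) (k : ZMod n) {ζ : π.ker → ℂ} (hζ : IsCharacter π.ker ζ) :
    ∑ χ : IrrCharacter G, (vec π σ k ζ χ : ℂ) * (χ : G → ℂ) 1 = 0 := by
  have h := sum_deg hs k hζ
  have h2 : ((∑ χ : IrrCharacter G, vec π σ k ζ χ * (deg χ : ℤ) : ℤ) : ℂ) = 0 := by
    rw [h, Int.cast_zero]
  rw [← h2]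
  push_cast
  exact Finset.sum_congr rfl fun χ _ => by rw [apply_one]

theorem hpar (hs : Setup π σ F0) (hn : 4 ≤ n) {Λ : π.ker → ℂ} (hΛ : IsIrrCharacter π.ker Λ)
    (hΛτ : ∀ y, Λ (tau π σ y) = Λ y) :
    ∀ ζ : π.ker → ℂ, IsIrrCharacter π.ker ζ → (∀ y, ζ (tau π σ y) = ζ y) → ζ ≠ Λ →
      ∀ χ : IrrCharacter G, vec π σ ((n / 2 : ℕ) : ZMod n) Λ χ ≠ 0 →
        (2 : ℤ) ∣ vec π σ ((n / 2 : ℕ) : ZMod n) ζ χ := by
  intro ζ hζ hτ hne χ hχ
  refine ParBig.parity hs hn hΛ hζ hΛτ hτ (Ne.symm hne) χ.2 ?_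
  rcases tri_half hs hΛ hΛτ χ with h | h | h
  · exact absurd h hχ
  · simp only at h
    rw [h]; exact odd_one
  · simp only at h
    rw [h]; exact odd_neg_one

/-- Two characters with coordinates independent of `k ≠ 0`. -/
theorem exists_pair [Fintype (IrrCharacter π.ker)] (hs : Setup π σ F0) (hn : 4 ≤ n)
    (L : π.ker →* ℂˣ) (hL : ∀ y, L (tau π σ y) = L y) :
    ∃ a b w : IrrCharacter G, a ≠ b ∧ a ≠ w ∧ b ≠ w ∧
      vec π σ 1 (fun y => (L y : ℂ)) a ≠ 0 ∧ vec π σ 1 (fun y => (L y : ℂ)) b ≠ 0 ∧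
      vec π σ 1 (fun y => (L y : ℂ)) w ≠ 0 ∧
      (∀ k, k ≠ 0 → vec π σ k (fun y => (L y : ℂ)) a = vec π σ 1 (fun y => (L y : ℂ)) a) ∧
      (∀ k, k ≠ 0 → vec π σ k (fun y => (L y : ℂ)) b = vec π σ 1 (fun y => (L y : ℂ)) b) ∧
      ∀ z, z ≠ a → z ≠ b → z ≠ w → vec π σ 1 (fun y => (L y : ℂ)) z = 0 := by
  classical
  obtain ⟨Λ, hΛ'⟩ : ∃ Λ : π.ker → ℂ, Λ = fun y => (L y : ℂ) := ⟨_, rfl⟩
  rw [← hΛ']
  have hΛ : IsIrrCharacter π.ker Λ := by rw [hΛ']; exact Linear.isIrrCharacter_hom L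
  have hΛτ : ∀ y, Λ (tau π σ y) = Λ y := fun y => by rw [hΛ']; simp only [hL]
  have hΛ1 : Λ 1 = 1 := by rw [hΛ']; simp
  have hΛc := Core.isIrr_isCharacter hΛ
  have h2 := two_dvd hs.hyp
  have h11 := one_add_one hn
  have hT : ∀ k : ZMod n, k + k ≠ 0 → Tri (fun χ : IrrCharacter G => vec π σ k Λ χ) :=
    fun k hk => tri_of_le_three (three_norm hs hk hΛ hΛτ).le
  have hTh := tri_half (G := G) hs hΛ hΛτ
  have h3 := three_norm (G := G) hs h11 hΛ hΛτ
  have hh := inner_half (G := G) hs h11 hΛ hΛτ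
  rcases cases_n hs hn with h4 | h8
  · obtain ⟨a, b, w, hab, haw, hbw, ha, hb, hw, ea, eb, -, hz⟩ := share h3 hTh hh
    refine ⟨a, b, w, hab, haw, hbw, ha, hb, hw, ?_, ?_, hz⟩
    · intro k hk
      by_cases hk2 : k + k = 0
      · rcases eq_zero_or_half hk2 with h | h
        · exact absurd h hk
        · rw [h]; exact ea
      · have h5 : k = 1 ∨ k = -1 := by
          subst h4
          revert k
          decide
        rcases h5 with rfl | rfl
        · rfl
        · exact vec_neg hs 1 hΛτ _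
    · intro k hk
      by_cases hk2 : k + k = 0
      · rcases eq_zero_or_half hk2 with h | h
        · exact absurd h hk
        · rw [h]; exact eb
      · have h5 : k = 1 ∨ k = -1 := by
          subst h4
          revert k
          decide
        rcases h5 with rfl | rfl
        · rfl
        · exact vec_neg hs 1 hΛτ _
  · have h22 := two_add_two h8
    have h10 : (1 : ZMod n) ≠ 0 := BGIsometry.ne_zero_of_add h11
    have h20 : (2 : ZMod n) ≠ 0 := BGIsometry.ne_zero_of_add h22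
    have h12 : (1 : ZMod n) ≠ 2 := by
      intro h
      apply h10
      linear_combination -h
    have h12' : (1 : ZMod n) ≠ -2 := by
      intro h
      have := cast_ne_zero (n := n) (c := 3) (by norm_num) (by omega)
      apply this
      push_cast
      linear_combination h
    have g12 : ∑ χ : IrrCharacter G, vec π σ 1 Λ χ * vec π σ 2 Λ χ = 2 := by
      rw [gram_fix hs h10 h20 hΛ hΛτ, if_neg h12, if_neg h12']
      norm_num
    have h3' := three_norm (G := G) hs h22 hΛ hΛτ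
    have hh' := inner_half (G := G) hs h22 hΛ hΛτ
    obtain ⟨a, b, w, w', hab, haw, hbw, haw', hbw', hww', ha, hb, hw, hw', ea, eb, ew, ew', hz,
      hz'⟩ := share_two h3 h3' g12
    -- the values at `t`
    have hsq : ∀ k : ZMod n, k + k ≠ 0 → ∀ χ : IrrCharacter G, vec π σ k Λ χ ≠ 0 →
        vec π σ k Λ χ ^ 2 = 1 := fun k hk χ hχ => (hT k hk).sq χ hχ
    have t1 := sum_t (G := G) hs 1 hΛc hΛτ
    have t2 := sum_t (G := G) hs 2 hΛc hΛτ
    have d1 := sum_deg' (G := G) hs 1 hΛc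
    have d2 := sum_deg' (G := G) hs 2 hΛc
    have p1 := Pair.pair hs h10 L hL
    have p2 := Pair.pair hs h20 L hL
    rw [← hΛ'] at p1 p2
    rw [one_mul, e_half h2, hΛ1] at t1
    have e2 : (2 : ZMod n) * ((n / 2 : ℕ) : ZMod n) = 0 := by
      rw [two_mul]; exact half_add_half h2
    rw [e2, AddChar.map_zero_eq_one, hΛ1] at t2
    have s1 : ∀ f : IrrCharacter G → ℂ, ∑ χ : IrrCharacter G, (vec π σ 1 Λ χ : ℂ) * f χ =
        (vec π σ 1 Λ a : ℂ) * f a + ((vec π σ 1 Λ b : ℂ) * f b + (vec π σ 1 Λ w : ℂ) * f w) := by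
      intro f
      refine sum_three hab haw hbw fun z h1 h2 h3 => ?_
      rw [hz z h1 h2 h3, Int.cast_zero, zero_mul]
    have s2 : ∀ f : IrrCharacter G → ℂ, ∑ χ : IrrCharacter G, (vec π σ 2 Λ χ : ℂ) * f χ =
        (vec π σ 1 Λ a : ℂ) * f a + ((vec π σ 1 Λ b : ℂ) * f b + (vec π σ 2 Λ w' : ℂ) * f w') := by
      intro f
      rw [← ea, ← eb]
      refine sum_three hab haw' hbw' fun z h1 h2 h3 => ?_
      rw [hz' z h1 h2 h3, Int.cast_zero, zero_mul]
    rw [s1] at t1 d1 p1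
    rw [s2] at t2 d2 p2
    rw [term (hsq 1 h11 w hw)] at p1
    rw [term (hsq 2 h22 w' hw')] at p2
    have hw1 : (w : G → ℂ) 1 ≠ 0 := Core.isIrr_apply_one_ne_zero w.2
    have hvw : (vec π σ 1 Λ w : ℂ) ≠ 0 := by exact_mod_cast hw
    have hidx : ((Subgroup.centralizer ({t} : Set G)).index : ℂ) ≠ 0 := by
      exact_mod_cast Subgroup.index_ne_zero_of_finite
    have hcw : (vec π σ 1 Λ w : ℂ) * (w : G → ℂ) t = 2 := by
      refine arith_two (x := (vec π σ 1 Λ a : ℂ) * (a : G → ℂ) t + (vec π σ 1 Λ b : ℂ) * (b : G → ℂ) t)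
        (y' := (vec π σ 2 Λ w' : ℂ) * (w' : G → ℂ) t)
        (z := (vec π σ 1 Λ a : ℂ) * (a : G → ℂ) 1 + (vec π σ 1 Λ b : ℂ) * (b : G → ℂ) 1)
        (w := (vec π σ 1 Λ w : ℂ) * (w : G → ℂ) 1)
        (w' := (vec π σ 2 Λ w' : ℂ) * (w' : G → ℂ) 1)
        (R := (vec π σ 1 Λ a : ℂ) * ((a : G → ℂ) t ^ 2 / (a : G → ℂ) 1) +
          (vec π σ 1 Λ b : ℂ) * ((b : G → ℂ) t ^ 2 / (b : G → ℂ) 1))
        hidx ?_ ?_ ?_ ?_ (mul_ne_zero hvw hw1) ?_
      · linear_combination t1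
      · linear_combination t2
      · linear_combination d1
      · linear_combination d2
      · linear_combination p1 - p2
    -- `γ w = 0`
    have hγw : vec π σ ((n / 2 : ℕ) : ZMod n) Λ w = 0 := by
      by_contra hγ
      have v1 := value_thm hs hn hΛ hΛτ hΛ1 (hpar hs hn hΛ hΛτ) w h11 hw hγ
        ((n / 2 : ℕ) : ZMod n) (half_ne_zero h2)
      rw [sec_half hs, ← Dc_eq hs hΛc (Core.isIrr_isCharacter w.2) _ (half_ne_zero h2)] at v1
      obtain ⟨z, hz1, hz2⟩ := Dc_half hs hΛc hΛτ (Core.isIrr_isCharacter w.2)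
      rw [hz1] at v1
      rw [v1] at hcw
      have hcw' : vec π σ 1 Λ w * z = 2 := by exact_mod_cast hcw
      have ho : vec π σ ((n / 2 : ℕ) : ZMod n) Λ w = 1 ∨
          vec π σ ((n / 2 : ℕ) : ZMod n) Λ w = -1 := by
        rcases hTh w with h | h | h
        · exact absurd h hγ
        · exact Or.inl h
        · exact Or.inr h
      have hv : vec π σ 1 Λ w = 1 ∨ vec π σ 1 Λ w = -1 := by
        rcases hT 1 h11 w with h | h | h
        · exact absurd h hw
        · exact Or.inl h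
        · exact Or.inr h
      rcases hv with hv | hv <;> rw [hv] at hcw' <;> rcases ho with ho | ho <;> rw [ho] at hz2 <;>
        omega
    have sγ1 : ∑ χ : IrrCharacter G, vec π σ 1 Λ χ * vec π σ ((n / 2 : ℕ) : ZMod n) Λ χ =
        vec π σ 1 Λ a * vec π σ ((n / 2 : ℕ) : ZMod n) Λ a +
          (vec π σ 1 Λ b * vec π σ ((n / 2 : ℕ) : ZMod n) Λ b +
            vec π σ 1 Λ w * vec π σ ((n / 2 : ℕ) : ZMod n) Λ w) := by
      refine sum_three hab haw hbw fun z h1 h2 h3 => ?_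
      rw [hz z h1 h2 h3, zero_mul]
    have sγ2 : ∑ χ : IrrCharacter G, vec π σ 2 Λ χ * vec π σ ((n / 2 : ℕ) : ZMod n) Λ χ =
        vec π σ 2 Λ a * vec π σ ((n / 2 : ℕ) : ZMod n) Λ a +
          (vec π σ 2 Λ b * vec π σ ((n / 2 : ℕ) : ZMod n) Λ b +
            vec π σ 2 Λ w' * vec π σ ((n / 2 : ℕ) : ZMod n) Λ w') := by
      refine sum_three hab haw' hbw' fun z h1 h2 h3 => ?_
      rw [hz' z h1 h2 h3, zero_mul]
    rw [hh, hγw, mul_zero, add_zero] at sγ1
    rw [hh', ea, eb] at sγ2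
    have tri1 : ∀ {x y : ℤ}, (x = 0 ∨ x = 1 ∨ x = -1) → (y = 0 ∨ y = 1 ∨ y = -1) → x ≠ 0 →
        x * y ≤ 1 ∧ (x * y = 1 → y = x) := by
      rintro x y (rfl | rfl | rfl) (rfl | rfl | rfl) hx <;> simp_all
    have ta := tri1 (hT 1 h11 a) (hTh a) ha
    have tb := tri1 (hT 1 h11 b) (hTh b) hb
    simp only at ta tb
    have ga : vec π σ ((n / 2 : ℕ) : ZMod n) Λ a = vec π σ 1 Λ a := ta.2 (by linarith [ta.1, tb.1])
    have gb : vec π σ ((n / 2 : ℕ) : ZMod n) Λ b = vec π σ 1 Λ b := tb.2 (by linarith [ta.1, tb.1])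
    have hγw' : vec π σ ((n / 2 : ℕ) : ZMod n) Λ w' = 0 := by
      have h5 : vec π σ 2 Λ w' * vec π σ ((n / 2 : ℕ) : ZMod n) Λ w' = 0 := by linarith
      rcases mul_eq_zero.1 h5 with h | h
      · exact absurd h hw'
      · exact h
    -- the other `k`
    have main : ∀ k, k ≠ 0 → vec π σ k Λ a = vec π σ 1 Λ a ∧ vec π σ k Λ b = vec π σ 1 Λ b := by
      intro k hk
      by_cases hk2 : k + k = 0
      · rcases eq_zero_or_half hk2 with h | h
        · exact absurd h hk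
        · rw [h]; exact ⟨ga, gb⟩
      by_cases k1 : k = 1
      · rw [k1]; exact ⟨rfl, rfl⟩
      by_cases k1' : k = -1
      · rw [k1', vec_neg hs 1 hΛτ, vec_neg hs 1 hΛτ]; exact ⟨rfl, rfl⟩
      by_cases k2 : k = 2
      · rw [k2]; exact ⟨ea, eb⟩
      by_cases k2' : k = -2
      · rw [k2', vec_neg hs 2 hΛτ, vec_neg hs 2 hΛτ]; exact ⟨ea, eb⟩
      have g1 : ∑ χ : IrrCharacter G, vec π σ 1 Λ χ * vec π σ k Λ χ = 2 := by
        rw [gram_fix hs h10 hk hΛ hΛτ, if_neg (Ne.symm k1), if_neg (fun h => k1' (by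
          rw [h, neg_neg]))]
        norm_num
      have g2 : ∑ χ : IrrCharacter G, vec π σ 2 Λ χ * vec π σ k Λ χ = 2 := by
        rw [gram_fix hs h20 hk hΛ hΛτ, if_neg (Ne.symm k2), if_neg (fun h => k2' (by
          rw [h, neg_neg]))]
        norm_num
      have gk := inner_half (G := G) hs hk2 hΛ hΛτ
      have k3 := three_norm (G := G) hs hk2 hΛ hΛτ
      have hcon : vec π σ k Λ w = 0 ∨ vec π σ k Λ w' = 0 := by
        by_contra hcon
        push Not at hcon
        exact two_zero k3 hTh gk hww' hcon.1 hcon.2 hγw hγw'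
      have q1 : vec π σ 1 Λ a * vec π σ k Λ a + (vec π σ 1 Λ b * vec π σ k Λ b +
          vec π σ 1 Λ w * vec π σ k Λ w) = 2 := by
        rw [← g1]
        symm
        refine sum_three hab haw hbw fun z h1 h2 h3 => ?_
        rw [hz z h1 h2 h3, zero_mul]
      have q2 : vec π σ 1 Λ a * vec π σ k Λ a + (vec π σ 1 Λ b * vec π σ k Λ b +
          vec π σ 2 Λ w' * vec π σ k Λ w') = 2 := by
        rw [← g2, ← ea, ← eb]
        symm
        refine sum_three hab haw' hbw' fun z h1 h2 h3 => ?_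
        rw [hz' z h1 h2 h3, zero_mul]
      have q3 : vec π σ 1 Λ a * vec π σ k Λ a + vec π σ 1 Λ b * vec π σ k Λ b = 2 := by
        rcases hcon with h | h
        · rw [h] at q1; linarith
        · rw [h] at q2; linarith
      have ta := tri1 (hT 1 h11 a) (hT k hk2 a) ha
      have tb := tri1 (hT 1 h11 b) (hT k hk2 b) hb
      simp only at ta tb
      exact ⟨ta.2 (by linarith [ta.1, tb.1]), tb.2 (by linarith [ta.1, tb.1])⟩
    exact ⟨a, b, w, hab, haw, hbw, ha, hb, hw, fun k hk => (main k hk).1,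
      fun k hk => (main k hk).2, hz⟩

end Fin

end Cfsg.Agent.Classification.TypeZIV.BigVec
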