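import Mathlib
import Cfsg.Agent.Classification.TypeZIV.Twist
import Cfsg.Agent.Classification.BGStructure
import Cfsg.Agent.Classification.TypeZ.Numbers

/-!
# (L1*): from subgroups to the section `σ`

* `exists_section`: a section of `π` with range a given Sylow 2-subgroup `S` of `C(t)`;
* `map_top_inc`: the image of `π.ker` in `G` is `O(C(t))`;
* `exists_setup`: `Defs.Setup` from `F₀ ≤ O(C(t))`, inverted by the noncentral involutions of `S`,
  with `O(C(t)) = F₀ C_{O(C(t))}(S)`;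
* `concl`: the conclusion in subgroup language.
-/

set_option autoImplicit false
set_option linter.unusedSectionVars false

namespace Cfsg.Agent.Classification.TypeZIV.Setup

open Subgroup DihedralGroup Cfsg
open Cfsg.Agent.OddOrderLocal Cfsg.Agent.OddOrderLocal.PiCoreOf
open Cfsg.Agent.Classification.TypeB.Basic Cfsg.Agent.Classification.TypeB.Core
open Cfsg.Agent.Classification.TypeZ.Bender Cfsg.Agent.Classification.TypeZ.Numbers
open Cfsg.Agent.Classification.BGDefs Cfsg.Agent.Classification.BGBasic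
open Cfsg.Agent.Classification.TypeZIV.Defs

/-- `x = a b` for `x ∈ A ⊔ B`, `B ≤ N(A)`. -/
theorem exists_mul_of_mem_sup {G : Type*} [Group G] {A B : Subgroup G}
    (hn : B ≤ normalizer (A : Set G)) {x : G} (hx : x ∈ A ⊔ B) : ∃ a ∈ A, ∃ b ∈ B, x = a * b := by
  let C : Subgroup G :=
    { carrier := {x | ∃ a ∈ A, ∃ b ∈ B, x = a * b}
      one_mem' := ⟨1, one_mem _, 1, one_mem _, by simp⟩
      mul_mem' := by
        rintro _ _ ⟨a, ha, b, hb, rfl⟩ ⟨c, hc, d, hd, rfl⟩
        refine ⟨a * (b * c * b⁻¹), A.mul_mem ha ((mem_normalizer_iff.1 (hn hb) c).1 hc), b * d,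
          B.mul_mem hb hd, by group⟩
      inv_mem' := by
        rintro _ ⟨a, ha, b, hb, rfl⟩
        refine ⟨b⁻¹ * a⁻¹ * b, ?_, b⁻¹, B.inv_mem hb, by group⟩
        have h1 := (mem_normalizer_iff.1 (hn (B.inv_mem hb)) a⁻¹).1 (A.inv_mem ha)
        rwa [inv_inv] at h1 }
  have h1 : A ⊔ B ≤ C := sup_le (fun a ha => ⟨a, ha, 1, one_mem _, by simp⟩)
    (fun b hb => ⟨1, one_mem _, b, hb, by simp⟩)
  exact h1 hx

section

variable {G : Type*} [Group G] [Finite G] {t : G} {n : ℕ}
  {π : (centralizer ({t} : Set G)) →* DihedralGroup n}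

/-- A section of `π` with range `S`. -/
theorem exists_section [NeZero n] (h : BGHyp t n π) {S : Subgroup G}
    (hS : S ≤ centralizer ({t} : Set G)) (hS2 : IsPGroup 2 S) (hcard : Nat.card S = 2 * n) :
    ∃ σ : DihedralGroup n →* (centralizer ({t} : Set G)), (∀ d, π (σ d) = d) ∧
      (Defs.sec σ).range = S := by
  set f : S →* DihedralGroup n := π.comp (inclusion hS) with hf
  have hinj : Function.Injective f := by
    rw [injective_iff_map_eq_one]
    intro s hs
    have h1 : Odd (orderOf ((inclusion hS s : centralizer ({t} : Set G)) : G)) :=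
      (map_eq_one_iff h _).1 hs
    have h2 : ((inclusion hS s : centralizer ({t} : Set G)) : G) = (s : G) := rfl
    rw [h2] at h1
    obtain ⟨k, hk⟩ := hS2 s
    have h3 : orderOf (s : G) ∣ 2 ^ k := by
      rw [Subgroup.orderOf_coe]
      exact orderOf_dvd_of_pow_eq_one hk
    apply Subtype.ext
    show (s : G) = 1
    rw [← orderOf_eq_one_iff]
    exact Nat.Coprime.eq_one_of_dvd (Nat.Coprime.pow_right k (Nat.coprime_two_right.2 h1)) h3
  have hbij : Function.Bijective f := (Nat.bijective_iff_injective_and_card f).2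
    ⟨hinj, by rw [hcard, DihedralGroup.nat_card]⟩
  let eq := MulEquiv.ofBijective f hbij
  refine ⟨(inclusion hS).comp eq.symm.toMonoidHom, ?_, ?_⟩
  · intro d
    exact eq.apply_symm_apply d
  · ext x
    constructor
    · rintro ⟨d, rfl⟩
      exact (eq.symm d).2
    · intro hx
      refine ⟨eq ⟨x, hx⟩, ?_⟩
      show ((inclusion hS (eq.symm (eq ⟨x, hx⟩)) : centralizer ({t} : Set G)) : G) = x
      rw [eq.symm_apply_apply]
      rfl

/-- The image of `π.ker` is `O(C(t))`. -/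
theorem map_top_inc [NeZero n] (h : BGHyp t n π) :
    (⊤ : Subgroup π.ker).map (Defs.inc π) = Kc t := by
  have hodd : Odd (Nat.card (π.ker.map (centralizer ({t} : Set G)).subtype)) := by
    rw [card_map_of_injective (subtype_injective _)]
    exact h.odd_ker
  have hle : π.ker.map (centralizer ({t} : Set G)).subtype ≤ Kc t := by
    refine le_oc (map_subtype_le _) ?_ hodd
    intro c hc
    apply mem_normalizer_of_conj
    rintro _ ⟨y, hy, rfl⟩
    exact ⟨⟨c, hc⟩ * y * ⟨c, hc⟩⁻¹, (MonoidHom.normal_ker π).conj_mem y hy _, rfl⟩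
  apply le_antisymm
  · rintro _ ⟨y, -, rfl⟩
    exact hle ⟨y, y.2, rfl⟩
  · intro y hy
    have h1 : Odd (orderOf y) := odd_orderOf_of_mem (odd_Kc t) hy
    exact ⟨⟨⟨y, Kc_le t hy⟩, (map_eq_one_iff h ⟨y, Kc_le t hy⟩).2 h1⟩, mem_top _, rfl⟩

end

/-- From subgroups to `Defs.Setup`. -/
theorem exists_setup {G : Type*} [Group G] [Finite G] (S : Sylow 2 G) (m : ℕ) (hm : 1 ≤ m)
    (eS : Nonempty ((S : Subgroup G) ≃* DihedralGroup (2 ^ m)))
    (hone : ∀ x y : G, orderOf x = 2 → orderOf y = 2 → IsConj x y) (t : G) (ht : orderOf t = 2)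
    (htS : t ∈ (S : Subgroup G)) (hSt : (S : Subgroup G) ≤ centralizer ({t} : Set G))
    (F₀ : Subgroup G) (hF : F₀ ≤ Kc t) (hFn : centralizer ({t} : Set G) ≤ normalizer (F₀ : Set G))
    (hinv : ∀ w ∈ (S : Subgroup G), orderOf w = 2 → w ≠ t → ∀ x ∈ F₀, w * x * w⁻¹ = x⁻¹)
    (hgen : Kc t ≤ F₀ ⊔ (Kc t ⊓ centralizer ((S : Subgroup G) : Set G))) :
    ∃ (π : centralizer ({t} : Set G) →* DihedralGroup (2 ^ m))
      (σ : DihedralGroup (2 ^ m) →* centralizer ({t} : Set G)) (F0 : Subgroup π.ker),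
      Defs.Setup π σ F0 ∧ (Defs.sec σ).range = S ∧
        (⊤ : Subgroup π.ker).map (Defs.inc π) = Kc t ∧ F0.map (Defs.inc π) = F₀ := by
  obtain ⟨π, h⟩ := BGStructure.exists_hyp S m hm eS hone t ht
  have : NeZero (2 ^ m) := ⟨by positivity⟩
  obtain ⟨e⟩ := eS
  have hcard : Nat.card (S : Subgroup G) = 2 * 2 ^ m := by
    rw [Nat.card_congr e.toEquiv, DihedralGroup.nat_card]
  obtain ⟨σ, hσ, hσS⟩ := exists_section h hSt S.2 hcard
  have hmap := map_top_inc h
  have hmem : ∀ k : π.ker, Defs.inc π k ∈ Kc t := fun k => by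
    rw [← hmap]; exact ⟨k, mem_top _, rfl⟩
  -- decomposition
  have hdec : ∀ k : π.ker, ∃ f : π.ker, Defs.inc π f ∈ F₀ ∧ ∃ c : π.ker,
      (∀ s ∈ (S : Subgroup G), s * Defs.inc π c = Defs.inc π c * s) ∧ k = f * c := by
    intro k
    obtain ⟨a, ha, b, hb, hab⟩ := exists_mul_of_mem_sup
      (inf_le_left.trans ((Kc_le t).trans hFn)) (hgen (hmem k))
    obtain ⟨f, -, hf⟩ : a ∈ (⊤ : Subgroup π.ker).map (Defs.inc π) := by rw [hmap]; exact hF ha
    obtain ⟨c, -, hc⟩ : b ∈ (⊤ : Subgroup π.ker).map (Defs.inc π) := by rw [hmap]; exact hb.1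
    refine ⟨f, hf ▸ ha, c, ?_, ?_⟩
    · intro s hs
      rw [hc]
      exact (mem_centralizer_iff.1 hb.2) s hs
    · apply inc_injective π
      rw [hab, map_mul, hf, hc]
  have hsecS : ∀ d, Defs.sec σ d ∈ (S : Subgroup G) := fun d => by
    rw [← hσS]; exact ⟨d, rfl⟩
  -- the reflections
  have hord : ∀ j, orderOf (Defs.sec σ (sr j)) = 2 := by
    intro j
    apply orderOf_eq_prime
    · rw [sq, ← map_mul, sr_mul_self, map_one]
    · intro h1
      have h2 : σ (sr j) = 1 := Subtype.ext h1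
      have h3 : (sr j : DihedralGroup (2 ^ m)) = 1 := by rw [← hσ (sr j), h2, map_one]
      rw [DihedralGroup.one_def] at h3
      cases h3
  have hne : ∀ j, Defs.sec σ (sr j) ≠ t := by
    intro j h1
    have h2 := h.map_t (mem_centralizer_singleton_iff.2 rfl)
    have h3 : σ (sr j) = ⟨t, mem_centralizer_singleton_iff.2 rfl⟩ := Subtype.ext h1
    rw [← h3, hσ] at h2
    cases h2
  have hactF : ∀ j, ∀ f : π.ker, Defs.inc π f ∈ F₀ → act π σ (sr j) f = f⁻¹ := by
    intro j f hf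
    apply inc_injective π
    rw [inc_act, map_inv]
    exact hinv _ (hsecS _) (hord j) (hne j) _ hf
  have hactC : ∀ d, ∀ c : π.ker, (∀ s ∈ (S : Subgroup G), s * Defs.inc π c = Defs.inc π c * s) →
      act π σ d c = c := by
    intro d c hc
    apply inc_injective π
    rw [inc_act, hc _ (hsecS d), mul_inv_cancel_right]
  refine ⟨π, σ, F₀.comap (Defs.inc π), ⟨h, hσ, ?_, ?_, ?_, ?_⟩, hσS, hmap, ?_⟩
  · -- the rotations
    intro j
    refine MulEquiv.ext fun k => ?_
    obtain ⟨f, hf, c, hc, rfl⟩ := hdec k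
    have h1 : (r j : DihedralGroup (2 ^ m)) = sr 0 * sr j := by
      rw [sr_mul_sr, sub_zero]
    rw [h1, map_mul (act π σ), MulAut.mul_apply, map_mul (act π σ (sr j)), hactF j f hf,
      hactC _ c hc, map_mul, map_inv, hactF 0 f hf, hactC _ c hc, inv_inv, MulAut.one_apply]
  · -- normal
    refine ⟨fun f hf k => ?_⟩
    rw [mem_comap] at hf ⊢
    rw [map_mul, map_mul, map_inv]
    have h1 : Defs.inc π k ∈ normalizer (F₀ : Set G) :=
      hFn (k : centralizer ({t} : Set G)).2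
    exact (mem_normalizer_iff.1 h1 _).1 hf
  · intro f hf
    exact hactF 0 f hf
  · intro k
    obtain ⟨f, hf, c, hc, hk⟩ := hdec k
    exact ⟨f, hf, c, hactC _ c hc, hk⟩
  · ext x
    constructor
    · rintro ⟨f, hf, rfl⟩
      exact hf
    · intro hx
      obtain ⟨f, -, hf⟩ : x ∈ (⊤ : Subgroup π.ker).map (Defs.inc π) := by rw [hmap]; exact hF hx
      exact ⟨f, by rw [SetLike.mem_coe, mem_comap, hf]; exact hx, hf⟩

/-- The conclusion of (L1*) in subgroup language. -/
theorem concl {G : Type*} [Group G] {t : G} {n : ℕ}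
    {π : (centralizer ({t} : Set G)) →* DihedralGroup n}
    {σ : DihedralGroup n →* (centralizer ({t} : Set G))} {F0 : Subgroup π.ker} {S : Subgroup G}
    (_hs : Defs.Setup π σ F0) (hR : (Defs.sec σ).range = S)
    (hK : (⊤ : Subgroup π.ker).map (Defs.inc π) = Kc t)
    (h : ∀ c, Defs.tau π σ c = c → c = 1) :
    Kc t ⊓ centralizer (S : Set G) = ⊥ := by
  rw [eq_bot_iff]
  rintro x ⟨hxK, hxS⟩
  rw [SetLike.mem_coe, ← hK] at hxK
  obtain ⟨c, -, rfl⟩ := hxK
  have h1 : c = 1 := by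
    apply h
    apply inc_injective π
    show Defs.inc π (act π σ (sr 0) c) = Defs.inc π c
    rw [inc_act]
    have h2 : Defs.sec σ (sr 0) ∈ S := by rw [← hR]; exact ⟨_, rfl⟩
    rw [(mem_centralizer_iff.1 hxS) _ h2, mul_inv_cancel_right]
  rw [mem_bot, h1, map_one]

end Cfsg.Agent.Classification.TypeZIV.Setup
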